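import Cfsg.Agent.CrossChar56.OrthDeg.Trace

/-!
The anisotropic vectors of one value cannot be the whole spectrum, `q ≤ 3`.
-/

set_option autoImplicit false

noncomputable section

namespace Cfsg.Agent.CrossChar56.OrthDeg

open QuadraticMap
open Cfsg.Agent.UnitaryOrthogonal
open scoped Classical Matrix
open scoped commutatorElement

variable {F U : Type*} [Field F] [Fintype F] [AddCommGroup U] [Module F U] [Finite U]
  {M : QuadraticForm F U} {d : ℕ}

/-- a hyperbolic pair's worth of room in a hyperplane -/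
theorem exists_pair_perp (hP : PolarND M) (hU : Fintype.card F ^ 2 < Nat.card U) {m : U}
    (hm : m ≠ 0) :
    ∃ t t' : U, polar M t m = 0 ∧ polar M t' m = 0 ∧ polar M t t' = -1 := by
  by_contra hcon
  push Not at hcon
  have hzero : ∀ t t' : U, polar M t m = 0 → polar M t' m = 0 → polar M t t' = 0 := by
    intro t t' h h'
    by_contra hne
    exact hcon t ((-1 / polar M t t') • t') h
      (by rw [polar_smul_left, h', smul_zero])
      (by rw [polar_smul_right, smul_eq_mul, div_mul_cancel₀ _ hne])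
  obtain ⟨u₀, hu₀⟩ : ∃ u₀, polar M u₀ m = 1 := by
    obtain ⟨u, hu⟩ : ∃ u, polar M m u ≠ 0 := by
      by_contra hc
      push Not at hc
      exact hm (hP m hc)
    exact ⟨(1 / polar M m u) • u, by
      rw [polar_smul_left, polar_comm M u m, smul_eq_mul, div_mul_cancel₀ _ hu]⟩
  -- every vector orthogonal to `m` is a multiple of `m`
  have hline : ∀ t : U, polar M t m = 0 → t = polar M t u₀ • m := by
    intro t ht
    rw [← sub_eq_zero]
    refine hP _ fun x => ?_
    have h1 : polar M t (x - polar M x m • u₀) = 0 := hzero t _ ht (by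
      rw [polar_sub_left, polar_smul_left, hu₀, smul_eq_mul, mul_one, sub_self])
    rw [polar_sub_right, polar_smul_right, sub_eq_zero] at h1
    rw [polar_sub_left, polar_smul_left, h1, polar_comm _ m x, smul_eq_mul, smul_eq_mul]
    ring
  have hle : Nat.card U ≤ Nat.card (F × F) := by
    refine Nat.card_le_card_of_injective
      (fun x => (polar M x m, polar M (x - polar M x m • u₀) u₀)) fun x x' h => ?_
    simp only [Prod.mk.injEq] at h
    have e : ∀ y : U, y - polar M y m • u₀ = polar M (y - polar M y m • u₀) u₀ • m := fun y =>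
      hline _ (by rw [polar_sub_left, polar_smul_left, hu₀, smul_eq_mul, mul_one, sub_self])
    have h2 := e x
    rw [h.2, ← e x', h.1] at h2
    exact sub_left_inj.1 h2
  rw [Nat.card_prod, Nat.card_eq_fintype_card (α := F)] at hle
  rw [_root_.sq] at hU
  omega

omit [Fintype F] [Finite U] in
/-- vectors of value `c` orthogonal to an isotropic vector -/
theorem card_perp_level [Finite F] [Finite U] (S : Setup M) {w : W₂ F U} (hw : P₂ M w = 0)
    (hw0 : w ≠ 0) (c : F) :
    Nat.card {v : W₂ F U // P₂ M v = c ∧ polar (P₂ M) v w = 0} = Nat.card F * level (hyp M) c := by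
  obtain ⟨r, hr, hrw⟩ := S.trans₂ (eVec F (W₁ F U)) w eVec_ne_zero hw0 (by rw [hyp_eVec, hw])
  have e : Nat.card {v : W₂ F U // P₂ M v = c ∧ polar (P₂ M) v w = 0} =
      Nat.card {v : W₂ F U // P₂ M v = c ∧ polar (P₂ M) v (eVec F (W₁ F U)) = 0} :=
    (Nat.card_congr (r.1.toEquiv.subtypeEquiv fun v => by
      show _ ↔ P₂ M (r.1 v) = c ∧ polar (P₂ M) (r.1 v) w = 0
      rw [map_form, ← hrw, map_polar])).symm
  rw [e, level, ← Nat.card_prod]
  refine Nat.card_congr
    { toFun := fun v => (v.1.1.1, ⟨v.1.2, ?_⟩)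
      invFun := fun p => ⟨((p.1, 0), p.2.1), by simp [p.2.2], by rw [polar_comm, polar_eVec]⟩
      left_inv := ?_
      right_inv := fun p => rfl }
  · have h := v.2.1
    have hy := v.2.2
    rw [polar_comm, polar_eVec] at hy
    rw [hyp_apply, hy, mul_zero, zero_add] at h
    exact h
  · rintro ⟨⟨⟨x, y⟩, z⟩, h, hy⟩
    rw [polar_comm, polar_eVec] at hy
    simp only at hy
    subst hy
    rfl

variable [Fintype (GG M)] [Fintype (W₂ F U)] {τ : GG M →* GL (Fin d) ℂ} {ψ : AddChar F ℂ}

omit [Fintype (GG M)] in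
/-- the long root element fixing an anisotropic vector acts trivially on its eigenline -/
theorem ee_fix_line (S : Setup M) (hU : Fintype.card F ^ 2 < Nat.card U) {v : W₂ F U}
    (hv : P₂ M v ≠ 0)
    (hrv : (⟨ee (hyp M) (eVec F U), ee_mem _⟩ : ↥(eichGroup (P₂ M))).1.1 v = v)
    (hone : Module.finrank ℂ (Ev τ ψ v) = 1) {x : Fin d → ℂ} (hx : x ∈ Ev τ ψ v) :
    ap τ (LL M ⟨ee (hyp M) (eVec F U), ee_mem _⟩) x = x := by
  by_cases hx0 : x = 0
  · rw [hx0, ap_zero]
  change (ee (hyp M) (eVec F U)).1 v = v at hrv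
  rw [ee_apply] at hrv
  have hy : v.1.2 = 0 := by
    have h := congrArg (fun u => u.2.1.1) hrv
    simpa [eVec] using h
  have hz : v.2.1.2 = 0 := by
    have h := congrArg (fun u => u.1.1) hrv
    simpa [polar_eVec, hy] using h
  have hm : v.2.2 ≠ 0 := by
    intro e
    apply hv
    rw [hyp_apply, hyp_apply, hy, hz, e, QuadraticMap.map_zero, mul_zero, mul_zero, add_zero,
      add_zero]
  obtain ⟨t, t', ht, ht', htt⟩ := exists_pair_perp S.polarND hU hm
  -- the two elements
  let k : ↥(eichGroup (P₂ M)) := ⟨emb (ee M t), emb_mem (ee_mem t)⟩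
  let A : ↥(eichGroup (P₂ M)) := ⟨ee (hyp M) (inW t'), ee_mem _⟩
  have hk : k.1.1 v = v := by
    show (emb (ee M t)).1 v = v
    obtain ⟨⟨a, b⟩, ⟨⟨c, e⟩, m⟩⟩ := v
    simp only at hy hz ht
    subst hy hz
    rw [emb_apply, ee_apply]
    simp [ht]
  have hA : A.1.1 v = v := by
    show (ee (hyp M) (inW t')).1 v = v
    obtain ⟨⟨a, b⟩, z⟩ := v
    simp only at hy ht'
    subst hy
    rw [ee_apply]
    have : polar (hyp M) (inW t') z = 0 := by
      rw [polar_hyp]
      simpa [inW_apply] using ht'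
    simp [this]
  obtain ⟨σ, hσ⟩ : ∃ σ : ↥(eichGroup (P₂ M)) →* GL (Fin d) ℂ, σ = τ.comp (LL M) := ⟨_, rfl⟩
  have hap : ∀ s y, ap σ s y = ap τ (LL M s) y := fun s y => by rw [hσ]; rfl
  have hscal : ∀ s : ↥(eichGroup (P₂ M)), s.1.1 v = v → ∃ c : ℂ, ap σ s x = c • x := by
    intro s hs
    have h := LL_mem_Ev τ ψ hx s
    rw [hs] at h
    obtain ⟨c, hc⟩ := exists_smul_eq_of_finrank_eq_one hone
      (x := (⟨x, hx⟩ : Ev τ ψ v)) (fun e => hx0 (congrArg Subtype.val e)) ⟨_, h⟩
    exact ⟨c, by rw [hap]; exact (congrArg Subtype.val hc).symm⟩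
  have e : (⟨ee (hyp M) (eVec F U), ee_mem _⟩ : ↥(eichGroup (P₂ M))) = ⁅k, A⁆ := by
    apply Subtype.ext
    show ee (hyp M) (eVec F U) = ⁅emb (ee M t), ee (hyp M) (inW t')⁆
    rw [commutatorElement_def, conj_emb_ee, ← ee_neg, ← ee_add]
    congr 1
    rw [ee_apply]
    simp [inW_apply, eVec, htt]
  rw [← hap, e]
  exact commutator_fix σ hx0 (hscal k hk) (hscal A hA)

/-- one anisotropic class cannot be the whole spectrum -/
theorem no_single_aniso (S : Setup M) (hψ : ψ.IsPrimitive)
    (hU : Fintype.card F ^ 2 < Nat.card U) (hsq : ∀ l : F, l ≠ 0 → l * l = 1) {c : F} (hc : c ≠ 0)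
    (hone : ∀ v, P₂ M v = c → Module.finrank ℂ (Ev τ ψ v) = 1)
    (hzero : ∀ v, P₂ M v ≠ c → Module.finrank ℂ (Ev τ ψ v) = 0) : False := by
  obtain ⟨g, hge, hgf, -, -⟩ := exists_plane_swap S
  obtain ⟨r, hr⟩ : ∃ r : ↥(eichGroup (P₂ M)), r = ⟨ee (hyp M) (eVec F U), ee_mem _⟩ := ⟨_, rfl⟩
  -- the conjugate in the radical
  obtain ⟨x, hx⟩ : ∃ x, (g.1⁻¹).1 (inW (inW (eVec F U))) = x := ⟨_, rfl⟩
  have hgx : g.1.1 x = inW (inW (eVec F U)) := by rw [← hx, coe_apply_inv_apply]
  obtain ⟨w, hw⟩ : ∃ w, w = x.2 := ⟨_, rfl⟩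
  have hxw : x = inW w := by
    have a1 := map_polar g.1 (eVec F (W₂ F U)) x
    rw [hge, hgx, polar_hyp_inW, polar_eVec_inW, polar_eVec] at a1
    have a5 := map_polar g.1 (fVec F (W₂ F U)) x
    rw [hgf, hgx, polar_hyp_inW, polar_fVec_inW, polar_fVec] at a5
    rw [hw]
    exact Prod.ext (Prod.ext a5.symm a1.symm) rfl
  have hwQ : P₂ M w = 0 := by
    rw [← hyp_inW (P := P₂ M) w, ← hxw, ← map_form g.1 x, hgx, hyp_inW, hyp_inW, hyp_eVec]
  have hw0 : w ≠ 0 := by
    intro e
    have : inW (F := F) (inW (F := F) (eVec F U)) = 0 := by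
      rw [← hgx, hxw, e, map_zero, map_zero]
    exact eVec_ne_zero (F := F) (W := U) (congrArg (fun u => u.2.2) this)
  have hconj : g⁻¹ * LL M r * g = EE M w := by
    rw [hr]
    apply Subtype.ext
    show g.1⁻¹ * emb (eich (P₂ M) (eVec F (W₁ F U)) (inW (eVec F U))) * g.1 =
      eich (Q₃ M) (eVec F (W₂ F U)) (inW w)
    rw [emb_eich hyp_eVec (polar_eVec_inW _)]
    show g.1⁻¹ * eich (Q₃ M) (inW (v₀ F U)) (inW (inW (eVec F U))) * g.1 = _
    nth_rw 2 [← inv_inv g.1]
    rw [conj_eich, hx, hxw]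
    congr 1
    rw [← hge, coe_inv_apply_apply]
  have htr : (RE τ w).trace = (τ (LL M r) : Matrix (Fin d) (Fin d) ℂ).trace := by
    rw [RE, ← hconj, map_mul, map_mul, Units.val_mul, Units.val_mul, Matrix.trace_mul_cycle,
      ← Units.val_mul, ← map_mul, mul_inv_cancel, map_one, Units.val_one, Matrix.one_mul]
  rw [trace_EE τ S hψ, trace_LL τ S hψ r (fun v hv y hy => by
    by_cases hvc : P₂ M v = c
    · rw [hr] at hv ⊢
      exact ee_fix_line S hU (hvc ▸ hc) hv (hone v hvc) hy
    · rw [Submodule.finrank_eq_zero.1 (hzero v hvc), Submodule.mem_bot] at hy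
      rw [hy, ap_zero])] at htr
  have hfin : ∀ v, (Module.finrank ℂ (Ev τ ψ v) : ℂ) = if P₂ M v = c then 1 else 0 := by
    intro v
    split_ifs with h
    · simp [hone v h]
    · simp [hzero v h]
  -- the right hand side
  have hR : ∑ v, (if r.1.1 v = v then (Module.finrank ℂ (Ev τ ψ v) : ℂ) else 0) =
      (Fintype.card F : ℂ) * ((Fintype.card F : ℂ) * level M c) := by
    simp only [hfin, ← ite_and]
    rw [← Finset.sum_filter, Finset.sum_const, nsmul_one, ← Fintype.card_subtype,
      ← Nat.card_eq_fintype_card, level, ← Nat.card_eq_fintype_card (α := F), ← Nat.cast_mul,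
      ← Nat.cast_mul, ← Nat.card_prod, ← Nat.card_prod]
    congr 1
    have hfix : ∀ v : W₂ F U, r.1.1 v = v ↔ v.1.2 = 0 ∧ v.2.1.2 = 0 := by
      intro v
      rw [hr]
      show (ee (hyp M) (eVec F U)).1 v = v ↔ _
      obtain ⟨⟨a, b⟩, ⟨⟨e, f⟩, m⟩⟩ := v
      have h1 : polar (hyp M) (eVec F U) ((e, f), m) = f := polar_eVec _
      rw [ee_apply]
      simp only [h1, hyp_eVec, zero_mul, sub_zero]
      constructor
      · intro h
        have hb : b = 0 := by simpa [eVec] using congrArg (fun u => u.2.1.1) h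
        have hf : a - f = a := congrArg (fun u => u.1.1) h
        exact ⟨hb, sub_eq_self.1 hf⟩
      · rintro ⟨rfl, rfl⟩
        simp
    refine Nat.card_congr
      { toFun := fun v => (v.1.1.1, v.1.2.1.1, ⟨v.1.2.2, ?_⟩)
        invFun := fun p => ⟨((p.1, 0), ((p.2.1, 0), p.2.2.1)), (hfix _).2 ⟨rfl, rfl⟩,
          by simp [p.2.2.2]⟩
        left_inv := ?_
        right_inv := fun p => rfl }
    · obtain ⟨h1, h2⟩ := (hfix v.1).1 v.2.1
      have h := v.2.2
      rw [hyp_apply, hyp_apply, h1, h2, mul_zero, mul_zero, zero_add, zero_add] at h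
      exact h
    · rintro ⟨⟨⟨a, b⟩, ⟨⟨e, f⟩, m⟩⟩, hfx, hP⟩
      obtain ⟨h1, h2⟩ := (hfix _).1 hfx
      simp only at h1 h2
      subst h1 h2
      rfl
  -- the left hand side
  have hL : ((Fintype.card F : ℂ) - 1) * ∑ v, ψ (polar (P₂ M) v w) * (Module.finrank ℂ (Ev τ ψ v) : ℂ) =
      (Fintype.card F : ℂ) * ((Fintype.card F : ℂ) * level (hyp M) c) - level (P₂ M) c := by
    simp only [hfin, mul_ite, mul_one, mul_zero, ← Finset.sum_filter]
    set C := Finset.univ.filter (fun v : W₂ F U => P₂ M v = c) with hC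
    have hsc : ∀ l : F, l ≠ 0 → ∑ v ∈ C, ψ (l * polar (P₂ M) v w) = ∑ v ∈ C, ψ (polar (P₂ M) v w) := by
      intro l hl
      have hmem : ∀ v ∈ C, l • v ∈ C := by
        intro v hv
        simp only [hC, Finset.mem_filter, Finset.mem_univ, true_and] at hv ⊢
        rw [form_smul, hsq l hl, one_mul, hv]
      refine Finset.sum_bij' (fun v _ => l • v) (fun v _ => l • v) hmem hmem
        (fun v _ => by rw [smul_smul, hsq l hl, one_smul])
        (fun v _ => by rw [smul_smul, hsq l hl, one_smul])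
        (fun v _ => by rw [polar_smul_left, smul_eq_mul])
    have h1 : ∑ l : F, ∑ v ∈ C, ψ (l * polar (P₂ M) v w) =
        (Fintype.card F : ℂ) * (C.filter fun v => polar (P₂ M) v w = 0).card := by
      rw [Finset.sum_comm, Finset.card_filter, Nat.cast_sum, Finset.mul_sum]
      refine Finset.sum_congr rfl fun v _ => ?_
      rw [AddChar.sum_mulShift _ hψ]
      split_ifs <;> simp
    rw [← Finset.add_sum_erase _ _ (Finset.mem_univ (0 : F)),
      Finset.sum_congr rfl (fun l hl => hsc l (Finset.mem_erase.1 hl).1), Finset.sum_const,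
      Finset.card_erase_of_mem (Finset.mem_univ _), Finset.card_univ, nsmul_eq_mul,
      Nat.cast_sub (Fintype.card_pos (α := F))] at h1
    simp only [zero_mul, AddChar.map_zero_eq_one, Finset.sum_const, nsmul_one, Nat.cast_one] at h1
    have e1 : (C.filter fun v => polar (P₂ M) v w = 0).card = Fintype.card F * level (hyp M) c := by
      rw [← Nat.card_eq_fintype_card, ← card_perp_level S hwQ hw0 c, Nat.card_eq_fintype_card,
        Fintype.card_subtype, hC, Finset.filter_filter]
    have e2 : C.card = level (P₂ M) c := by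
      rw [level, Nat.card_eq_fintype_card, Fintype.card_subtype, hC]
    rw [e1, e2, Nat.cast_mul] at h1
    linear_combination h1
  rw [hR] at htr
  rw [htr] at hL
  simp only [level_hyp, Nat.card_prod, Nat.card_eq_fintype_card (α := F)] at hL
  push_cast [Nat.cast_sub (Fintype.card_pos (α := F))] at hL
  have h1 : ((Fintype.card F : ℂ) - 1) * ((Fintype.card F : ℂ) * Nat.card U) = 0 := by
    linear_combination hL
  rw [mul_eq_zero, sub_eq_zero, mul_eq_zero] at h1
  have hq := Fintype.one_lt_card (α := F)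
  rcases h1 with h1 | h1 | h1
  · have : Fintype.card F = 1 := by exact_mod_cast h1
    omega
  · exact absurd h1 (Nat.cast_ne_zero.2 Fintype.card_ne_zero)
  · exact absurd h1 (Nat.cast_ne_zero.2 Nat.card_pos.ne')

end Cfsg.Agent.CrossChar56.OrthDeg
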