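import Cfsg.Agent.CrossChar56.OrthDeg.Setup

/-!
Orbits on pairs of singular vectors and the intersection numbers.
-/

set_option autoImplicit false

namespace Cfsg.Agent.CrossChar56.OrthDeg

open QuadraticMap
open Cfsg.Agent.UnitaryOrthogonal

variable {F W : Type*} [Field F] [AddCommGroup W] [Module F W]

/-- the non-zero singular vectors -/
abbrev Sing {V : Type*} [AddCommGroup V] [Module F V] (Q : QuadraticForm F V) :=
  {a : V // Q a = 0 ∧ a ≠ 0}

/-- the two vectors are proportional -/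
def Par {V : Type*} [AddCommGroup V] [Module F V] (a b : V) : Prop := ∃ l : F, b = l • a

theorem not_par_inW {w : W} (hw : w ≠ 0) (x : F) :
    ¬ Par (F := F) (eVec F W) (x • eVec F W + inW w) := by
  rintro ⟨l, hl⟩
  exact hw (by simpa [eVec, inW_apply] using congrArg Prod.snd hl)

section counts

variable [Finite F] [Finite W] (P : QuadraticForm F W)

theorem card_sing : Nat.card (Sing P) = level P 0 - 1 := card_nonzero_singular P

/-- singular vectors orthogonal to `e`, not proportional to it -/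
theorem card_perp :
    Nat.card {c : Sing (hyp P) // polar (hyp P) (eVec F W) c.1 = 0 ∧
      ¬ Par (F := F) (eVec F W) c.1} = Nat.card F * Nat.card (Sing P) := by
  rw [← Nat.card_prod]
  refine Nat.card_congr
    { toFun := fun c => (c.1.1.1.1, ⟨c.1.1.2, ?_, ?_⟩)
      invFun := fun p => ⟨⟨((p.1, 0), p.2.1), by simp [p.2.2.1], fun h =>
        p.2.2.2 (congrArg Prod.snd h)⟩, by simp, ?_⟩
      left_inv := ?_
      right_inv := fun p => rfl }
  · have h := c.1.2.1
    have hy := c.2.1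
    rw [polar_eVec] at hy
    rw [hyp_apply, hy, mul_zero, zero_add] at h
    exact h
  · intro h0
    have hy := c.2.1
    rw [polar_eVec] at hy
    exact c.2.2 ⟨c.1.1.1.1, Prod.ext (Prod.ext (by simp [eVec]) (by simp [eVec, hy]))
      (by simp [eVec, h0])⟩
  · rintro ⟨l, hl⟩
    exact p.2.2.2 (by simpa [eVec] using congrArg Prod.snd hl)
  · rintro ⟨⟨⟨⟨x, y⟩, w⟩, h⟩, hy, hp⟩
    rw [polar_eVec] at hy
    simp only at hy
    subst hy
    rfl

/-- singular vectors orthogonal to `e` and to `f` -/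
theorem card_perp_opp (c₀ : F) (hc : c₀ ≠ 0) :
    Nat.card {c : Sing (hyp P) // (polar (hyp P) (eVec F W) c.1 = 0 ∧
        ¬ Par (F := F) (eVec F W) c.1) ∧
      (polar (hyp P) c.1 (c₀ • fVec F W) = 0 ∧ ¬ Par (F := F) c.1 (c₀ • fVec F W))} =
      Nat.card (Sing P) := by
  refine Nat.card_congr
    { toFun := fun c => ⟨c.1.1.2, ?_, ?_⟩
      invFun := fun p => ⟨⟨((0, 0), p.1), by simp [p.2.1], fun h =>
        p.2.2 (congrArg Prod.snd h)⟩, ⟨by simp, ?_⟩, by simp [polar_hyp, fVec], ?_⟩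
      left_inv := ?_
      right_inv := fun p => rfl }
  · have h := c.1.2.1
    have hy := c.2.1.1
    rw [polar_eVec] at hy
    rw [hyp_apply, hy, mul_zero, zero_add] at h
    exact h
  · intro h0
    have hy := c.2.1.1
    rw [polar_eVec] at hy
    exact c.2.1.2 ⟨c.1.1.1.1, Prod.ext (Prod.ext (by simp [eVec]) (by simp [eVec, hy]))
      (by simp [eVec, h0])⟩
  · rintro ⟨l, hl⟩
    exact p.2.2 (by simpa [eVec] using congrArg Prod.snd hl)
  · rintro ⟨l, hl⟩
    have := congrArg (fun v => v.1.2) hl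
    simp [fVec] at this
    exact hc this
  · rintro ⟨⟨⟨⟨x, y⟩, w⟩, h⟩, ⟨hy, -⟩, hx, -⟩
    rw [polar_eVec] at hy
    simp only at hy
    have hx' : x = 0 := by simpa [polar_hyp, fVec, hc] using hx
    subst hy hx'
    rfl

/-- singular vectors of `W` orthogonal to `e_W`, with the zero vector -/
theorem card_level_eVec :
    Nat.card {w : (F × F) × W // hyp P w = 0 ∧ polar (hyp P) w (eVec F W) = 0} =
      Nat.card F * level P 0 := by
  rw [level, ← Nat.card_prod]
  refine Nat.card_congr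
    { toFun := fun c => (c.1.1.1, ⟨c.1.2, ?_⟩)
      invFun := fun p => ⟨((p.1, 0), p.2.1), by simp [p.2.2], by rw [polar_comm, polar_eVec]⟩
      left_inv := ?_
      right_inv := fun p => rfl }
  · have h := c.2.1
    have hy := c.2.2
    rw [polar_comm, polar_eVec] at hy
    rw [hyp_apply, hy, mul_zero, zero_add] at h
    exact h
  · rintro ⟨⟨⟨x, y⟩, w⟩, h, hy⟩
    rw [polar_comm, polar_eVec] at hy
    simp only at hy
    subst hy
    rfl

theorem card_level_eVec_pred :
    Nat.card {w : Sing (hyp P) // polar (hyp P) w.1 (eVec F W) = 0} + 1 =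
      Nat.card F * level P 0 := by
  classical
  haveI := Fintype.ofFinite ((F × F) × W)
  rw [← card_level_eVec]
  let e : {w : Sing (hyp P) // polar (hyp P) w.1 (eVec F W) = 0} ⊕ PUnit.{1} ≃
      {w : (F × F) × W // hyp P w = 0 ∧ polar (hyp P) w (eVec F W) = 0} :=
    { toFun := Sum.elim (fun w => ⟨w.1.1, w.1.2.1, w.2⟩) (fun _ => ⟨0, by simp⟩)
      invFun := fun w => if h : w.1 = 0 then Sum.inr PUnit.unit else Sum.inl ⟨⟨w.1, w.2.1, h⟩, w.2.2⟩
      left_inv := by
        rintro (⟨⟨w, hw, hw0⟩, h⟩ | u)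
        · simp [hw0]
        · simp
      right_inv := by
        rintro ⟨w, hw⟩
        by_cases h : w = 0 <;> simp [h] }
  rw [← Nat.card_congr e, Nat.card_sum, Nat.card_eq_fintype_card (α := PUnit.{1}),
    Fintype.card_punit]

/-- singular vectors orthogonal to `e` and `e_W`, proportional to neither -/
theorem card_perp_perp :
    Nat.card {c : Sing (hyp (hyp P)) //
        (polar (hyp (hyp P)) (eVec F ((F × F) × W)) c.1 = 0 ∧
          ¬ Par (F := F) (eVec F ((F × F) × W)) c.1) ∧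
        (polar (hyp (hyp P)) c.1 (inW (eVec F W)) = 0 ∧
          ¬ Par (F := F) c.1 (inW (eVec F W)))} + (Nat.card F - 1) + Nat.card F =
      Nat.card F * (Nat.card F * level P 0) := by
  classical
  let S := {w : Sing (hyp P) // polar (hyp P) w.1 (eVec F W) = 0}
  have hmid : Nat.card {c : Sing (hyp (hyp P)) //
        (polar (hyp (hyp P)) (eVec F ((F × F) × W)) c.1 = 0 ∧
          ¬ Par (F := F) (eVec F ((F × F) × W)) c.1) ∧
        (polar (hyp (hyp P)) c.1 (inW (eVec F W)) = 0 ∧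
          ¬ Par (F := F) c.1 (inW (eVec F W)))} =
      Nat.card {p : F × S // ¬ (p.1 = 0 ∧ Par (F := F) p.2.1.1 (eVec F W))} := by
    refine Nat.card_congr
      { toFun := fun c => ⟨(c.1.1.1.1, ⟨⟨c.1.1.2, ?_, ?_⟩, ?_⟩), ?_⟩
        invFun := fun p => ⟨⟨((p.1.1, 0), p.1.2.1.1), by simp [p.1.2.1.2.1], fun h =>
          p.1.2.1.2.2 (congrArg Prod.snd h)⟩, ⟨by simp, ?_⟩, ?_, ?_⟩
        left_inv := ?_
        right_inv := fun p => rfl }
    · have h := c.1.2.1
      have hy := c.2.1.1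
      rw [polar_eVec] at hy
      rw [hyp_apply, hy, mul_zero, zero_add] at h
      exact h
    · intro h0
      have hy := c.2.1.1
      rw [polar_eVec] at hy
      exact c.2.1.2 ⟨c.1.1.1.1, Prod.ext (Prod.ext (by simp [eVec]) (by simp [eVec, hy]))
        (by simp [eVec, h0])⟩
    · have hy := c.2.1.1
      rw [polar_eVec] at hy
      have h2 := c.2.2.1
      rw [polar_hyp] at h2
      simpa [inW_apply, hy] using h2
    · rintro ⟨hx, l, hl⟩
      simp only at hx hl
      have hy := c.2.1.1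
      rw [polar_eVec] at hy
      exact c.2.2.2 ⟨l, Prod.ext (Prod.ext (by simp [inW_apply, hx]) (by simp [inW_apply, hy]))
        (by simpa [inW_apply] using hl)⟩
    · rintro ⟨l, hl⟩
      exact p.1.2.1.2.2 (by simpa [eVec] using congrArg Prod.snd hl)
    · rw [polar_hyp]
      simpa [inW_apply] using p.1.2.2
    · rintro ⟨l, hl⟩
      refine p.2 ⟨?_, l, by simpa [inW_apply] using congrArg Prod.snd hl⟩
      have := congrArg (fun v => v.1.1) hl
      simp [inW_apply] at this
      rcases this with h | h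
      · exfalso
        subst h
        exact eVec_ne_zero (F := F) (W := W) (by simpa [inW_apply] using congrArg Prod.snd hl)
      · exact h
    · rintro ⟨⟨⟨⟨x, y⟩, w⟩, h⟩, ⟨hy, -⟩, -⟩
      rw [polar_eVec] at hy
      simp only at hy
      subst hy
      rfl
  have hex : Nat.card {p : F × S // p.1 = 0 ∧ Par (F := F) p.2.1.1 (eVec F W)} =
      Nat.card F - 1 := by
    rw [← Nat.card_units F]
    refine (Nat.card_congr (Equiv.ofBijective (fun l : Fˣ => (⟨(0, ⟨⟨(l : F) • eVec F W,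
      by rw [form_smul, hyp_eVec, mul_zero], smul_ne_zero l.ne_zero eVec_ne_zero⟩,
      by rw [polar_smul_left, polar_self_eq, hyp_eVec, mul_zero, smul_zero]⟩), rfl,
      ((l⁻¹ : Fˣ) : F), by simp [smul_smul]⟩ :
        {p : F × S // p.1 = 0 ∧ Par (F := F) p.2.1.1 (eVec F W)})) ⟨?_, ?_⟩)).symm
    · intro l l' h
      have h2 : (l : F) • eVec F W = (l' : F) • eVec F W :=
        congrArg (fun p : {p : F × S // p.1 = 0 ∧ Par (F := F) p.2.1.1 (eVec F W)} => p.1.2.1.1) h
      exact Units.ext (smul_left_injective F eVec_ne_zero h2)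
    · rintro ⟨⟨x, ⟨⟨w, hw⟩, hS⟩⟩, hx, l, hl⟩
      simp only at hx hl
      subst hx
      have hl0 : l ≠ 0 := by
        rintro rfl
        exact eVec_ne_zero (hl.trans (zero_smul F w))
      refine ⟨(Units.mk0 l hl0)⁻¹, Subtype.ext (Prod.ext rfl (Subtype.ext (Subtype.ext ?_)))⟩
      show ((Units.mk0 l hl0)⁻¹ : Fˣ).val • eVec F W = w
      rw [hl, smul_smul]
      simp [hl0]
  have htot := Nat.card_congr
    (Equiv.sumCompl fun p : F × S => p.1 = 0 ∧ Par (F := F) p.2.1.1 (eVec F W))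
  rw [Nat.card_sum, hex, Nat.card_prod] at htot
  rw [hmid, ← card_level_eVec_pred, Nat.mul_add, mul_one, ← htot]
  ring

end counts

section pairs

variable {U : Type*} [AddCommGroup U] [Module F U] {M : QuadraticForm F U}

/-- orbits of the group on pairs of singular vectors -/
theorem pair_cases (h : Setup M) (a b : Sing (Q₃ M)) :
    (∃ l : F, l ≠ 0 ∧ b.1 = l • a.1) ∨
    ((polar (Q₃ M) a.1 b.1 = 0 ∧ ¬ Par (F := F) a.1 b.1) ∧ ∃ g : GG M,
      g.1.1 (eVec F (W₂ F U)) = a.1 ∧ g.1.1 (inW (eVec F (W₁ F U))) = b.1) ∨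
    (∃ c : F, c ≠ 0 ∧ polar (Q₃ M) a.1 b.1 = c ∧ ∃ g : GG M,
      g.1.1 (eVec F (W₂ F U)) = a.1 ∧ g.1.1 (c • fVec F (W₂ F U)) = b.1) := by
  by_cases hp : Par (F := F) a.1 b.1
  · obtain ⟨l, hl⟩ := hp
    exact Or.inl ⟨l, fun h0 => b.2.2 (by rw [hl, h0, zero_smul]), hl⟩
  right
  obtain ⟨g, hg, hga⟩ := h.trans₃ (eVec F (W₂ F U)) a.1 eVec_ne_zero a.2.2
    (by rw [hyp_eVec, a.2.1])
  obtain ⟨b', hb'⟩ : ∃ b', g.1 b' = b.1 := ⟨g⁻¹.1 b.1, coe_apply_inv_apply _ _⟩
  have hb'Q : Q₃ M b' = 0 := by rw [← map_form g, hb']; exact b.2.1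
  have hpol : polar (Q₃ M) a.1 b.1 = b'.1.2 := by
    rw [← hga, ← hb', map_polar, polar_eVec]
  obtain ⟨⟨x, y⟩, w⟩ := b'
  simp only at hpol
  by_cases hy : y = 0
  · left
    refine ⟨⟨hpol.trans hy, hp⟩, ?_⟩
    subst hy
    have hw0 : w ≠ 0 := by
      intro hw
      apply hp
      refine ⟨x, ?_⟩
      rw [← hga, ← hb', ← map_smul, hw]
      congr 1
      simp [eVec]
    have hwQ : P₂ M w = 0 := by simpa using hb'Q
    obtain ⟨r, hr, hrw⟩ := h.trans₂ (eVec F (W₁ F U)) w eVec_ne_zero hw0 (by rw [hyp_eVec, hwQ])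
    obtain ⟨z, hz⟩ : ∃ z, polar (P₂ M) z w = -x := by
      obtain ⟨y₀, hy₀⟩ : ∃ y₀, polar (P₂ M) y₀ w ≠ 0 := by
        by_contra hc
        push Not at hc
        exact hw0 (h.polarND.hyp.hyp w fun t => by rw [polar_comm]; exact hc t)
      exact ⟨(-x * (polar (P₂ M) y₀ w)⁻¹) • y₀, by
        rw [polar_smul_left, smul_eq_mul, mul_assoc, inv_mul_cancel₀ hy₀, mul_one]⟩
    refine ⟨⟨g * ee (P₂ M) z * emb r, mul_mem (mul_mem hg (ee_mem _)) (emb_mem hr)⟩, ?_, ?_⟩
    · rw [coe_mul_apply, coe_mul_apply, emb_eVec, ee_apply]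
      convert hga using 2
      simp [eVec]
    · rw [coe_mul_apply, coe_mul_apply, emb_apply, inW_apply, ee_apply]
      convert hb' using 2
      simp [hrw, hz]
  · right
    refine ⟨y, hy, hpol, ⟨g * ee (P₂ M) (y⁻¹ • w), mul_mem hg (ee_mem _)⟩, ?_, ?_⟩
    · rw [coe_mul_apply, ee_apply]
      convert hga using 2
      simp [eVec]
    · rw [coe_mul_apply, ee_apply]
      convert hb' using 2
      have hQ : x * y + P₂ M w = 0 := by simpa [hyp_apply] using hb'Q
      simp only [fVec, Prod.smul_mk, smul_eq_mul, mul_zero, mul_one, smul_zero, polar_zero_right,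
        zero_add, sub_zero, zero_sub, smul_smul, mul_inv_cancel₀ hy, one_smul, Prod.mk.injEq,
        and_true]
      rw [form_smul]
      field_simp
      linear_combination -hQ

end pairs

end Cfsg.Agent.CrossChar56.OrthDeg
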