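import Cfsg.Agent.CrossChar56.OrthDeg.FixedBound
import Cfsg.Agent.CrossChar56.SLExactMain

/-!
The eigenspaces of the unipotent radical in a representation.
-/

set_option autoImplicit false

noncomputable section

namespace Cfsg.Agent.CrossChar56.OrthDeg

open QuadraticMap
open Cfsg.Agent.UnitaryOrthogonal
open scoped Classical Matrix

variable {F U : Type*} [Field F] [Fintype F] [AddCommGroup U] [Module F U] [Finite U]
  {M : QuadraticForm F U} {d : ℕ}

/-- the character attached to a vector -/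
def chr (M : QuadraticForm F U) (ψ : AddChar F ℂ) (v : W₂ F U) : AddChar (W₂ F U) ℂ :=
  ψ.compAddMonoidHom (AddMonoidHom.mk' (fun w => polar (P₂ M) v w) (fun a b => polar_add_right _ v a b))

theorem chr_apply (ψ : AddChar F ℂ) (v w : W₂ F U) : chr M ψ v w = ψ (polar (P₂ M) v w) := rfl

theorem chr_injective (S : Setup M) {ψ : AddChar F ℂ} (hψ : ψ.IsPrimitive) :
    Function.Injective (chr M ψ) := by
  intro v v' h
  rw [← sub_eq_zero]
  refine S.polarND.hyp.hyp _ fun w => ?_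
  rw [polar_sub_left, sub_eq_zero]
  refine shift_inj hψ fun c => ?_
  have := DFunLike.congr_fun h (c • w)
  simpa [chr_apply, mul_comm] using this

theorem chr_surjective (S : Setup M) {ψ : AddChar F ℂ} (hψ : ψ.IsPrimitive) :
    Function.Surjective (chr M ψ) := by
  haveI : Fintype (W₂ F U) := Fintype.ofFinite _
  exact ((Fintype.bijective_iff_injective_and_card _).mpr
    ⟨chr_injective S hψ, AddChar.card_eq.symm⟩).2

variable [Fintype (GG M)] [Fintype (W₂ F U)] (τ : GG M →* GL (Fin d) ℂ) (ψ : AddChar F ℂ)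

/-- matrices of the root group at `e` -/
def RE (w : W₂ F U) : Matrix (Fin d) (Fin d) ℂ := τ (EE M w)

omit [Fintype F] [Finite U] [Fintype (GG M)] [Fintype (W₂ F U)] in
theorem RE_add (a b : W₂ F U) : RE τ (a + b) = RE τ a * RE τ b := by simp [RE, EE_add]

omit [Fintype F] [Finite U] [Fintype (GG M)] [Fintype (W₂ F U)] in
theorem RE_zero : RE τ (0 : W₂ F U) = 1 := by simp [RE, EE_zero]

/-- eigenspace of a vector -/
abbrev Ev (v : W₂ F U) : Submodule ℂ (Fin d → ℂ) := Cx.eig (RE τ) (chr M ψ v)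

omit [Fintype (GG M)] in
theorem mem_Ev {v : W₂ F U} {x : Fin d → ℂ} :
    x ∈ Ev τ ψ v ↔ ∀ w, ap τ (EE M w) x = ψ (polar (P₂ M) v w) • x := by
  constructor
  · intro hx a
    obtain ⟨w, rfl⟩ := LinearMap.mem_range.mp hx
    show RE τ a *ᵥ (Cx.proj (RE τ) (chr M ψ v) *ᵥ w) = _
    rw [Matrix.mulVec_mulVec, Cx.R_mul_proj (RE_add τ), Matrix.smul_mulVec]
    rfl
  · intro h
    refine LinearMap.mem_range.mpr ⟨((Fintype.card (W₂ F U) : ℂ))⁻¹ • x, ?_⟩
    have : Cx.proj (RE τ) (chr M ψ v) *ᵥ x = (Fintype.card (W₂ F U) : ℂ) • x := by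
      simp only [Cx.proj, Matrix.sum_mulVec, Matrix.smul_mulVec]
      have h' : ∀ a, chr M ψ v (-a) • (RE τ a *ᵥ x) = x := fun a => by
        show _ • ap τ (EE M a) x = x
        rw [h, chr_apply, smul_smul, ← AddChar.map_add_eq_mul, polar_neg_right, neg_add_cancel,
          AddChar.map_zero_eq_one, one_smul]
      simp [h', Finset.sum_const, ← Nat.cast_smul_eq_nsmul ℂ]
    rw [Matrix.mulVecLin_apply, Matrix.mulVec_smul, this, smul_smul,
      inv_mul_cancel₀ (Nat.cast_ne_zero.mpr Fintype.card_ne_zero), one_smul]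

omit [Fintype (GG M)] in
/-- elements preserving the two lines permute the eigenspaces -/
theorem mem_Ev_move {g : GG M} {l : F} (hl : l ≠ 0)
    (he : g.1.1 (eVec F (W₂ F U)) = l • eVec F (W₂ F U))
    (hf : g.1.1 (fVec F (W₂ F U)) = l⁻¹ • fVec F (W₂ F U)) {v : W₂ F U} {x : Fin d → ℂ}
    (hx : x ∈ Ev τ ψ v) : ap τ g x ∈ Ev τ ψ (l⁻¹ • gW g.1 v) := by
  rw [mem_Ev] at hx ⊢
  intro w
  have hsurj : Function.Surjective (gW g.1) := by
    refine Finite.surjective_of_injective fun a b hab => ?_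
    have h1 := gW_spec hl (inv_ne_zero hl) he hf a
    have h2 := gW_spec hl (inv_ne_zero hl) he hf b
    rw [hab, ← h2] at h1
    exact congrArg Prod.snd (g.1.1.injective h1)
  obtain ⟨z, hz⟩ := hsurj (l⁻¹ • w)
  have hw : w = l • gW g.1 z := by rw [hz, smul_smul, mul_inv_cancel₀ hl, one_smul]
  have e : EE M w * g = g * EE M z := by
    have h := conj_ee_of_lines hl (inv_ne_zero hl) he hf z
    rw [← hw] at h
    apply Subtype.ext
    show ee (P₂ M) w * g.1 = g.1 * ee (P₂ M) z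
    rw [← h, inv_mul_cancel_right]
  rw [← ap_mul, e, ap_mul, hx, ap_smul, hw, polar_smul_left, polar_smul_right,
    polar_gW hl (inv_ne_zero hl) he hf]
  simp [hl]

omit [Fintype (GG M)] in
theorem LL_mem_Ev {v : W₂ F U} {x : Fin d → ℂ} (hx : x ∈ Ev τ ψ v) (r : ↥(eichGroup (P₂ M))) :
    ap τ (LL M r) x ∈ Ev τ ψ (r.1.1 v) := by
  have h := mem_Ev_move τ ψ (g := LL M r) (l := 1) one_ne_zero
    (by rw [one_smul]; exact emb_eVec r.1) (by rw [inv_one, one_smul]; exact emb_fVec r.1) hx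
  rwa [inv_one, one_smul, show gW (LL M r).1 v = r.1.1 v from gW_emb r.1 v] at h

variable {ψ} (S : Setup M) (hψ : ψ.IsPrimitive)
include S hψ

/-- eigenvectors for distinct characters of a subgroup of `U` are orthogonal -/
theorem herm_eigen_eq_zero {A : Type*} (e : A → W₂ F U) (c₁ c₂ : A → ℂ) {x y : Fin d → ℂ}
    (hx : ∀ a, ap τ (EE M (e a)) x = c₁ a • x) (hy : ∀ a, ap τ (EE M (e a)) y = c₂ a • y)
    {a : A} (ha : star (c₁ a) * c₂ a ≠ 1) : herm τ x y = 0 := by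
  have h := herm_ap τ (EE M (e a)) x y
  rw [hx, hy, herm_smul_left, herm_smul_right, ← mul_assoc] at h
  exact (mul_left_eq_self₀.1 h).resolve_left ha

omit [Fintype (GG M)] S hψ in
theorem star_mul_ne_one {a b : F} (h : ψ a ≠ ψ b) : star (ψ a) * ψ b ≠ 1 := by
  have hc : star (ψ a) = (ψ a)⁻¹ := (AddChar.inv_apply_eq_conj ψ _).symm
  rw [hc]
  intro e
  apply h
  have ha : ψ a ≠ 0 := fun h0 => by simp [h0] at e
  exact (inv_mul_eq_one₀ ha).1 e

/-- eigenvectors for distinct vectors are orthogonal -/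
theorem herm_Ev {v w : W₂ F U} (hvw : v ≠ w) {x y : Fin d → ℂ}
    (hx : x ∈ Ev τ ψ v) (hy : y ∈ Ev τ ψ w) : herm τ x y = 0 := by
  obtain ⟨a, ha⟩ : ∃ a, chr M ψ v a ≠ chr M ψ w a := by
    by_contra hcon
    push Not at hcon
    exact hvw (chr_injective S hψ (DFunLike.ext _ _ hcon))
  exact herm_eigen_eq_zero τ S hψ (fun a => a) _ _ ((mem_Ev τ ψ).1 hx) ((mem_Ev τ ψ).1 hy)
    (star_mul_ne_one ha)

/-- the eigenspaces span -/
theorem sum_proj_Ev (z : Fin d → ℂ) :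
    (Fintype.card (W₂ F U) : ℂ) • z = ∑ v, Cx.proj (RE τ) (chr M ψ v) *ᵥ z := by
  have h1 : ∑ v, Cx.proj (RE τ) (chr M ψ v) = ∑ χ : AddChar (W₂ F U) ℂ, Cx.proj (RE τ) χ :=
    Fintype.sum_bijective (chr M ψ) ⟨chr_injective S hψ, chr_surjective S hψ⟩ _ _ (fun v => rfl)
  rw [← Matrix.sum_mulVec, h1, Cx.sum_proj, RE_zero, Matrix.smul_mulVec, Matrix.one_mulVec]

/-- a vector orthogonal to all eigenspaces is zero -/
theorem eq_zero_of_herm_Ev {z : Fin d → ℂ} (h : ∀ v, ∀ p ∈ Ev τ ψ v, herm τ p z = 0) : z = 0 := by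
  apply eq_zero_of_herm τ
  have h1 : herm τ ((Fintype.card (W₂ F U) : ℂ) • z) z = 0 := by
    rw [sum_proj_Ev τ S hψ z, herm_sum_left]
    exact Finset.sum_eq_zero fun v _ => h v _ (LinearMap.mem_range.mpr ⟨z, rfl⟩)
  rw [herm_smul_left, mul_eq_zero] at h1
  exact h1.resolve_left (by simp [Fintype.card_ne_zero])

omit hψ [Fintype (GG M)] in
/-- the exchange of `e` and `f` carries vectors fixed at `f` to vectors fixed at `e` -/
theorem exists_fixed_of_swap {y : Fin d → ℂ} (hy : y ≠ 0) (hF : ∀ w, ap τ (FF M w) y = y)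
    (hL : ∀ r, ap τ (LL M r) y = y) :
    ∃ x, x ≠ 0 ∧ (∀ w, ap τ (EE M w) x = x) ∧ ∀ r, ap τ (LL M r) x = x := by
  obtain ⟨g, hg, hge, hgf⟩ := exists_swap S.trans₃
  have hie : g⁻¹.1 (eVec F (W₂ F U)) = fVec F (W₂ F U) := by
    apply g.1.injective; rw [coe_apply_inv_apply, hgf]
  have hif : g⁻¹.1 (fVec F (W₂ F U)) = eVec F (W₂ F U) := by
    apply g.1.injective; rw [coe_apply_inv_apply, hge]
  refine ⟨ap τ ⟨g, hg⟩ y, fun h => hy (ap_injective τ ⟨g, hg⟩ (h.trans (ap_zero τ _).symm)),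
    fun w => ?_, fun r => ?_⟩
  · obtain ⟨v, hv⟩ : ∃ v, v = g⁻¹.1 (inW w) := ⟨_, rfl⟩
    have hv0 : v = inW v.2 := by
      have h1 := map_polar g⁻¹ (eVec F (W₂ F U)) (inW w)
      have h2 := map_polar g⁻¹ (fVec F (W₂ F U)) (inW w)
      rw [hie, ← hv, polar_fVec, polar_eVec_inW] at h1
      rw [hif, ← hv, polar_eVec, polar_fVec_inW] at h2
      exact Prod.ext (Prod.ext h1 h2) rfl
    have e : EE M w * (⟨g, hg⟩ : GG M) = ⟨g, hg⟩ * FF M v.2 := by
      apply Subtype.ext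
      show ee (P₂ M) w * g = g * ff (P₂ M) v.2
      have : g⁻¹ * ee (P₂ M) w * g⁻¹⁻¹ = ff (P₂ M) v.2 := by
        rw [ee, conj_eich, hie, ← hv, ff, ← hv0]
      rw [← this]; group
    rw [← ap_mul, e, ap_mul, hF]
  · have he' : (g⁻¹ * emb r.1 * g⁻¹⁻¹).1 (eVec F (W₂ F U)) = eVec F (W₂ F U) := by
      rw [inv_inv, coe_mul_apply, coe_mul_apply, hge, emb_fVec, hif]
    have hf' : (g⁻¹ * emb r.1 * g⁻¹⁻¹).1 (fVec F (W₂ F U)) = fVec F (W₂ F U) := by
      rw [inv_inv, coe_mul_apply, coe_mul_apply, hgf, emb_eVec, hie]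
    obtain ⟨r', hr'⟩ := exists_emb_of_fix he' hf'
    have hmem : r' ∈ eichGroup (P₂ M) := mem_of_emb_mem _ S.trans₃ S.idxV (by
      rw [hr']
      exact eichGroup_normal.conj_mem _ (emb_mem r.2) _)
    have e : LL M r * (⟨g, hg⟩ : GG M) = ⟨g, hg⟩ * LL M ⟨r', hmem⟩ := by
      apply Subtype.ext
      show emb r.1 * g = g * emb r'
      rw [hr']; group
    rw [← ap_mul, e, ap_mul, hL]

set_option maxHeartbeats 800000 in
-- coercions between nested subgroups
omit hψ [Fintype (GG M)] in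
/-- the radical acts non-trivially -/
theorem exists_EE_ne_one (hfix : ∀ y, (∀ g, ap τ g y = y) → y = 0) (hd : 1 ≤ d) :
    ∃ w, RE τ w ≠ 1 := by
  by_contra hcon
  push Not at hcon
  have hE : ∀ w, τ (EE M w) = 1 := fun w => Units.ext (hcon w)
  obtain ⟨s, hs, hse, hsf⟩ := exists_swap S.trans₃
  have hF : ∀ w, τ (FF M w) = 1 := by
    intro w
    have hie : s.1 (fVec F (W₂ F U)) = eVec F (W₂ F U) := hsf
    obtain ⟨v, hv⟩ : ∃ v, v = s.1 (inW w) := ⟨_, rfl⟩
    have hv0 : v = inW v.2 := by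
      have h1 := map_polar s (eVec F (W₂ F U)) (inW w)
      have h2 := map_polar s (fVec F (W₂ F U)) (inW w)
      rw [hse, ← hv, polar_fVec, polar_eVec_inW] at h1
      rw [hsf, ← hv, polar_eVec, polar_fVec_inW] at h2
      exact Prod.ext (Prod.ext h1 h2) rfl
    have e : (⟨s, hs⟩ : GG M) * FF M w * (⟨s, hs⟩ : GG M)⁻¹ = EE M v.2 := by
      apply Subtype.ext
      show s * ff (P₂ M) w * s⁻¹ = ee (P₂ M) v.2
      rw [ff, conj_eich, hsf, ← hv, ee, ← hv0]
    have h := congrArg τ e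
    rw [hE, map_mul, map_mul, map_inv, mul_inv_eq_one] at h
    exact mul_eq_left.1 h
  have hall : ∀ g : GG M, τ g = 1 := by
    intro g
    have hle : eichGroup (Q₃ M) ≤ Subgroup.map (eichGroup (Q₃ M)).subtype τ.ker := by
      refine eichGroup_le_of_roots (P := P₂ M) S.polarND.hyp.hyp (fun k hk y hy => ?_)
        (fun w => ?_) (fun w => ?_)
      · obtain ⟨x, hx, rfl⟩ := Subgroup.mem_map.1 hy
        refine Subgroup.mem_map.2 ⟨(⟨k, hk⟩ : GG M) * x * (⟨k, hk⟩ : GG M)⁻¹, ?_, ?_⟩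
        · rw [MonoidHom.mem_ker] at hx ⊢
          rw [map_mul, map_mul, hx, mul_one, map_inv, mul_inv_cancel]
        · rfl
      · exact Subgroup.mem_map.2 ⟨EE M w, MonoidHom.mem_ker.2 (hE w), rfl⟩
      · exact Subgroup.mem_map.2 ⟨FF M w, MonoidHom.mem_ker.2 (hF w), rfl⟩
    obtain ⟨x, hx, hxg⟩ := hle g.2
    rw [show g = x from Subtype.ext hxg.symm]
    exact hx
  have h := hfix (fun _ => 1) (fun g => by simp [ap, hall g])
  exact one_ne_zero (congrFun h ⟨0, hd⟩)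

end Cfsg.Agent.CrossChar56.OrthDeg
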