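import Cfsg.Agent.CrossChar56.OrthDeg.Setup

/-!
Counting isotropic vectors orthogonal to a given one.
-/

set_option autoImplicit false

namespace Cfsg.Agent.CrossChar56.OrthDeg

open QuadraticMap
open Cfsg.Agent.UnitaryOrthogonal

variable {F U : Type*} [Field F] [Finite F] [AddCommGroup U] [Module F U] [Finite U]
  {M : QuadraticForm F U}

theorem level_pos_zero {V : Type*} [AddCommGroup V] [Module F V] [Finite V]
    (Q : QuadraticForm F V) : 1 ≤ level Q 0 :=
  Nat.one_le_iff_ne_zero.2 (Nat.card_ne_zero.2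
    ⟨⟨⟨0, QuadraticMap.map_zero _⟩⟩, inferInstance⟩)

/-- the isotropic non-zero vectors orthogonal to `b` -/
theorem card_perp_add_one (b : W₂ F U) :
    Nat.card {v : W₂ F U // P₂ M v = 0 ∧ v ≠ 0 ∧ polar (P₂ M) v b = 0} + 1 =
      Nat.card {v : W₂ F U // P₂ M v = 0 ∧ polar (P₂ M) v b = 0} := by
  show Nat.card ↥({v : W₂ F U | P₂ M v = 0 ∧ v ≠ 0 ∧ polar (P₂ M) v b = 0}) + 1 =
    Nat.card ↥({v : W₂ F U | P₂ M v = 0 ∧ polar (P₂ M) v b = 0})
  rw [Nat.card_coe_set_eq, Nat.card_coe_set_eq]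
  have h : {v : W₂ F U | P₂ M v = 0 ∧ polar (P₂ M) v b = 0} =
      insert 0 {v : W₂ F U | P₂ M v = 0 ∧ v ≠ 0 ∧ polar (P₂ M) v b = 0} := by
    ext v
    by_cases hv : v = 0
    · subst hv; simp
    · simp [hv]
  rw [h, Set.ncard_insert_of_notMem (fun h => h.2.1 rfl)]

theorem card_perp_map (r : ↥(eichGroup (P₂ M))) (b : W₂ F U) :
    Nat.card {v : W₂ F U // P₂ M v = 0 ∧ polar (P₂ M) v (r.1.1 b) = 0} =
      Nat.card {v : W₂ F U // P₂ M v = 0 ∧ polar (P₂ M) v b = 0} :=
  (Nat.card_congr (r.1.1.toEquiv.subtypeEquiv fun v => by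
    show _ ↔ P₂ M (r.1.1 v) = 0 ∧ polar (P₂ M) (r.1.1 v) (r.1.1 b) = 0
    rw [map_form, map_polar])).symm

/-- isotropic: exact count -/
theorem card_perp_singular (S : Setup M) {b : W₂ F U} (hb : P₂ M b = 0) (hb0 : b ≠ 0) :
    Nat.card {v : W₂ F U // P₂ M v = 0 ∧ polar (P₂ M) v b = 0} =
      Nat.card F * level (hyp M) 0 := by
  obtain ⟨r, hr, hrb⟩ := S.trans₂ (eVec F (W₁ F U)) b eVec_ne_zero hb0 (by rw [hyp_eVec, hb])
  rw [← hrb, card_perp_map ⟨r, hr⟩, level, ← Nat.card_prod]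
  refine Nat.card_congr
    { toFun := fun c => (c.1.1.1, ⟨c.1.2, ?_⟩)
      invFun := fun p => ⟨((p.1, 0), p.2.1), by simp [p.2.2], by rw [polar_comm, polar_eVec]⟩
      left_inv := ?_
      right_inv := fun p => rfl }
  · have h := c.2.1
    have hy := c.2.2
    rw [polar_comm, polar_eVec] at hy
    rw [hyp_apply, hy, mul_zero, zero_add] at h
    exact h
  · rintro ⟨⟨⟨x, y⟩, w⟩, h, hy⟩
    rw [polar_comm, polar_eVec] at hy
    simp only at hy
    subst hy
    rfl

/-- a bound for every non-zero vector -/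
theorem card_perp_le (S : Setup M) {l : ℕ} (hl : ∀ c, level (hyp M) c ≤ l) {b : W₂ F U}
    (hb0 : b ≠ 0) :
    Nat.card {v : W₂ F U // P₂ M v = 0 ∧ polar (P₂ M) v b = 0} ≤ Nat.card F * l := by
  classical
  by_cases hb : P₂ M b = 0
  · rw [card_perp_singular S hb hb0]
    exact Nat.mul_le_mul_left _ (hl 0)
  obtain ⟨c, hc⟩ : ∃ c, c = P₂ M b := ⟨_, rfl⟩
  obtain ⟨r, hr, hrb⟩ := S.trans₂ ((1, c), 0) b (by simp) hb0 (by simp [hc])
  rw [← hrb, card_perp_map ⟨r, hr⟩]
  haveI := Fintype.ofFinite F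
  calc Nat.card {v : W₂ F U // P₂ M v = 0 ∧ polar (P₂ M) v ((1, c), 0) = 0}
      ≤ Nat.card (Σ x : F, {w : W₁ F U // hyp M w = x * (c * x)}) := by
        refine Nat.card_le_card_of_injective (fun v => ⟨v.1.1.1, v.1.2, ?_⟩) ?_
        · have h1 := v.2.1
          have h2 := v.2.2
          rw [hyp_apply] at h1
          rw [polar_hyp, polar_zero_right] at h2
          simp only at h2
          linear_combination h1 - v.1.1.1 * h2
        · rintro ⟨⟨⟨x, y⟩, w⟩, h1, h2⟩ ⟨⟨⟨x', y'⟩, w'⟩, h1', h2'⟩ he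
          simp only [Sigma.mk.injEq] at he
          obtain ⟨rfl, he⟩ := he
          rw [heq_iff_eq, Subtype.mk.injEq] at he
          subst he
          rw [polar_hyp, polar_zero_right] at h2 h2'
          simp only at h2 h2'
          congr
          linear_combination h2 - h2'
    _ = ∑ x : F, level (hyp M) (x * (c * x)) := Nat.card_sigma
    _ ≤ ∑ _x : F, l := Finset.sum_le_sum fun x _ => hl _
    _ = _ := by rw [Finset.sum_const, Finset.card_univ, Nat.card_eq_fintype_card, smul_eq_mul]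

/-- lower bound for non-zero levels -/
theorem level_ge (c : F) (hc : c ≠ 0) :
    (Nat.card F - 1) * Nat.card F * (Nat.card F + 1) * Nat.card U ≤ level (P₂ M) c := by
  rw [level_hyp, level_hyp, Nat.card_prod, Nat.card_prod]
  have := Nat.zero_le (Nat.card F * (Nat.card F * level M c))
  calc (Nat.card F - 1) * Nat.card F * (Nat.card F + 1) * Nat.card U
      = (Nat.card F - 1) * (Nat.card F * Nat.card F * Nat.card U) +
        Nat.card F * ((Nat.card F - 1) * Nat.card U) := by ring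
    _ ≤ _ := by rw [Nat.mul_add (Nat.card F)]; omega

end Cfsg.Agent.CrossChar56.OrthDeg
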