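import Cfsg.Agent.CrossChar56.OrthDeg.Sum
import Cfsg.Agent.CrossChar56.OrthDeg.PerpCount

/-!
If all characters occurring are isotropic and occur once, some vector is fixed by the stabiliser
of a singular vector.
-/

set_option autoImplicit false

noncomputable section

namespace Cfsg.Agent.CrossChar56.OrthDeg

open QuadraticMap
open Cfsg.Agent.UnitaryOrthogonal
open scoped Classical Matrix

variable {F U : Type*} [Field F] [Fintype F] [AddCommGroup U] [Module F U] [Finite U]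
  {M : QuadraticForm F U} {d : ℕ} [Fintype (GG M)] [Fintype (W₂ F U)]
  {τ : GG M →* GL (Fin d) ℂ} {ψ : AddChar F ℂ}

theorem herm_self_re (x : Fin d → ℂ) :
    herm τ x x = ((herm τ x x).re : ℂ) ∧ 0 ≤ (herm τ x x).re := by
  have h : herm τ x x = ((∑ g : GG M, ∑ i, Complex.normSq (ap τ g x i) : ℝ) : ℂ) := by
    simp [herm, dotProduct, Complex.normSq_eq_conj_mul_self]
  rw [h, Complex.ofReal_re]
  exact ⟨rfl, Finset.sum_nonneg fun g _ => Finset.sum_nonneg fun i _ => Complex.normSq_nonneg _⟩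

/-- matrices of the root group at `f` -/
def RF (τ : GG M →* GL (Fin d) ℂ) (w : W₂ F U) : Matrix (Fin d) (Fin d) ℂ := τ (FF M w)

omit [Fintype F] [Finite U] [Fintype (GG M)] [Fintype (W₂ F U)] in
theorem RF_add (a b : W₂ F U) : RF τ (a + b) = RF τ a * RF τ b := by simp [RF, FF_add]

omit [Fintype F] [Finite U] [Fintype (GG M)] [Fintype (W₂ F U)] in
theorem RF_zero : RF τ (0 : W₂ F U) = 1 := by simp [RF, FF_zero]

/-- the lower bound for `⟨u, b u⟩` -/
theorem re_herm_FF_usum (L : Lines τ ψ) (S : Setup M) (hψ : ψ.IsPrimitive)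
    {b : W₂ F U} (hb : P₂ M b = 0) (hb0 : b ≠ 0) :
    L.n.re * ((Nat.card {v : W₂ F U // P₂ M v = 0 ∧ v ≠ 0} : ℝ) -
      2 * Nat.card {v : W₂ F U // P₂ M v = 0 ∧ v ≠ 0 ∧ polar (P₂ M) v b = 0}) ≤
      (herm τ (usum L) (ap τ (FF M b) (usum L))).re := by
  obtain ⟨S₀, hS₀⟩ : ∃ S₀, S₀ = Ssum L b 0 := ⟨_, rfl⟩
  obtain ⟨S₁, hS₁⟩ : ∃ S₁ : Fin d → ℂ, S₁ = ∑ v ∈ Finset.univ.filter (fun v : W₂ F U =>
    P₂ M v = 0 ∧ v ≠ 0 ∧ polar (P₂ M) v b ≠ 0), L.X v := ⟨_, rfl⟩
  have hsplit : usum L = S₀ + S₁ := by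
    rw [hS₀, hS₁, usum, Ssum, fib]
    rw [← Finset.sum_union]
    · refine Finset.sum_congr ?_ fun _ _ => rfl
      ext v
      simp only [Finset.mem_union, Finset.mem_filter, Finset.mem_univ, true_and]
      tauto
    · rw [Finset.disjoint_filter]
      exact fun v _ h h' => h'.2.2 h.2.2
  have hfix : ap τ (FF M b) S₁ = S₁ := by
    have e : S₁ = ∑ s ∈ Finset.univ.erase (0 : F), Ssum L b s := by
      rw [hS₁, ← Finset.sum_fiberwise_of_maps_to (g := fun v => polar (P₂ M) v b)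
        (t := Finset.univ.erase (0 : F))
        (fun v hv => Finset.mem_erase.2 ⟨(Finset.mem_filter.1 hv).2.2.2, Finset.mem_univ _⟩)]
      refine Finset.sum_congr rfl fun s hs => ?_
      rw [Ssum, fib, Finset.filter_filter]
      refine Finset.sum_congr ?_ fun _ _ => rfl
      ext v
      simp only [Finset.mem_filter, Finset.mem_univ, true_and]
      have := (Finset.mem_erase.1 hs).1
      constructor
      · rintro ⟨⟨h1, h2, -⟩, h3⟩; exact ⟨h1, h2, h3⟩
      · rintro ⟨h1, h2, h3⟩; exact ⟨⟨h1, h2, h3 ▸ this⟩, h3⟩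
    rw [e, ap_sum]
    refine Finset.sum_congr rfl fun s hs => ?_
    have h := FF_Ssum L S hψ hb hb0 (Finset.mem_erase.1 hs).1 1
    rwa [one_smul] at h
  have h01 : herm τ S₀ S₁ = 0 := by
    have h := herm_sum_X L S hψ (fun v => P₂ M v = 0 ∧ v ≠ 0 ∧ polar (P₂ M) v b = 0)
      (fun v => P₂ M v = 0 ∧ v ≠ 0 ∧ polar (P₂ M) v b ≠ 0) (fun v h => ⟨h.1, h.2.1⟩) (fun v h => ⟨h.1, h.2.1⟩)
    rw [show Nat.card {v : W₂ F U // (P₂ M v = 0 ∧ v ≠ 0 ∧ polar (P₂ M) v b = 0) ∧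
        (P₂ M v = 0 ∧ v ≠ 0 ∧ polar (P₂ M) v b ≠ 0)} = 0 from
      Nat.card_eq_zero.2 (Or.inl ⟨fun v => v.2.2.2.2 v.2.1.2.2⟩), Nat.cast_zero, zero_mul] at h
    rw [hS₀, hS₁]
    unfold Ssum fib
    convert h using 3 <;> (ext v; simp only [Finset.mem_filter])
  have h10 : herm τ S₁ (ap τ (FF M b) S₀) = 0 := by
    nth_rw 1 [← hfix]
    rw [herm_ap, ← herm_swap, h01, star_zero]
  have h00 : herm τ S₀ S₀ =
      (Nat.card {v : W₂ F U // P₂ M v = 0 ∧ v ≠ 0 ∧ polar (P₂ M) v b = 0} : ℂ) * L.n := by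
    have h := herm_sum_X L S hψ (fun v => P₂ M v = 0 ∧ v ≠ 0 ∧ polar (P₂ M) v b = 0)
      (fun v => P₂ M v = 0 ∧ v ≠ 0 ∧ polar (P₂ M) v b = 0) (fun v h => ⟨h.1, h.2.1⟩) (fun v h => ⟨h.1, h.2.1⟩)
    simp only [and_self] at h
    rw [hS₀]
    unfold Ssum fib
    convert h using 3 <;> (ext v; simp only [Finset.mem_filter])
  have h11 : herm τ S₁ S₁ =
      (Nat.card {v : W₂ F U // P₂ M v = 0 ∧ v ≠ 0 ∧ polar (P₂ M) v b ≠ 0} : ℂ) * L.n := by
    have h := herm_sum_X L S hψ (fun v => P₂ M v = 0 ∧ v ≠ 0 ∧ polar (P₂ M) v b ≠ 0)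
      (fun v => P₂ M v = 0 ∧ v ≠ 0 ∧ polar (P₂ M) v b ≠ 0) (fun v h => ⟨h.1, h.2.1⟩) (fun v h => ⟨h.1, h.2.1⟩)
    simp only [and_self] at h
    rw [hS₁]
    convert h using 3 <;> (ext v; simp only [Finset.mem_filter])
  have hcard : Nat.card {v : W₂ F U // P₂ M v = 0 ∧ v ≠ 0} =
      Nat.card {v : W₂ F U // P₂ M v = 0 ∧ v ≠ 0 ∧ polar (P₂ M) v b = 0} +
        Nat.card {v : W₂ F U // P₂ M v = 0 ∧ v ≠ 0 ∧ polar (P₂ M) v b ≠ 0} := by
    simp only [Nat.card_eq_fintype_card, Fintype.card_subtype]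
    rw [← Finset.card_union_of_disjoint]
    · congr 1
      ext v
      simp only [Finset.mem_union, Finset.mem_filter, Finset.mem_univ, true_and]
      tauto
    · rw [Finset.disjoint_filter]
      exact fun v _ h h' => h'.2.2 h.2.2
  have hexp : herm τ (usum L) (ap τ (FF M b) (usum L)) =
      herm τ S₁ S₁ + herm τ S₀ (ap τ (FF M b) S₀) := by
    rw [hsplit, ap_add, hfix, herm_add_left, herm_add_right, herm_add_right, h01, h10]
    ring
  obtain ⟨hre₀, hnn₀⟩ := herm_self_re (τ := τ) S₀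
  have hle := SLExact.norm_herm_le τ (FF M b) S₀
  rw [hre₀, Complex.norm_real, Real.norm_eq_abs, abs_of_nonneg hnn₀] at hle
  have hlow : -(herm τ S₀ S₀).re ≤ (herm τ S₀ (ap τ (FF M b) S₀)).re :=
    neg_le.1 ((neg_le_abs _).trans ((Complex.abs_re_le_norm _).trans hle))
  rw [hexp, Complex.add_re, h11, Complex.mul_re]
  rw [h00, Complex.mul_re] at hlow
  simp only [Complex.natCast_re, Complex.natCast_im, zero_mul, sub_zero] at hlow ⊢
  rw [hcard]
  push_cast
  linarith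

/-- existence of a fixed vector; `p` bounds the isotropic vectors in a hyperplane -/
theorem exists_fixed (L : Lines τ ψ) (S : Setup M) (hψ : ψ.IsPrimitive) (p₁ : ℕ)
    (hperp : ∀ η : W₂ F U, η ≠ 0 →
      Nat.card {v : W₂ F U // P₂ M v = 0 ∧ polar (P₂ M) v η = 0} ≤ p₁)
    (hnum : (Fintype.card F : ℝ) * ((p₁ : ℝ) - 1) < (Fintype.card F : ℝ) * (level (P₂ M) 0 - 1) -
      2 * ((Fintype.card F : ℝ) - 1) * ((Fintype.card F : ℝ) * level (hyp M) 0 - 1)) :
    ∃ x, x ≠ 0 ∧ (∀ w, ap τ (EE M w) x = x) ∧ ∀ r, ap τ (LL M r) x = x := by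
  have hq2 : 1 < Fintype.card F := Fintype.one_lt_card
  obtain ⟨u, hu⟩ : ∃ u, u = usum L := ⟨_, rfl⟩
  obtain ⟨y, hy⟩ : ∃ y : Fin d → ℂ, y = ∑ w, ap τ (FF M w) u := ⟨_, rfl⟩
  by_cases hy0 : y ≠ 0
  · refine exists_fixed_of_swap τ S hy0 (fun a => ?_) fun r => ?_
    · rw [hy, ap_sum]
      refine Fintype.sum_equiv (Equiv.addLeft a) _ _ fun w => ?_
      rw [Equiv.coe_addLeft, FF_add, ap_mul]
    · rw [hy, ap_sum]
      refine Fintype.sum_equiv r.1.1.toEquiv _ _ fun w => ?_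
      show _ = ap τ (FF M (r.1.1 w)) u
      rw [← ap_mul, show LL M r * FF M w = FF M (r.1.1 w) * LL M r from
        mul_inv_eq_iff_eq_mul.1 (LL_conj_FF r w), ap_mul, hu, LL_usum]
  exfalso
  push Not at hy0
  -- components for the group at `f`
  obtain ⟨p, hp⟩ : ∃ p : W₂ F U → Fin d → ℂ,
      ∀ η, p η = Cx.proj (RF τ) (chr M ψ η) *ᵥ u := ⟨_, fun _ => rfl⟩
  have hpe : ∀ η a, ap τ (FF M a) (p η) = ψ (polar (P₂ M) η a) • p η := by
    intro η a
    rw [hp]
    show RF τ a *ᵥ _ = _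
    rw [Matrix.mulVec_mulVec, Cx.R_mul_proj RF_add, Matrix.smul_mulVec]
    rfl
  have hpsum : ∑ η, p η = (Fintype.card (W₂ F U) : ℂ) • u := by
    have h1 : ∑ η, Cx.proj (RF τ) (chr M ψ η) = ∑ χ : AddChar (W₂ F U) ℂ, Cx.proj (RF τ) χ :=
      Fintype.sum_bijective (chr M ψ) ⟨chr_injective S hψ, chr_surjective S hψ⟩ _ _ (fun v => rfl)
    simp only [hp, ← Matrix.sum_mulVec, h1, Cx.sum_proj, RF_zero, Matrix.smul_mulVec,
      Matrix.one_mulVec]
  have hp0 : p 0 = 0 := by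
    rw [hp, ← hy0, hy, Cx.proj, Matrix.sum_mulVec]
    refine Finset.sum_congr rfl fun w _ => ?_
    rw [Matrix.smul_mulVec, chr_apply, polar_zero_left, AddChar.map_zero_eq_one, one_smul]
    rfl
  have hporth : ∀ η η', η ≠ η' → herm τ (p η) (p η') = 0 := by
    intro η η' hne
    obtain ⟨a, ha⟩ : ∃ a, chr M ψ η a ≠ chr M ψ η' a := by
      by_contra hcon
      push Not at hcon
      exact hne (chr_injective S hψ (DFunLike.ext _ _ hcon))
    have h := herm_ap τ (FF M a) (p η) (p η')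
    rw [hpe, hpe, herm_smul_left, herm_smul_right, ← mul_assoc] at h
    exact (mul_left_eq_self₀.1 h).resolve_left (star_mul_ne_one (ψ := ψ) ha)
  have hexp : ∀ a, (Fintype.card (W₂ F U) : ℂ) ^ 2 * herm τ u (ap τ (FF M a) u) =
      ∑ η, ψ (polar (P₂ M) η a) * herm τ (p η) (p η) := by
    intro a
    have h1 : herm τ ((Fintype.card (W₂ F U) : ℂ) • u)
        (ap τ (FF M a) ((Fintype.card (W₂ F U) : ℂ) • u)) =
        ∑ η, ψ (polar (P₂ M) η a) * herm τ (p η) (p η) := by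
      rw [← hpsum, ap_sum, herm_sum_left]
      refine Finset.sum_congr rfl fun η _ => ?_
      rw [herm_sum_right, Finset.sum_eq_single η]
      · rw [hpe, herm_smul_right]
      · intro η' _ hne
        rw [hpe, herm_smul_right, hporth η η' (Ne.symm hne), mul_zero]
      · exact fun h => absurd (Finset.mem_univ _) h
    rw [← h1, ap_smul, herm_smul_left, herm_smul_right]
    simp [_root_.sq, mul_assoc]
  -- constants
  obtain ⟨q, hqdef⟩ : ∃ q, q = Fintype.card F := ⟨_, rfl⟩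
  obtain ⟨C0, hC0⟩ : ∃ C0 : Finset (W₂ F U),
      C0 = Finset.univ.filter fun v => P₂ M v = 0 ∧ v ≠ 0 := ⟨_, rfl⟩
  obtain ⟨k₀, hk₀⟩ : ∃ k₀, k₀ = Nat.card {v : W₂ F U // P₂ M v = 0 ∧ v ≠ 0} := ⟨_, rfl⟩
  obtain ⟨n₀, hn₀⟩ : ∃ n₀, n₀ + 1 = q * level (hyp M) 0 := by
    refine ⟨q * level (hyp M) 0 - 1, Nat.sub_add_cancel ?_⟩
    exact Nat.one_le_iff_ne_zero.2 (mul_ne_zero (by omega) (Nat.one_le_iff_ne_zero.1 (level_pos_zero _)))
  have hC0card : C0.card = k₀ := by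
    rw [hk₀, hC0, Nat.card_eq_fintype_card, Fintype.card_subtype]
  have hn₀b : ∀ b ∈ C0,
      Nat.card {v : W₂ F U // P₂ M v = 0 ∧ v ≠ 0 ∧ polar (P₂ M) v b = 0} = n₀ := by
    intro b hb
    rw [hC0, Finset.mem_filter] at hb
    have h := card_perp_add_one (M := M) b
    rw [card_perp_singular S hb.2.1 hb.2.2, Nat.card_eq_fintype_card (α := F), ← hqdef, ← hn₀] at h
    omega
  have hk₀eq : k₀ + 1 = level (P₂ M) 0 := by
    have h2 := card_nonzero_singular (P₂ M)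
    rw [← hk₀] at h2
    have := level_pos_zero (P₂ M)
    omega
  have hperp' : ∀ η : W₂ F U, η ≠ 0 →
      Nat.card {b : W₂ F U // P₂ M b = 0 ∧ b ≠ 0 ∧ polar (P₂ M) b η = 0} + 1 ≤ p₁ := by
    intro η hη
    rw [card_perp_add_one]
    exact hperp η hη
  have hu0 : herm τ u u = (k₀ : ℂ) * L.n := by
    have h := herm_sum_X L S hψ (fun v => P₂ M v = 0 ∧ v ≠ 0) (fun v => P₂ M v = 0 ∧ v ≠ 0)
      (fun v h => h) (fun v h => h)
    simp only [and_self] at h
    rw [hu, hk₀]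
    unfold usum
    convert h using 3 <;> (ext v; simp only [Finset.mem_filter])
  have hkpos : 0 < k₀ := by
    rw [← hC0card, Finset.card_pos]
    exact ⟨v₀ F U, by rw [hC0]; exact Finset.mem_filter.2 ⟨Finset.mem_univ _, hyp_eVec, eVec_ne_zero⟩⟩
  have hn : 0 < L.n.re := by
    have h := herm_self_re (τ := τ) (L.X (v₀ F U))
    rw [L.norm _ hyp_eVec eVec_ne_zero] at h
    refine lt_of_le_of_ne h.2 fun e => L.n_ne ?_
    rw [h.1, ← e, Complex.ofReal_zero]
  obtain ⟨Hr, hHr⟩ : ∃ Hr : W₂ F U → ℝ, ∀ η, Hr η = (herm τ (p η) (p η)).re := ⟨_, fun _ => rfl⟩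
  have hHnn : ∀ η, 0 ≤ Hr η := fun η => by rw [hHr]; exact (herm_self_re (p η)).2
  have hHc : ∀ η, herm τ (p η) (p η) = (Hr η : ℂ) := fun η => by
    rw [hHr]; exact (herm_self_re (p η)).1
  have hre : ∀ (N : ℕ) (z : ℂ), ((N : ℂ) ^ 2 * z).re = (N : ℝ) ^ 2 * z.re := fun N z => by
    rw [← Nat.cast_pow, Complex.mul_re, Complex.natCast_re, Complex.natCast_im, zero_mul, sub_zero,
      Nat.cast_pow]
  have hHsum : ∑ η, Hr η = (Fintype.card (W₂ F U) : ℝ) ^ 2 * (k₀ * L.n.re) := by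
    have h := congrArg Complex.re (hexp 0)
    rw [FF_zero, ap_one, hu0] at h
    simp only [polar_zero_right, AddChar.map_zero_eq_one, one_mul, hHc] at h
    rw [← Complex.ofReal_sum, Complex.ofReal_re, hre, Complex.mul_re, Complex.natCast_re,
      Complex.natCast_im, zero_mul, sub_zero] at h
    exact h.symm
  -- the double sum
  have hleft : ((q : ℝ) * k₀ - 2 * (q - 1) * n₀) * L.n.re * k₀ ≤
      (∑ b ∈ C0, ∑ t : F, herm τ u (ap τ (FF M (t • b)) u)).re := by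
    rw [Complex.re_sum]
    refine le_trans (le_of_eq ?_) (Finset.card_nsmul_le_sum C0 _
      (((q : ℝ) * k₀ - 2 * (q - 1) * n₀) * L.n.re) fun b hb => ?_)
    · rw [hC0card, nsmul_eq_mul]; ring
    · have hb' := hb
      rw [hC0, Finset.mem_filter] at hb'
      rw [Complex.re_sum, ← Finset.add_sum_erase _ _ (Finset.mem_univ (0 : F)), zero_smul, FF_zero,
        ap_one, hu0, Complex.mul_re, Complex.natCast_re, Complex.natCast_im, zero_mul, sub_zero]
      have hterm : ∀ t ∈ Finset.univ.erase (0 : F),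
          L.n.re * ((k₀ : ℝ) - 2 * n₀) ≤ (herm τ u (ap τ (FF M (t • b)) u)).re := by
        intro t ht
        have ht0 := (Finset.mem_erase.1 ht).1
        have h := re_herm_FF_usum L S hψ (b := t • b) (by rw [form_smul, hb'.2.1, mul_zero])
          (smul_ne_zero ht0 hb'.2.2)
        rw [hn₀b (t • b) (by
          rw [hC0, Finset.mem_filter]
          exact ⟨Finset.mem_univ _, by rw [form_smul, hb'.2.1, mul_zero],
            smul_ne_zero ht0 hb'.2.2⟩), ← hk₀, ← hu] at h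
        exact h
      have h2 := Finset.card_nsmul_le_sum _ _ _ hterm
      rw [Finset.card_erase_of_mem (Finset.mem_univ _), Finset.card_univ, ← hqdef,
        nsmul_eq_mul, Nat.cast_sub (show 1 ≤ q by omega), Nat.cast_one] at h2
      linarith
  have hright : (Fintype.card (W₂ F U) : ℝ) ^ 2 *
      (∑ b ∈ C0, ∑ t : F, herm τ u (ap τ (FF M (t • b)) u)).re ≤
      (q : ℝ) * ((p₁ : ℝ) - 1) * ∑ η, Hr η := by
    have hval : (Fintype.card (W₂ F U) : ℂ) ^ 2 *
        ∑ b ∈ C0, ∑ t : F, herm τ u (ap τ (FF M (t • b)) u) =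
        ∑ η, (Hr η : ℂ) * ((q : ℂ) * (C0.filter fun b => polar (P₂ M) η b = 0).card) := by
      simp only [Finset.mul_sum, hexp, hHc]
      rw [Finset.sum_congr rfl fun b _ => Finset.sum_comm, Finset.sum_comm]
      refine Finset.sum_congr rfl fun η _ => ?_
      simp only [← Finset.sum_mul, polar_smul_right, smul_eq_mul]
      rw [Finset.card_filter, Nat.cast_sum, Finset.mul_sum, Finset.mul_sum, Finset.sum_mul]
      refine Finset.sum_congr rfl fun b _ => ?_
      rw [AddChar.sum_mulShift _ hψ, ← hqdef]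
      split_ifs <;> simp [mul_comm]
    have h := congrArg Complex.re hval
    rw [hre, Complex.re_sum (s := Finset.univ)] at h
    rw [h, Finset.mul_sum]
    refine Finset.sum_le_sum fun η _ => ?_
    rw [← Nat.cast_mul, Complex.mul_re, Complex.ofReal_re, Complex.ofReal_im, Complex.natCast_re,
      zero_mul, sub_zero, Nat.cast_mul, mul_comm (Hr η)]
    by_cases hη : η = 0
    · subst hη
      have : Hr 0 = 0 := by rw [hHr, hp0, herm_zero_left, Complex.zero_re]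
      rw [this, mul_zero, mul_zero]
    · refine mul_le_mul_of_nonneg_right ?_ (hHnn η)
      refine mul_le_mul_of_nonneg_left ?_ (Nat.cast_nonneg _)
      have h1 := hperp' η hη
      have h2 : (C0.filter fun b => polar (P₂ M) η b = 0).card =
          Nat.card {b : W₂ F U // P₂ M b = 0 ∧ b ≠ 0 ∧ polar (P₂ M) b η = 0} := by
        rw [Nat.card_eq_fintype_card, Fintype.card_subtype, hC0, Finset.filter_filter]
        congr 1
        ext b
        simp only [Finset.mem_filter, Finset.mem_univ, true_and, polar_comm (P₂ M) η, and_assoc]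
      rw [h2]
      have h3 := (Nat.cast_le (α := ℝ)).2 h1
      push_cast at h3
      linarith
  rw [hHsum] at hright
  have hW : (0 : ℝ) < (Fintype.card (W₂ F U) : ℝ) ^ 2 := by
    have : 0 < Fintype.card (W₂ F U) := Fintype.card_pos
    positivity
  have hkn : (0 : ℝ) < L.n.re * k₀ := mul_pos hn (by exact_mod_cast hkpos)
  have hfinal : (q : ℝ) * k₀ - 2 * (q - 1) * n₀ ≤ (q : ℝ) * ((p₁ : ℝ) - 1) := by
    refine le_of_mul_le_mul_right ?_ (mul_pos hW hkn)
    calc ((q : ℝ) * k₀ - 2 * (q - 1) * n₀) * ((Fintype.card (W₂ F U) : ℝ) ^ 2 * (L.n.re * k₀))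
        = (Fintype.card (W₂ F U) : ℝ) ^ 2 * (((q : ℝ) * k₀ - 2 * (q - 1) * n₀) * L.n.re * k₀) := by ring
      _ ≤ _ := mul_le_mul_of_nonneg_left hleft hW.le
      _ ≤ _ := hright
      _ = _ := by ring
  have e1 : (k₀ : ℝ) = (level (P₂ M) 0 : ℝ) - 1 := by rw [← hk₀eq]; push_cast; ring
  have e2 : (n₀ : ℝ) = (q : ℝ) * level (hyp M) 0 - 1 := by
    have h := congrArg (Nat.cast : ℕ → ℝ) hn₀
    push_cast at h
    linarith
  rw [← hqdef] at hnum
  rw [e1, e2] at hfinal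
  linarith

end Cfsg.Agent.CrossChar56.OrthDeg
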