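import Mathlib

/-!
Rank bounds for Gram matrices in a three-class association scheme.
-/

set_option autoImplicit false

namespace Cfsg.Agent.CrossChar56.OrthDeg

open Matrix

variable {ι : Type*} [Fintype ι]

/-- the trace of an idempotent is its rank -/
theorem exists_trace_idem [DecidableEq ι] {e : Matrix ι ι ℂ} (he : e * e = e) :
    ∃ m : ℕ, m ≤ e.rank ∧ e.trace = m := by
  refine ⟨Module.finrank ℂ (LinearMap.range (Matrix.toLin' e)), le_of_eq ?_, ?_⟩
  · rw [Matrix.rank, Matrix.toLin'_apply']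
  · have h : LinearMap.IsProj (LinearMap.range (Matrix.toLin' e)) (Matrix.toLin' e) := by
      refine ⟨fun x => LinearMap.mem_range_self _ x, ?_⟩
      rintro _ ⟨y, rfl⟩
      rw [Matrix.toLin'_apply, Matrix.toLin'_apply, mulVec_mulVec, he]
    rw [← Matrix.trace_toLin'_eq, h.trace]

theorem exists_trace_of_sq [DecidableEq ι] {K : Matrix ι ι ℂ} {α : ℂ} (hK : K * K = α • K)
    (hα : α ≠ 0) : ∃ m : ℕ, m ≤ K.rank ∧ K.trace = α * m := by
  obtain ⟨m, hm, ht⟩ := exists_trace_idem (e := α⁻¹ • K) (by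
    rw [Matrix.smul_mul, Matrix.mul_smul, hK, smul_smul, smul_smul, mul_assoc, inv_mul_cancel₀ hα,
      mul_one])
  refine ⟨m, hm.trans ?_, ?_⟩
  · rw [show α⁻¹ • K = K * (α⁻¹ • (1 : Matrix ι ι ℂ)) by rw [Matrix.mul_smul, Matrix.mul_one]]
    exact Matrix.rank_mul_le_left _ _
  · rw [Matrix.trace_smul, smul_eq_mul] at ht
    rw [← ht, mul_inv_cancel_left₀ hα]

theorem trace_eq_zero_of_sq_zero [DecidableEq ι] {K : Matrix ι ι ℂ} (hK : K * K = 0) :
    K.trace = 0 := by
  have h : IsNilpotent K := ⟨2, by rw [pow_two, hK]⟩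
  exact (Matrix.isNilpotent_trace_of_isNilpotent h).eq_zero

/-- The Gram bound for the scheme of a quadric. -/
theorem scheme_bound [DecidableEq ι] {E A J : Matrix ι ι ℂ} {N : ℕ} {k r s μ : ℂ} {σ τ : ℂ}
    {d : ℕ} (hN : N ≠ 0)
    (hEE : E * E = E) (hAE : A * E = A) (hJE : J * E = J) (hEA : E * A = A) (hEJ : E * J = J)
    (hJA : J * A = k • J) (hJJ : J * J = (N : ℂ) • J)
    (hAA : A * A = (r + s) • A - (r * s) • E + μ • J)
    (hE : E.trace = N) (hA : A.trace = 0) (hJ : J.trace = N)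
    (K : Matrix ι ι ℂ) (hKdef : K = (1 - τ) • E + (σ - τ) • A + τ • J)
    (hJK : J * K = 0) (hKJ : K * J = 0) (hrank : K.rank ≤ d) :
    N - 1 ≤ d ∨ ∃ m : ℕ, m ≤ d ∧
      ((r - s) * m = k + (N - 1) * r ∨ (s - r) * m = k + (N - 1) * s) := by
  obtain ⟨u, hu⟩ : ∃ u, u = 1 - τ := ⟨_, rfl⟩
  obtain ⟨v, hv⟩ : ∃ v, v = σ - τ := ⟨_, rfl⟩
  rw [← hu, ← hv] at hKdef
  have hJ0 : J ≠ 0 := fun h => hN (by rw [h, trace_zero] at hJ; exact_mod_cast hJ.symm)
  have hlin : u + v * k + τ * N = 0 := by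
    have h := hJK
    rw [hKdef, Matrix.mul_add, Matrix.mul_add, Matrix.mul_smul, Matrix.mul_smul, Matrix.mul_smul,
      hJE, hJA, hJJ, smul_smul, smul_smul, ← add_smul, ← add_smul, smul_eq_zero] at h
    exact h.resolve_right hJ0
  have hKE : K * E = K := by
    rw [hKdef, Matrix.add_mul, Matrix.add_mul, Matrix.smul_mul, Matrix.smul_mul, Matrix.smul_mul, hEE, hAE, hJE]
  obtain ⟨β, hβ⟩ : ∃ β, β = -((u + v * r) * (u + v * s)) := ⟨_, rfl⟩
  have hKK : ∃ c : ℂ, K * K = (2 * u + v * (r + s)) • K + β • E + c • J := by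
    refine ⟨v * (τ * k + v * μ) - (u + v * (r + s)) * τ, ?_⟩
    have hKA : K * A = u • A + v • ((r + s) • A - (r * s) • E + μ • J) + (τ * k) • J := by
      conv_lhs => rw [hKdef]
      rw [Matrix.add_mul, Matrix.add_mul, Matrix.smul_mul, Matrix.smul_mul, Matrix.smul_mul, hEA, hAA, hJA, smul_smul]
    calc K * K = u • (K * E) + v • (K * A) + τ • (K * J) := by
          conv_lhs => arg 2; rw [hKdef]
          rw [Matrix.mul_add, Matrix.mul_add, Matrix.mul_smul, Matrix.mul_smul, Matrix.mul_smul]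
      _ = _ := by
          rw [hKE, hKA, hKJ, hKdef, hβ]
          module
  obtain ⟨c, hKK⟩ := hKK
  have hc : β + c * N = 0 := by
    have h := congrArg (J * ·) hKK
    simp only [← Matrix.mul_assoc, hJK, Matrix.zero_mul, Matrix.mul_add, Matrix.mul_smul, hJE,
      hJJ, smul_zero, zero_add, smul_smul, ← add_smul] at h
    exact (smul_eq_zero.1 h.symm).resolve_right hJ0
  by_cases hb : β = 0
  · right
    have hc0 : c = 0 := by
      rw [hb, zero_add, mul_eq_zero] at hc
      exact hc.resolve_right (Nat.cast_ne_zero.2 hN)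
    rw [hb, hc0, zero_smul, zero_smul, add_zero, add_zero] at hKK
    have hv0 : v ≠ 0 := by
      intro h0
      rw [hb, h0, zero_mul, zero_mul, add_zero, zero_eq_neg, mul_self_eq_zero] at hβ
      rw [hβ, h0, zero_mul, add_zero, zero_add, mul_eq_zero] at hlin
      have := hlin.resolve_right (Nat.cast_ne_zero.2 hN)
      rw [this, sub_zero] at hu
      exact one_ne_zero (hu.symm.trans hβ)
    have htr : K.trace = N := by
      rw [hKdef, trace_add, trace_add, trace_smul, trace_smul, trace_smul, hE, hA, hJ, smul_eq_mul,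
        smul_eq_mul, smul_eq_mul, hu]
      ring
    have hα : 2 * u + v * (r + s) ≠ 0 := by
      intro h
      rw [h, zero_smul] at hKK
      rw [trace_eq_zero_of_sq_zero hKK] at htr
      exact hN (by exact_mod_cast htr.symm)
    obtain ⟨m, hm, hmt⟩ := exists_trace_of_sq hKK hα
    rw [htr] at hmt
    refine ⟨m, hm.trans hrank, ?_⟩
    rw [hb, eq_comm, neg_eq_zero, mul_eq_zero] at hβ
    rcases hβ with h | h
    · left
      apply mul_left_cancel₀ hv0
      linear_combination (-1 : ℂ) * hlin + hmt + (2 * (m : ℂ) + 1 - N) * h + (N : ℂ) * hu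
    · right
      apply mul_left_cancel₀ hv0
      linear_combination (-1 : ℂ) * hlin + hmt + (2 * (m : ℂ) + 1 - N) * h + (N : ℂ) * hu
  · left
    have hZ : (E - (N : ℂ)⁻¹ • J) = β⁻¹ • (K * (K - (2 * u + v * (r + s)) • E)) := by
      rw [Matrix.mul_sub, Matrix.mul_smul, hKE, hKK, add_assoc, add_sub_cancel_left, smul_add,
        smul_smul, smul_smul, inv_mul_cancel₀ hb, one_smul, sub_eq_add_neg, ← neg_smul]
      congr 2
      have hN' : (N : ℂ) ≠ 0 := Nat.cast_ne_zero.2 hN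
      field_simp
      linear_combination -hc
    have hidem : (E - (N : ℂ)⁻¹ • J) * (E - (N : ℂ)⁻¹ • J) = E - (N : ℂ)⁻¹ • J := by
      simp only [Matrix.sub_mul, Matrix.mul_sub, Matrix.smul_mul, Matrix.mul_smul, hEE, hEJ, hJE, hJJ,
        smul_smul, inv_mul_cancel₀ (Nat.cast_ne_zero.2 hN : (N : ℂ) ≠ 0), one_smul,
        sub_self, smul_zero, sub_zero]
    obtain ⟨m, hm, ht⟩ := exists_trace_idem hidem
    have hle : m ≤ d := by
      refine hm.trans (le_trans ?_ hrank)
      rw [hZ, ← Matrix.mul_smul]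
      exact Matrix.rank_mul_le_left _ _
    rw [trace_sub, trace_smul, hE, hJ, smul_eq_mul,
      inv_mul_cancel₀ (Nat.cast_ne_zero.2 hN : (N : ℂ) ≠ 0)] at ht
    have : N = m + 1 := by exact_mod_cast eq_add_of_sub_eq ht
    omega

/-- The Gram bound for the signed scheme. -/
theorem signed_bound [DecidableEq ι] {E C : Matrix ι ι ℂ} {N : ℕ} {l μ τ : ℂ}
    {d : ℕ} (hN : N ≠ 0) (hEE : E * E = E) (hCE : C * E = C) (hEC : E * C = C)
    (hCC : C * C = μ • C + l • E) (hE : E.trace = N) (hC : C.trace = 0)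
    (hrank : (E + τ • C).rank ≤ d) :
    N ≤ d ∨ ∃ m : ℕ, m ≤ d ∧ 0 < m ∧
      l * ((N : ℂ) - 2 * m) ^ 2 = μ ^ 2 * m * ((N : ℂ) - m) := by
  obtain ⟨β, hβ⟩ : ∃ β, β = τ ^ 2 * l - τ * μ - 1 := ⟨_, rfl⟩
  have hKE : (E + τ • C) * E = E + τ • C := by rw [Matrix.add_mul, Matrix.smul_mul, hEE, hCE]
  have hKK : (E + τ • C) * (E + τ • C) = (2 + τ * μ) • (E + τ • C) + β • E := by
    rw [Matrix.add_mul, Matrix.mul_add, Matrix.mul_add, Matrix.smul_mul, Matrix.smul_mul, Matrix.mul_smul,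
      Matrix.mul_smul, hEE, hEC, hCE, hCC, hβ]
    module
  by_cases hb : β = 0
  · right
    rw [hb, zero_smul, add_zero] at hKK
    have htr : (E + τ • C).trace = N := by rw [trace_add, trace_smul, hE, hC, smul_zero, add_zero]
    have hα : 2 + τ * μ ≠ 0 := by
      intro h
      rw [h, zero_smul] at hKK
      rw [trace_eq_zero_of_sq_zero hKK] at htr
      exact hN (by exact_mod_cast htr.symm)
    obtain ⟨m, hm, hmt⟩ := exists_trace_of_sq hKK hα
    rw [htr] at hmt
    refine ⟨m, hm.trans hrank, Nat.pos_of_ne_zero (fun h => hN ?_), ?_⟩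
    · rw [h, Nat.cast_zero, mul_zero] at hmt
      exact_mod_cast hmt
    · rw [hb] at hβ
      rw [hmt]
      linear_combination (-((m : ℂ) ^ 2) * μ ^ 2) * hβ
  · left
    obtain ⟨m, hm, ht⟩ := exists_trace_idem hEE
    have hEfac : E = (E + τ • C) * (β⁻¹ • ((E + τ • C) - (2 + τ * μ) • E)) := by
      rw [Matrix.mul_smul, Matrix.mul_sub, Matrix.mul_smul, hKE, hKK, add_sub_cancel_left,
        smul_smul, inv_mul_cancel₀ hb, one_smul]
    have h2 : E.rank ≤ (E + τ • C).rank := by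
      conv_lhs => rw [hEfac]
      exact Matrix.rank_mul_le_left _ _
    rw [hE] at ht
    have : N = m := by exact_mod_cast ht
    omega

end Cfsg.Agent.CrossChar56.OrthDeg
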