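import Cfsg.Agent.CrossChar56.OrthDeg.Counts
import Cfsg.Agent.CrossChar56.OrthDeg.Scheme
import Cfsg.Agent.CrossChar56.SLExactAux

/-!
A representation with a vector fixed by the stabiliser of a singular vector.
-/

set_option autoImplicit false

noncomputable section

namespace Cfsg.Agent.CrossChar56.OrthDeg

open QuadraticMap
open Cfsg.Agent.UnitaryOrthogonal
open scoped Classical

variable {F U : Type*} [Field F] [AddCommGroup U] [Module F U] {M : QuadraticForm F U}

/-- a multiplicative real character, extended by zero -/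
structure IsSgn (χ : F → ℂ) : Prop where
  zero : χ 0 = 0
  mul : ∀ a b, χ (a * b) = χ a * χ b
  one : χ 1 = 1
  sq : ∀ a, a ≠ 0 → χ a * χ a = 1
  nontriv : ∃ a, a ≠ 0 ∧ χ a ≠ 1

/-- numeric hypotheses of the rank-three bound -/
structure SchemeNum [Fintype F] (M : QuadraticForm F U) (B : ℕ) where
  N : ℕ
  k : ℕ
  r : ℤ
  s : ℤ
  hk : (Fintype.card F - 1) * k = Fintype.card F * (level (P₂ M) 0 - 1)
  hN : N = 1 + k + Nat.card (W₂ F U)
  hsum : r + s = (Fintype.card F : ℤ) * level (hyp M) 0 - Nat.card (W₁ F U) - 2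
  hprod : r * s = -((level (P₂ M) 0 : ℤ) - 1)
  hlt : s < r
  hB : B + 1 ≤ N
  hBr : (B : ℤ) * (r - s) ≤ k + ((N : ℤ) - 1) * r
  hBs : (B : ℤ) * (r - s) ≤ -(k + ((N : ℤ) - 1) * s)
  hBQ : ∀ χ : F → ℂ, IsSgn χ → ∀ m : ℕ, 0 < m →
    (Nat.card (W₂ F U) : ℂ) * ((N : ℂ) - 2 * m) ^ 2 =
      (∑ᶠ w : W₂ F U, χ (-(P₂ M w))) ^ 2 * m * ((N : ℂ) - m) → B ≤ m

section mats

variable (F) (M)

/-- identity twisted by a character -/
def matE [Fintype F] (χ : F → ℂ) : Matrix (Sing (Q₃ M)) (Sing (Q₃ M)) ℂ := fun a b =>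
  (∑ l : Fˣ, if b.1 = (l : F) • a.1 then χ l else 0) / ((Fintype.card F : ℂ) - 1)

/-- orthogonality -/
def matA [Fintype F] : Matrix (Sing (Q₃ M)) (Sing (Q₃ M)) ℂ := fun a b =>
  if polar (Q₃ M) a.1 b.1 = 0 ∧ ¬ Par (F := F) a.1 b.1 then
    ((Fintype.card F : ℂ) - 1)⁻¹ else 0

/-- all ones -/
def matJ [Fintype F] : Matrix (Sing (Q₃ M)) (Sing (Q₃ M)) ℂ := fun _ _ =>
  ((Fintype.card F : ℂ) - 1)⁻¹

/-- signs of non-orthogonal pairs -/
def matC [Fintype F] (χ : F → ℂ) : Matrix (Sing (Q₃ M)) (Sing (Q₃ M)) ℂ := fun a b =>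
  χ (polar (Q₃ M) a.1 b.1) / ((Fintype.card F : ℂ) - 1)

end mats

section act

/-- action on singular vectors -/
def act (g : GG M) : Sing (Q₃ M) ≃ Sing (Q₃ M) where
  toFun a := ⟨g.1.1 a.1, by rw [map_form, a.2.1], fun h => a.2.2 (g.1.1.map_eq_zero_iff.1 h)⟩
  invFun a := ⟨g.1⁻¹.1 a.1, by rw [map_form, a.2.1], fun h => a.2.2 (g.1⁻¹.1.map_eq_zero_iff.1 h)⟩
  left_inv a := Subtype.ext (coe_inv_apply_apply _ _)
  right_inv a := Subtype.ext (coe_apply_inv_apply _ _)

theorem act_val (g : GG M) (a : Sing (Q₃ M)) : (act g a).1 = g.1.1 a.1 := rfl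

theorem act_mul (g h : GG M) (a : Sing (Q₃ M)) : act (g * h) a = act g (act h a) := rfl

/-- invariant two-point functions -/
def Inv (Φ : Sing (Q₃ M) → Sing (Q₃ M) → ℂ) : Prop :=
  ∀ g a b, Φ (act g a) (act g b) = Φ a b

/-- scalar multiples -/
def scl (l : Fˣ) : Sing (Q₃ M) ≃ Sing (Q₃ M) where
  toFun a := ⟨(l : F) • a.1, by rw [form_smul, a.2.1, mul_zero], smul_ne_zero l.ne_zero a.2.2⟩
  invFun a := ⟨((l⁻¹ : Fˣ) : F) • a.1, by rw [form_smul, a.2.1, mul_zero],
    smul_ne_zero (l⁻¹).ne_zero a.2.2⟩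
  left_inv a := Subtype.ext (by simp [smul_smul])
  right_inv a := Subtype.ext (by simp [smul_smul])

theorem scl_val (l : Fˣ) (a : Sing (Q₃ M)) : (scl l a).1 = (l : F) • a.1 := rfl

theorem scl_act (l : Fˣ) (g : GG M) (a : Sing (Q₃ M)) : act g (scl l a) = scl l (act g a) :=
  Subtype.ext (map_smul g.1.1 _ _)

theorem scl_inj {l l' : Fˣ} {a : Sing (Q₃ M)} (h : scl l a = scl l' a) : l = l' :=
  Units.ext (smul_left_injective F a.2.2 (congrArg Subtype.val h))

theorem par_act (g : GG M) (a b : Sing (Q₃ M)) :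
    Par (F := F) (act g a).1 (act g b).1 ↔ Par (F := F) a.1 b.1 := by
  refine exists_congr fun l => ?_
  rw [act_val, act_val, ← map_smul]
  exact g.1.1.injective.eq_iff

theorem par_scl_left (l : Fˣ) (a b : Sing (Q₃ M)) :
    Par (F := F) (scl l a).1 b.1 ↔ Par (F := F) a.1 b.1 := by
  constructor
  · rintro ⟨x, hx⟩; exact ⟨x * l, by rw [hx, scl_val, smul_smul]⟩
  · rintro ⟨x, hx⟩; exact ⟨x * ((l⁻¹ : Fˣ) : F), by rw [hx, scl_val, smul_smul]; simp⟩

/-- `e` -/
def sE : Sing (Q₃ M) := ⟨eVec F (W₂ F U), hyp_eVec, eVec_ne_zero⟩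

/-- `f` -/
def sF : Sing (Q₃ M) := ⟨fVec F (W₂ F U), hyp_fVec, fVec_ne_zero⟩

/-- a vector orthogonal to `e` -/
def sW : Sing (Q₃ M) := ⟨inW (eVec F (W₁ F U)), by rw [hyp_inW, hyp_eVec],
  fun h => eVec_ne_zero (congrArg Prod.snd h : eVec F (W₁ F U) = 0)⟩

theorem polar_sE_sW : polar (Q₃ M) (sE (M := M)).1 (sW (M := M)).1 = 0 := polar_eVec_inW _

theorem polar_sE_scl (c : Fˣ) : polar (Q₃ M) (sE (M := M)).1 (scl c (sF (M := M))).1 = c := by
  rw [scl_val, polar_smul_right, smul_eq_mul]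
  show (c : F) * polar (Q₃ M) (eVec F _) (fVec F _) = _
  rw [polar_eVec_fVec, mul_one]

theorem not_par_sE_sW : ¬ Par (F := F) (sE (M := M)).1 (sW (M := M)).1 := by
  have := not_par_inW (F := F) (eVec_ne_zero (F := F) (W := W₁ F U)) 0
  rwa [zero_smul, zero_add] at this

theorem not_par_of_polar {a b : Sing (Q₃ M)} (h : polar (Q₃ M) a.1 b.1 ≠ 0) :
    ¬ Par (F := F) a.1 b.1 := by
  rintro ⟨l, hl⟩
  apply h
  rw [hl, polar_smul_right, polar_self_eq, a.2.1, mul_zero, smul_zero]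

/-- an invariant function is determined by three values -/
theorem ext_reps (S : Setup M) {Φ Ψ : Sing (Q₃ M) → Sing (Q₃ M) → ℂ} (hΦ : Inv Φ) (hΨ : Inv Ψ)
    (h1 : ∀ l : Fˣ, Φ sE (scl l sE) = Ψ sE (scl l sE)) (h2 : Φ sE sW = Ψ sE sW)
    (h3 : ∀ c : Fˣ, Φ sE (scl c sF) = Ψ sE (scl c sF)) : ∀ a b, Φ a b = Ψ a b := by
  intro a b
  rcases pair_cases S a b with ⟨l, hl, hb⟩ | ⟨-, g, hga, hgb⟩ | ⟨c, hc, -, g, hga, hgb⟩
  · obtain ⟨g, hg, hga⟩ := S.trans₃ (eVec F (W₂ F U)) a.1 eVec_ne_zero a.2.2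
      (by rw [hyp_eVec, a.2.1])
    have ea : a = act ⟨g, hg⟩ sE := Subtype.ext hga.symm
    have eb : b = act ⟨g, hg⟩ (scl (Units.mk0 l hl) sE) := by
      apply Subtype.ext
      rw [hb, act_val, scl_val, map_smul]
      exact congrArg (l • ·) hga.symm
    rw [ea, eb, hΦ, hΨ, h1]
  · have ea : a = act g sE := Subtype.ext hga.symm
    have eb : b = act g sW := Subtype.ext hgb.symm
    rw [ea, eb, hΦ, hΨ, h2]
  · have ea : a = act g sE := Subtype.ext hga.symm
    have eb : b = act g (scl (Units.mk0 c hc) sF) := Subtype.ext hgb.symm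
    rw [ea, eb, hΦ, hΨ, h3]

end act

variable [Fintype F] [Finite U]

theorem card_sub_one_ne : ((Fintype.card F : ℂ) - 1) ≠ 0 := by
  rw [sub_ne_zero, Ne, Nat.cast_eq_one]
  exact Fintype.one_lt_card.ne'

theorem matA_inv : Inv (matA F M) := fun g a b => by
  simp only [matA, par_act]
  simp only [act_val, map_polar]

theorem matJ_inv : Inv (matJ F M) := fun _ _ _ => rfl

theorem matC_inv (χ : F → ℂ) : Inv (matC F M χ) := fun g a b => by
  simp only [matC, act_val, map_polar]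

theorem matE_inv (χ : F → ℂ) : Inv (matE F M χ) := fun g a b => by
  simp only [matE]
  congr 1
  refine Finset.sum_congr rfl fun l _ => if_congr ?_ rfl rfl
  rw [act_val, act_val, ← map_smul]
  exact g.1.1.injective.eq_iff

theorem inv_smul {Φ : Matrix (Sing (Q₃ M)) (Sing (Q₃ M)) ℂ} (h : Inv Φ) (c : ℂ) :
    Inv (c • Φ) := fun g a b => by simp only [Matrix.smul_apply, h g a b]

theorem inv_add {Φ Ψ : Matrix (Sing (Q₃ M)) (Sing (Q₃ M)) ℂ} (h : Inv Φ) (h' : Inv Ψ) :
    Inv (Φ + Ψ) := fun g a b => by simp only [Matrix.add_apply, h g a b, h' g a b]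

theorem inv_sub {Φ Ψ : Matrix (Sing (Q₃ M)) (Sing (Q₃ M)) ℂ} (h : Inv Φ) (h' : Inv Ψ) :
    Inv (Φ - Ψ) := fun g a b => by simp only [Matrix.sub_apply, h g a b, h' g a b]

variable [Fintype (Sing (Q₃ M))]

theorem inv_mul {Φ Ψ : Matrix (Sing (Q₃ M)) (Sing (Q₃ M)) ℂ} (h : Inv Φ) (h' : Inv Ψ) :
    Inv (Φ * Ψ) := fun g a b => by
  simp only [Matrix.mul_apply]
  rw [← (act g).sum_comp (fun c => Φ (act g a) c * Ψ c (act g b))]
  simp only [h g, h' g]

theorem matE_mul (χ ω : F → ℂ) (Φ : Matrix (Sing (Q₃ M)) (Sing (Q₃ M)) ℂ)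
    (hΦ : ∀ (l : Fˣ) a b, Φ (scl l a) b = ω l * Φ a b) :
    matE F M χ * Φ = ((∑ l : Fˣ, χ l * ω l) / ((Fintype.card F : ℂ) - 1)) • Φ := by
  ext a b
  simp only [Matrix.mul_apply, Matrix.smul_apply, matE, smul_eq_mul, div_mul_eq_mul_div,
    Finset.sum_mul, ← Finset.sum_div]
  congr 1
  rw [Finset.sum_comm]
  refine Finset.sum_congr rfl fun l _ => ?_
  rw [Finset.sum_eq_single (scl l a)]
  · rw [if_pos (scl_val l a), hΦ]; ring
  · intro c _ hc
    rw [if_neg (show ¬ c.1 = (l : F) • a.1 from fun e => hc (Subtype.ext e)), zero_mul]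
  · exact fun h => absurd (Finset.mem_univ _) h

theorem mul_matE (χ ω : F → ℂ) (Φ : Matrix (Sing (Q₃ M)) (Sing (Q₃ M)) ℂ)
    (hΦ : ∀ (l : Fˣ) a b, Φ a (scl l b) = ω l * Φ a b) :
    Φ * matE F M χ = ((∑ l : Fˣ, χ l * ω ((l⁻¹ : Fˣ) : F)) / ((Fintype.card F : ℂ) - 1)) • Φ := by
  ext a b
  simp only [Matrix.mul_apply, Matrix.smul_apply, matE, smul_eq_mul, mul_div_assoc',
    div_mul_eq_mul_div, Finset.mul_sum, ← Finset.sum_div]
  congr 1
  rw [Finset.sum_comm, Finset.sum_mul]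
  refine Finset.sum_congr rfl fun l _ => ?_
  rw [Finset.sum_eq_single (scl l⁻¹ b)]
  · rw [if_pos (by simp [scl_val, smul_smul]), hΦ]; ring
  · intro c _ hc
    rw [if_neg (fun e => hc ?_), mul_zero]
    exact Subtype.ext (by simp [scl_val, e, smul_smul])
  · exact fun h => absurd (Finset.mem_univ _) h

theorem matA_scl_left (l : Fˣ) (a b : Sing (Q₃ M)) :
    matA F M (scl l a) b = (fun _ => (1 : ℂ)) (l : F) * matA F M a b := by
  have h1 : polar (Q₃ M) (scl l a).1 b.1 = 0 ↔ polar (Q₃ M) a.1 b.1 = 0 := by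
    simp [scl_val]
  simp only [matA, h1, par_scl_left, one_mul]

theorem matA_comm (a b : Sing (Q₃ M)) : matA F M a b = matA F M b a := by
  have hp : Par (F := F) a.1 b.1 ↔ Par (F := F) b.1 a.1 := by
    constructor
    all_goals
      rintro ⟨l, hl⟩
      refine ⟨l⁻¹, ?_⟩
      rw [hl, smul_smul, inv_mul_cancel₀, one_smul]
      rintro rfl
    · exact b.2.2 (by rw [hl, zero_smul])
    · exact a.2.2 (by rw [hl, zero_smul])
  simp only [matA, polar_comm (Q₃ M) a.1, hp]

theorem matA_scl_right (l : Fˣ) (a b : Sing (Q₃ M)) :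
    matA F M a (scl l b) = (fun _ => (1 : ℂ)) (l : F) * matA F M a b := by
  rw [matA_comm, matA_scl_left, matA_comm]

theorem matE_scl_left {χ : F → ℂ} (hmul : ∀ a b, χ (a * b) = χ a * χ b)
    (l : Fˣ) (a b : Sing (Q₃ M)) :
    matE F M χ (scl l a) b = (fun x => χ x⁻¹) (l : F) * matE F M χ a b := by
  simp only [matE, ← mul_div_assoc, Finset.mul_sum]
  congr 1
  refine Fintype.sum_equiv (Equiv.mulRight l) _ _ fun m => ?_
  simp [scl_val, smul_smul, ← hmul, mul_comm]

theorem matC_scl_left {χ : F → ℂ} (hmul : ∀ a b, χ (a * b) = χ a * χ b)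
    (l : Fˣ) (a b : Sing (Q₃ M)) :
    matC F M χ (scl l a) b = χ (l : F) * matC F M χ a b := by
  simp [matC, scl_val, hmul, mul_div_assoc]

theorem matC_scl_right {χ : F → ℂ} (hmul : ∀ a b, χ (a * b) = χ a * χ b)
    (l : Fˣ) (a b : Sing (Q₃ M)) :
    matC F M χ a (scl l b) = χ (l : F) * matC F M χ a b := by
  simp [matC, scl_val, hmul, mul_div_assoc]

theorem sum_units_one : ∑ _l : Fˣ, (1 : ℂ) = (Fintype.card F : ℂ) - 1 := by
  simp [Fintype.card_units, Nat.cast_sub (Fintype.card_pos (α := F))]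

theorem sum_units_div {f : Fˣ → ℂ} (h : ∀ l, f l = 1) :
    (∑ l : Fˣ, f l) / ((Fintype.card F : ℂ) - 1) = 1 := by
  rw [Finset.sum_congr rfl (fun l _ => h l), sum_units_one, div_self card_sub_one_ne]

theorem matE_sE_scl (χ : F → ℂ) (l : Fˣ) :
    matE F M χ sE (scl l sE) = χ l / ((Fintype.card F : ℂ) - 1) := by
  simp only [matE]
  congr 1
  rw [Finset.sum_eq_single l]
  · rw [if_pos (scl_val l _)]
  · intro m _ hm
    rw [if_neg]
    intro e
    exact hm (scl_inj (Subtype.ext e)).symm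
  · exact fun h => absurd (Finset.mem_univ _) h

theorem matE_of_not_par (χ : F → ℂ) {a b : Sing (Q₃ M)} (h : ¬ Par (F := F) a.1 b.1) :
    matE F M χ a b = 0 := by
  simp only [matE]
  rw [Finset.sum_eq_zero, zero_div]
  intro l _
  exact if_neg fun e => h ⟨l, e⟩

theorem matE_trace (χ : F → ℂ) (h1 : χ 1 = 1) :
    (matE F M χ).trace = (Fintype.card (Sing (Q₃ M)) : ℂ) / ((Fintype.card F : ℂ) - 1) := by
  have : ∀ a : Sing (Q₃ M), matE F M χ a a = 1 / ((Fintype.card F : ℂ) - 1) := by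
    intro a
    simp only [matE]
    congr 1
    rw [Finset.sum_eq_single 1]
    · simp [h1]
    · intro m _ hm
      rw [if_neg]
      intro e
      exact hm (scl_inj (a := a) (Subtype.ext (by
        simp only [scl_val, Units.val_one, one_smul]; exact e.symm)))
    · exact fun h => absurd (Finset.mem_univ _) h
  simp [Matrix.trace, this, div_eq_mul_inv]

theorem card_sing_eq {B : ℕ} (num : SchemeNum M B) :
    (Fintype.card (Sing (Q₃ M)) : ℂ) / ((Fintype.card F : ℂ) - 1) = num.N := by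
  rw [div_eq_iff card_sub_one_ne, num.hN]
  have h1 := num.hk
  have h2 := level_hyp (Q := P₂ M) (0 : F)
  have h3 : 1 ≤ level (P₂ M) 0 := Nat.one_le_iff_ne_zero.2 (Nat.card_ne_zero.2
    ⟨⟨⟨0, QuadraticMap.map_zero _⟩⟩, inferInstance⟩)
  have hs : Fintype.card (Sing (Q₃ M)) + 1 = level (Q₃ M) 0 := by
    rw [← Nat.card_eq_fintype_card, card_sing]
    have : 1 ≤ level (Q₃ M) 0 := Nat.one_le_iff_ne_zero.2 (Nat.card_ne_zero.2
      ⟨⟨⟨0, QuadraticMap.map_zero _⟩⟩, inferInstance⟩)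
    omega
  rw [Nat.card_eq_fintype_card (α := F)] at h2
  have hq := Fintype.card_pos (α := F)
  have e1 := congrArg (Nat.cast (R := ℂ)) h1
  have e2 := congrArg (Nat.cast (R := ℂ)) h2
  have e3 := congrArg (Nat.cast (R := ℂ)) hs
  push_cast [Nat.cast_sub hq, Nat.cast_sub h3] at e1 e2 e3
  push_cast
  linear_combination e2 + e3 - e1

theorem sum_ind (p : Sing (Q₃ M) → Prop) (c : ℂ) :
    ∑ a, (if p a then c else 0) = (Nat.card {a // p a} : ℂ) * c := by
  rw [← Finset.sum_filter, Finset.sum_const, Nat.card_eq_fintype_card, Fintype.card_subtype,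
    nsmul_eq_mul]

theorem row_sum_A (S : Setup M) {B : ℕ} (num : SchemeNum M B) (a : Sing (Q₃ M)) :
    ∑ c, matA F M a c = num.k := by
  obtain ⟨g, hg, hga⟩ := S.trans₃ (eVec F (W₂ F U)) a.1 eVec_ne_zero a.2.2
    (by rw [hyp_eVec, a.2.1])
  have ea : a = act ⟨g, hg⟩ sE := Subtype.ext hga.symm
  rw [ea, ← (act ⟨g, hg⟩).sum_comp (fun c => matA F M (act ⟨g, hg⟩ sE) c)]
  simp only [matA_inv _ _ _]
  simp only [matA]
  rw [← Finset.sum_filter, Finset.sum_const, nsmul_eq_mul, ← Fintype.card_subtype, ← Nat.card_eq_fintype_card]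
  have h := card_perp (P₂ M)
  change (Nat.card {c : Sing (Q₃ M) // polar (Q₃ M) (eVec F (W₂ F U)) c.1 = 0 ∧
    ¬ Par (F := F) (eVec F (W₂ F U)) c.1} : ℂ) * _ = _
  rw [h, card_sing, Nat.card_eq_fintype_card, ← num.hk]
  have hq := Fintype.card_pos (α := F)
  push_cast [Nat.cast_sub hq]
  field_simp [card_sub_one_ne (F := F)]

theorem matA_sq (S : Setup M) {B : ℕ} (num : SchemeNum M B) :
    matA F M * matA F M = ((num.r : ℂ) + num.s) • matA F M -
      ((num.r : ℂ) * num.s) • matE F M (fun _ => 1) +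
      (((level (P₂ M) 0 : ℂ) - 1) / ((Fintype.card F : ℂ) - 1)) •
        (matJ F M) := by
  have hne := card_sub_one_ne (F := F)
  have h3 : 1 ≤ level (P₂ M) 0 := Nat.one_le_iff_ne_zero.2 (Nat.card_ne_zero.2
    ⟨⟨⟨0, QuadraticMap.map_zero _⟩⟩, inferInstance⟩)
  have hq := Fintype.card_pos (α := F)
  have hW : ∀ b, (matA F M * matA F M) sE b =
      (Nat.card {c : Sing (Q₃ M) // (polar (Q₃ M) (sE (M := M)).1 c.1 = 0 ∧
        ¬ Par (F := F) (sE (M := M)).1 c.1) ∧ (polar (Q₃ M) c.1 b.1 = 0 ∧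
        ¬ Par (F := F) c.1 b.1)} : ℂ) *
        ((((Fintype.card F : ℂ) - 1)⁻¹) * (((Fintype.card F : ℂ) - 1)⁻¹)) := by
    intro b
    rw [Matrix.mul_apply, ← sum_ind]
    refine Finset.sum_congr rfl fun c _ => ?_
    simp only [matA, ite_mul, zero_mul, mul_ite, mul_zero, ← ite_and, and_comm]
  refine funext fun a => funext fun b => ext_reps S (inv_mul matA_inv matA_inv)
    (inv_add (inv_sub (inv_smul matA_inv _) (inv_smul (matE_inv _) _)) (inv_smul matJ_inv _))
    (fun l => ?_) ?_ (fun c => ?_) a b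
  · -- proportional
    have h1 : (matA F M * matA F M) sE (scl l sE) =
        (∑ c, matA F M sE c) * ((Fintype.card F : ℂ) - 1)⁻¹ := by
      rw [Matrix.mul_apply, Finset.sum_mul]
      refine Finset.sum_congr rfl fun c _ => ?_
      rw [matA_scl_right, one_mul, matA_comm c sE]
      simp only [matA]
      split_ifs <;> simp
    have hA0 : matA F M sE (scl l sE) = 0 := by
      simp only [matA]
      rw [if_neg (fun h => h.2 ⟨l, scl_val l _⟩)]
    rw [h1, row_sum_A S num]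
    simp only [Matrix.add_apply, Matrix.sub_apply, Matrix.smul_apply, hA0, matE_sE_scl, matJ,
      smul_eq_mul, mul_zero, zero_sub]
    have e1 := congrArg (Nat.cast (R := ℂ)) num.hk
    push_cast [Nat.cast_sub hq, Nat.cast_sub h3] at e1
    have e2 : (num.r : ℂ) * num.s = -((level (P₂ M) 0 : ℂ) - 1) := by
      exact_mod_cast congrArg (Int.cast (R := ℂ)) num.hprod
    rw [e2]
    field_simp
    linear_combination e1
  · -- orthogonal
    have hA1 : matA F M sE sW = ((Fintype.card F : ℂ) - 1)⁻¹ := by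
      simp only [matA]
      rw [if_pos ⟨polar_sE_sW, not_par_sE_sW⟩]
    rw [hW]
    simp only [Matrix.add_apply, Matrix.sub_apply, Matrix.smul_apply, hA1, matJ,
      matE_of_not_par _ not_par_sE_sW, smul_eq_mul, mul_zero, sub_zero]
    have h := card_perp_perp (hyp M)
    change Nat.card {c : Sing (Q₃ M) // (polar (Q₃ M) (sE (M := M)).1 c.1 = 0 ∧
        ¬ Par (F := F) (sE (M := M)).1 c.1) ∧ (polar (Q₃ M) c.1 (sW (M := M)).1 = 0 ∧
        ¬ Par (F := F) c.1 (sW (M := M)).1)} + _ + _ = _ at h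
    generalize Nat.card {c : Sing (Q₃ M) // (polar (Q₃ M) (sE (M := M)).1 c.1 = 0 ∧
        ¬ Par (F := F) (sE (M := M)).1 c.1) ∧ (polar (Q₃ M) c.1 (sW (M := M)).1 = 0 ∧
        ¬ Par (F := F) c.1 (sW (M := M)).1)} = X at h ⊢
    rw [Nat.card_eq_fintype_card (α := F)] at h
    have e1 := congrArg (Nat.cast (R := ℂ)) h
    have h2 := congrArg (Nat.cast (R := ℂ)) (level_hyp (Q := hyp M) (0 : F))
    rw [Nat.card_eq_fintype_card (α := F)] at h2
    push_cast [Nat.cast_sub hq] at e1 h2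
    have e2 : (num.r : ℂ) + num.s = (Fintype.card F : ℂ) * level (hyp M) 0 -
        Nat.card (W₁ F U) - 2 := by
      exact_mod_cast congrArg (Int.cast (R := ℂ)) num.hsum
    rw [e2]
    field_simp
    linear_combination e1 - h2
  · -- not orthogonal
    have hnp : ¬ Par (F := F) (sE (M := M)).1 (scl c sF).1 :=
      not_par_of_polar (by rw [polar_sE_scl]; exact c.ne_zero)
    have hA2 : matA F M sE (scl c sF) = 0 := by
      simp only [matA]
      rw [if_neg]
      rintro ⟨h, -⟩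
      rw [polar_sE_scl] at h
      exact c.ne_zero h
    rw [hW]
    simp only [Matrix.add_apply, Matrix.sub_apply, Matrix.smul_apply, hA2, matJ,
      matE_of_not_par _ hnp, smul_eq_mul, mul_zero, sub_zero, zero_add]
    have h := card_perp_opp (P₂ M) (c : F) c.ne_zero
    change Nat.card {x : Sing (Q₃ M) // (polar (Q₃ M) (sE (M := M)).1 x.1 = 0 ∧
        ¬ Par (F := F) (sE (M := M)).1 x.1) ∧ (polar (Q₃ M) x.1 (scl c (sF (M := M))).1 = 0 ∧
        ¬ Par (F := F) x.1 (scl c (sF (M := M))).1)} = _ at h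
    rw [h, card_sing, Nat.cast_sub h3, Nat.cast_one]
    field_simp

/-- the signed neighbour sum -/
def sgnSum (M : QuadraticForm F U) (χ : F → ℂ) : ℂ := ∑ᶠ w : W₂ F U, χ (-(P₂ M w))

theorem matC_sq (S : Setup M) {χ : F → ℂ} (hχ : IsSgn χ) :
    matC F M χ * matC F M χ = sgnSum M χ • matC F M χ +
      (Nat.card (W₂ F U) : ℂ) • matE F M χ := by
  haveI : Fintype (W₂ F U) := Fintype.ofFinite _
  have hne := card_sub_one_ne (F := F)
  refine funext fun a => funext fun b => ext_reps S (inv_mul (matC_inv χ) (matC_inv χ))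
    (inv_add (inv_smul (matC_inv χ) _) (inv_smul (matE_inv χ) _))
    (fun l => ?_) ?_ (fun c => ?_) a b
  · -- proportional
    have hcount : ∑ c : Sing (Q₃ M), (if c.1.1.2 ≠ 0 then (1 : ℂ) else 0) =
        ((Fintype.card F : ℂ) - 1) * Nat.card (W₂ F U) := by
      rw [← Finset.sum_filter, Finset.sum_const, nsmul_eq_mul, ← Fintype.card_subtype, ← Nat.card_eq_fintype_card, mul_one, ← sum_units_one, Finset.sum_const, Finset.card_univ,
        Nat.card_eq_fintype_card (α := W₂ F U), ← Nat.cast_smul_eq_nsmul ℂ, smul_eq_mul, mul_one,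
        ← Nat.cast_mul, ← Fintype.card_prod, Nat.card_eq_fintype_card]
      congr 1
      refine Fintype.card_congr
        { toFun := fun c => (Units.mk0 c.1.1.1.2 c.2, c.1.1.2)
          invFun := fun p => ⟨⟨((-(P₂ M p.2) / (p.1 : F), (p.1 : F)), p.2),
            by simp [hyp_apply], fun h => p.1.ne_zero (congrArg (fun v => v.1.2) h)⟩,
            p.1.ne_zero⟩
          left_inv := ?_
          right_inv := fun p => by simp }
      rintro ⟨⟨⟨⟨x, y⟩, w⟩, h⟩, hy⟩
      have h1 := h.1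
      rw [hyp_apply] at h1
      simp only at hy h1
      simp only [Units.val_mk0]
      congr
      rw [div_eq_iff hy]
      linear_combination -h1
    have hC0 : matC F M χ sE (scl l sE) = 0 := by
      simp only [matC, scl_val, polar_smul_right, polar_self_eq]
      show χ ((l : F) • (2 * Q₃ M (eVec F _))) / _ = 0
      rw [hyp_eVec, mul_zero, smul_zero, hχ.zero, zero_div]
    have hterm : ∀ c : Sing (Q₃ M), matC F M χ sE c * matC F M χ c (scl l sE) =
        χ l * ((if c.1.1.2 ≠ 0 then (1 : ℂ) else 0) /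
          ((Fintype.card F : ℂ) - 1) / ((Fintype.card F : ℂ) - 1)) := by
      intro c
      rw [matC_scl_right hχ.mul]
      simp only [matC]
      rw [polar_comm (Q₃ M) c.1 (sE (M := M)).1,
        show polar (Q₃ M) (sE (M := M)).1 c.1 = c.1.1.2 from polar_eVec _]
      by_cases h0 : c.1.1.2 = 0
      · simp [h0, hχ.zero]
      · rw [if_pos h0, ← hχ.sq _ h0]
        ring
    rw [Matrix.mul_apply, Finset.sum_congr rfl fun c _ => hterm c]
    simp only [← Finset.mul_sum, ← Finset.sum_div, hcount, Matrix.add_apply, Matrix.smul_apply,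
      hC0, matE_sE_scl, smul_eq_mul, mul_zero, zero_add]
    field_simp
  · -- orthogonal: the product vanishes
    obtain ⟨l, hl, hl1⟩ := hχ.nontriv
    obtain ⟨r, hr, hre⟩ := S.trans₂ (eVec F (W₁ F U)) (l • eVec F (W₁ F U)) eVec_ne_zero
      (smul_ne_zero hl eVec_ne_zero) (by rw [form_smul, hyp_eVec, mul_zero])
    let g : GG M := LL M ⟨r, hr⟩
    have hge : act g sE = (sE (M := M)) := Subtype.ext (emb_eVec r)
    have hgw : act g sW = scl (Units.mk0 l hl) (sW (M := M)) := Subtype.ext (by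
      show (emb r).1 (inW (eVec F _)) = l • inW (eVec F _)
      rw [← map_smul]
      show (_, r.1 (eVec F _)) = _
      rw [hre]
      rfl)
    have h0 := inv_mul (matC_inv (M := M) χ) (matC_inv χ) g sE sW
    rw [hge, hgw] at h0
    have h1 : (matC F M χ * matC F M χ) sE (scl (Units.mk0 l hl) sW) =
        χ l * (matC F M χ * matC F M χ) sE sW := by
      simp only [Matrix.mul_apply, matC_scl_right hχ.mul, Finset.mul_sum, Units.val_mk0]
      exact Finset.sum_congr rfl fun c _ => by ring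
    have hz : (matC F M χ * matC F M χ) sE sW = 0 := by
      have : (χ l - 1) * (matC F M χ * matC F M χ) sE sW = 0 := by
        rw [sub_mul, one_mul, ← h1, h0, sub_self]
      exact (mul_eq_zero.1 this).resolve_left (sub_ne_zero.2 hl1)
    rw [hz]
    simp [matC, polar_sE_sW, hχ.zero, matE_of_not_par _ not_par_sE_sW]
  · -- not orthogonal
    have hnp : ¬ Par (F := F) (sE (M := M)).1 (scl c sF).1 :=
      not_par_of_polar (by rw [polar_sE_scl]; exact c.ne_zero)
    have hC : matC F M χ sE (scl c sF) = χ c / ((Fintype.card F : ℂ) - 1) := by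
      simp only [matC, polar_sE_scl]
    have hterm : ∀ x : Sing (Q₃ M), matC F M χ sE x * matC F M χ x (scl c sF) =
        χ c * ((if x.1.1.2 ≠ 0 then χ (-(P₂ M x.1.2)) else 0) /
          ((Fintype.card F : ℂ) - 1) / ((Fintype.card F : ℂ) - 1)) := by
      intro x
      rw [matC_scl_right hχ.mul]
      simp only [matC]
      rw [show polar (Q₃ M) (sE (M := M)).1 x.1 = x.1.1.2 from polar_eVec _,
        polar_comm (Q₃ M) x.1 (sF (M := M)).1,
        show polar (Q₃ M) (sF (M := M)).1 x.1 = x.1.1.1 from polar_fVec _]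
      by_cases h0 : x.1.1.2 = 0
      · simp [h0, hχ.zero]
      · have h1 := x.2.1
        rw [hyp_apply] at h1
        rw [if_pos h0, show -(P₂ M x.1.2) = x.1.1.2 * x.1.1.1 by linear_combination -h1, hχ.mul]
        ring
    have hcount : ∑ x : Sing (Q₃ M), (if x.1.1.2 ≠ 0 then χ (-(P₂ M x.1.2)) else 0) =
        ((Fintype.card F : ℂ) - 1) * sgnSum M χ := by
      rw [← Finset.sum_filter, sgnSum, finsum_eq_sum_of_fintype, ← sum_units_one, Finset.sum_mul_sum]
      simp only [one_mul]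
      rw [← Finset.sum_product']
      refine Finset.sum_bij' (fun x hx => (Units.mk0 x.1.1.2 (Finset.mem_filter.1 hx).2, x.1.2))
        (fun p _ => ⟨((-(P₂ M p.2) / (p.1 : F), (p.1 : F)), p.2),
          by simp [hyp_apply], fun h => p.1.ne_zero (congrArg (fun v => v.1.2) h)⟩)
        (by simp) (fun p _ => Finset.mem_filter.2 ⟨Finset.mem_univ _, p.1.ne_zero⟩) ?_ (by simp) (by simp)
      rintro ⟨⟨⟨x, y⟩, w⟩, h⟩ hy
      have h1 := h.1
      rw [hyp_apply] at h1
      simp only [Finset.mem_filter, Finset.mem_univ, true_and] at hy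
      simp only at h1
      change y ≠ 0 at hy
      simp only [Units.val_mk0]
      congr
      rw [div_eq_iff hy]
      linear_combination -h1
    rw [Matrix.mul_apply, Finset.sum_congr rfl fun x _ => hterm x]
    simp only [← Finset.mul_sum, ← Finset.sum_div, hcount, Matrix.add_apply, Matrix.smul_apply,
      hC, matE_of_not_par _ hnp, smul_eq_mul, mul_zero, add_zero]
    field_simp

end Cfsg.Agent.CrossChar56.OrthDeg
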