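import Cfsg.Agent.CrossChar56.OrthDeg.Fixed

/-!
The degree bound from a vector fixed by the stabiliser of a singular vector.
-/

set_option autoImplicit false

noncomputable section

namespace Cfsg.Agent.CrossChar56.OrthDeg

open QuadraticMap
open Cfsg.Agent.UnitaryOrthogonal
open scoped Classical

variable {F U : Type*} [Field F] [Fintype F] [AddCommGroup U] [Module F U] [Finite U]
  {M : QuadraticForm F U} {d : ℕ}

theorem herm_swap {G : Type*} [Group G] [Fintype G] (τ : G →* GL (Fin d) ℂ) (x y : Fin d → ℂ) :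
    star (herm τ x y) = herm τ y x := by
  simp [herm, dotProduct, star_sum, mul_comm]

variable [Fintype (GG M)] (τ : GG M →* GL (Fin d) ℂ)

/-- the fixed space -/
def fixedSpace : Submodule ℂ (Fin d → ℂ) where
  carrier := {y | (∀ w, ap τ (EE M w) y = y) ∧ ∀ r, ap τ (LL M r) y = y}
  add_mem' := fun ha hb => ⟨fun w => by rw [ap_add, ha.1, hb.1],
    fun r => by rw [ap_add, ha.2, hb.2]⟩
  zero_mem' := ⟨fun w => ap_zero τ _, fun r => ap_zero τ _⟩
  smul_mem' := fun c y hy => ⟨fun w => by rw [ap_smul, hy.1], fun r => by rw [ap_smul, hy.2]⟩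

set_option maxHeartbeats 1600000 in
-- one long argument
theorem fixed_bound (S : Setup M) {B : ℕ} (num : SchemeNum M B)
    (hfix : ∀ y, (∀ g, ap τ g y = y) → y = 0) {x₁ : Fin d → ℂ} (hx₁ : x₁ ≠ 0)
    (hE₁ : ∀ w, ap τ (EE M w) x₁ = x₁) (hL₁ : ∀ r, ap τ (LL M r) x₁ = x₁) : B ≤ d := by
  haveI : Fintype (Sing (Q₃ M)) := Fintype.ofFinite _
  haveI : Fintype (W₂ F U) := Fintype.ofFinite _
  -- a torus element generating all scalars on `e`
  obtain ⟨γ, hγ⟩ := IsCyclic.exists_generator (α := Fˣ)
  obtain ⟨t, ht, hte, htf⟩ := exists_scale S.trans₃ γ.ne_zero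
  have hgEE : ∀ w, ∃ w', EE M w * ⟨t, ht⟩ = ⟨t, ht⟩ * EE M w' := by
    intro w
    have hi : (t⁻¹).1 (eVec F (W₂ F U)) = (γ : F)⁻¹ • eVec F (W₂ F U) := by
      apply t.1.injective
      rw [coe_apply_inv_apply, map_smul, hte, smul_smul, inv_mul_cancel₀ γ.ne_zero, one_smul]
    have hi' : (t⁻¹).1 (fVec F (W₂ F U)) = (γ : F) • fVec F (W₂ F U) := by
      apply t.1.injective
      rw [coe_apply_inv_apply, map_smul, htf, smul_smul, mul_inv_cancel₀ γ.ne_zero, one_smul]
    have h := conj_ee_of_lines (inv_ne_zero γ.ne_zero) γ.ne_zero hi hi' w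
    rw [inv_inv] at h
    refine ⟨(γ : F)⁻¹ • gW t⁻¹ w, Subtype.ext ?_⟩
    show ee (P₂ M) w * t = t * ee (P₂ M) _
    rw [← h]; group
  have hgLL : ∀ r, ∃ r', LL M r * ⟨t, ht⟩ = ⟨t, ht⟩ * LL M r' := by
    intro r
    have hi : ((⟨t, ht⟩ : GG M)⁻¹).1.1 (eVec F (W₂ F U)) = (γ : F)⁻¹ • eVec F (W₂ F U) := by
      show (t⁻¹).1 _ = _
      apply t.1.injective
      rw [coe_apply_inv_apply, map_smul, hte, smul_smul, inv_mul_cancel₀ γ.ne_zero, one_smul]
    have hi' : ((⟨t, ht⟩ : GG M)⁻¹).1.1 (fVec F (W₂ F U)) = (γ : F) • fVec F (W₂ F U) := by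
      show (t⁻¹).1 _ = _
      apply t.1.injective
      rw [coe_apply_inv_apply, map_smul, htf, smul_smul, mul_inv_cancel₀ γ.ne_zero, one_smul]
    obtain ⟨r', h⟩ := S.conj_LL (inv_ne_zero γ.ne_zero) γ.ne_zero hi hi' r
    rw [inv_inv] at h
    exact ⟨r', by rw [← h]; group⟩
  let T : GG M := ⟨t, ht⟩
  have hmaps : ∀ y ∈ fixedSpace τ, Matrix.mulVecLin (τ T).val y ∈ fixedSpace τ := by
    intro y hy
    constructor
    · intro w
      obtain ⟨w', e⟩ := hgEE w
      show ap τ (EE M w) (ap τ T y) = ap τ T y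
      rw [← ap_mul, e, ap_mul, hy.1]
    · intro r
      obtain ⟨r', e⟩ := hgLL r
      show ap τ (LL M r) (ap τ T y) = ap τ T y
      rw [← ap_mul, e, ap_mul, hy.2]
  haveI : Nontrivial (fixedSpace τ) :=
    ⟨⟨x₁, hE₁, hL₁⟩, 0, fun h => hx₁ (congrArg Subtype.val h)⟩
  obtain ⟨c, hc⟩ := Module.End.exists_eigenvalue ((Matrix.mulVecLin (τ T).val).restrict hmaps)
  obtain ⟨⟨x, hxE, hxL⟩, hxT⟩ := hc.exists_hasEigenvector
  have hx0 : x ≠ 0 := fun h => hxT.2 (Subtype.ext h)
  have hcx : ap τ T x = c • x := congrArg Subtype.val hxT.apply_eq_smul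
  -- the orbit
  have hmv : ∀ a : Sing (Q₃ M), ∃ g : GG M, act g sE = a := by
    intro a
    obtain ⟨g, hg, hga⟩ := S.trans₃ (eVec F (W₂ F U)) a.1 eVec_ne_zero a.2.2
      (by rw [hyp_eVec, a.2.1])
    exact ⟨⟨g, hg⟩, Subtype.ext hga⟩
  choose mv hmv using hmv
  let X : Sing (Q₃ M) → Fin d → ℂ := fun a => ap τ (mv a) x
  have hX : ∀ g, ap τ g x = X (act g sE) := by
    intro g
    obtain ⟨w, r, e⟩ := S.stab₃ (g := (mv (act g sE))⁻¹ * g) (by
      show ((mv (act g sE)).1⁻¹).1 (g.1.1 _) = _
      have h := congrArg Subtype.val (hmv (act g sE))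
      rw [act_val] at h
      change _ = g.1.1 (eVec F _) at h
      rw [← h]
      exact coe_inv_apply_apply _ _)
    have : g = mv (act g sE) * (EE M w * LL M r) := by rw [← e, mul_inv_cancel_left]
    conv_lhs => rw [this]
    rw [ap_mul, ap_mul, hxL, hxE]
  have hXg : ∀ g a, ap τ g (X a) = X (act g a) := by
    intro g a
    show ap τ g (ap τ (mv a) x) = _
    rw [← ap_mul, hX, act_mul, hmv]
  have hXe : X sE = x := by
    have h := hX 1
    rw [ap_one] at h
    exact h.symm
  have hXγ : ∀ a, X (scl γ a) = c • X a := by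
    intro a
    have h1 : act (mv a * T) sE = scl γ a := by
      rw [act_mul, show act T sE = scl γ sE from Subtype.ext hte, scl_act, hmv]
    rw [← h1, ← hX, ap_mul, hcx, ap_smul]
  have hn0 : herm τ x x ≠ 0 := fun h => hx0 (eq_zero_of_herm τ h)
  -- the character
  obtain ⟨χ, hχdef⟩ : ∃ χ : F → ℂ, ∀ l : F, χ l = if h : l = 0 then 0 else
      herm τ x (X (scl (Units.mk0 l h) sE)) / herm τ x x := ⟨_, fun _ => rfl⟩
  have hscl_mul : ∀ (l m : Fˣ) (a : Sing (Q₃ M)), scl (l * m) a = scl l (scl m a) := fun l m a =>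
    Subtype.ext (by simp [scl_val, smul_smul])
  have hscl_one : ∀ (a : Sing (Q₃ M)), scl 1 a = a := fun a => Subtype.ext (by simp [scl_val])
  have hχ : ∀ (l : Fˣ) (a : Sing (Q₃ M)), X (scl l a) = χ l • X a := by
    have key : ∀ n : ℕ, ∀ a, X (scl (γ ^ n) a) = c ^ n • X a := by
      intro n
      induction n with
      | zero => intro a; rw [pow_zero, pow_zero, hscl_one, one_smul]
      | succ n ih =>
          intro a
          rw [pow_succ', hscl_mul, hXγ, ih, smul_smul, ← pow_succ']
    intro l a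
    obtain ⟨n, hn⟩ := (mem_powers_iff_mem_zpowers).2 (hγ l)
    simp only at hn
    have hl : χ l = c ^ n := by
      rw [hχdef, dif_neg l.ne_zero, show Units.mk0 (l : F) l.ne_zero = l from Units.ext rfl, ← hn,
        key, hXe, herm_smul_right, mul_div_assoc, div_self hn0, mul_one]
    rw [hl, ← hn, key]
  have hmul0 : ∀ a b : F, χ (a * b) = χ a * χ b := by
    intro a b
    by_cases ha : a = 0
    · simp [ha, hχdef]
    by_cases hb : b = 0
    · simp [hb, hχdef]
    have h1 := hχ (Units.mk0 a ha * Units.mk0 b hb) sE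
    rw [hscl_mul, hχ, hχ, smul_smul, hXe] at h1
    simp only [Units.val_mk0, Units.val_mul] at h1
    exact (smul_left_injective ℂ hx0 h1).symm
  have hχ1 : χ 1 = 1 := by
    have h1 := hχ 1 sE
    rw [hscl_one, hXe, Units.val_one] at h1
    exact smul_left_injective ℂ hx0 (by simpa using h1.symm)
  have hχu : ∀ l : Fˣ, star (χ l) * χ l = 1 := by
    intro l
    obtain ⟨g, hg⟩ : ∃ g, act g sE = scl l (sE (M := M)) := ⟨mv _, hmv _⟩
    have h := herm_ap τ g x x
    rw [hX, hg, hχ, hXe, herm_smul_left, herm_smul_right, ← mul_assoc] at h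
    exact mul_left_eq_self₀.1 h |>.resolve_right hn0
  -- the Gram matrix
  obtain ⟨K, hKdef⟩ : ∃ K : Matrix (Sing (Q₃ M)) (Sing (Q₃ M)) ℂ,
      ∀ a b, K a b = herm τ (X a) (X b) / herm τ x x / ((Fintype.card F : ℂ) - 1) :=
    ⟨_, fun _ _ => rfl⟩
  have hKinv : Inv K := fun g a b => by rw [hKdef, hKdef, ← hXg, ← hXg, herm_ap]
  have hKl : ∀ (l : Fˣ) a b, K (scl l a) b = star (χ l) * K a b := fun l a b => by
    rw [hKdef, hKdef, hχ, herm_smul_left]; ring
  have hKr : ∀ (l : Fˣ) a b, K a (scl l b) = χ l * K a b := fun l a b => by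
    rw [hKdef, hKdef, hχ, herm_smul_right]; ring
  have hKee : K sE sE = ((Fintype.card F : ℂ) - 1)⁻¹ := by
    rw [hKdef, hXe, div_self hn0, one_div]
  have hrank : K.rank ≤ d := by
    have hfac : K = Matrix.of (fun a i => herm τ (X a) (Pi.single i 1) /
        (herm τ x x * ((Fintype.card F : ℂ) - 1))) * Matrix.of (fun i b => X b i) := by
      ext a b
      rw [hKdef, Matrix.mul_apply, div_div]
      have : X b = ∑ i, X b i • Pi.single i 1 := by
        funext j
        simp [Finset.sum_apply, Pi.single_apply]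
      conv_lhs => rw [this]
      rw [herm_sum_right, Finset.sum_div]
      refine Finset.sum_congr rfl fun i _ => ?_
      rw [herm_smul_right, Matrix.of_apply, Matrix.of_apply]
      ring
    rw [hfac]
    exact (Matrix.rank_mul_le_left _ _).trans ((Matrix.rank_le_card_width _).trans (by simp))
  have hNeq := card_sing_eq num
  have hN0 : num.N ≠ 0 := by have := num.hB; omega
  have hne := card_sub_one_ne (F := F)
  -- `E`, general identities
  have hEE : ∀ ω : F → ℂ, (∀ l : Fˣ, ω l * ω ((l⁻¹ : Fˣ) : F) = 1) →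
      (∀ a b, ω (a * b) = ω a * ω b) → matE F M ω * matE F M ω = matE F M ω := by
    intro ω hω hm
    rw [matE_mul ω (fun y => ω y⁻¹) _ (matE_scl_left hm), sum_units_div, one_smul]
    intro l
    show ω l * ω (l : F)⁻¹ = 1
    rw [← Units.val_inv_eq_inv_val, hω]
  by_cases htriv : ∀ l : Fˣ, χ l = 1
  · -- trivial character
    let one : F → ℂ := fun _ => 1
    have hone : ∀ a b : F, one (a * b) = one a * one b := fun _ _ => (one_mul _).symm
    have hEone : matE F M one * matE F M one = matE F M one := hEE one (fun _ => one_mul _) hone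
    have hXsum : ∑ a, X a = 0 := hfix _ fun g => by
      rw [ap_sum]
      simp only [hXg]
      exact (act g).sum_comp X
    have hJK : matJ F M * K = 0 := by
      ext a b
      simp only [Matrix.mul_apply, matJ, hKdef, Matrix.zero_apply, ← Finset.mul_sum,
        ← Finset.sum_div, ← herm_sum_left, hXsum, herm_zero_left, zero_div, mul_zero]
    have hKJ : K * matJ F M = 0 := by
      ext a b
      simp only [Matrix.mul_apply, matJ, hKdef, Matrix.zero_apply, ← Finset.sum_mul,
        ← Finset.sum_div, ← herm_sum_right, hXsum, herm_zero_right, zero_div, zero_mul]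
    obtain ⟨σ, hσ⟩ : ∃ σ, σ = herm τ x (X sW) / herm τ x x := ⟨_, rfl⟩
    obtain ⟨τ₀, hτ₀⟩ : ∃ τ₀, τ₀ = herm τ x (X sF) / herm τ x x := ⟨_, rfl⟩
    have hK : K = (1 - τ₀) • matE F M one + (σ - τ₀) • matA F M + τ₀ • matJ F M := by
      refine funext fun a => funext fun b => ext_reps S hKinv
        (inv_add (inv_add (inv_smul (matE_inv _) _) (inv_smul matA_inv _)) (inv_smul matJ_inv _))
        (fun l => ?_) ?_ (fun l => ?_) a b
      · have hA0 : matA F M sE (scl l sE) = 0 := by
          simp only [matA]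
          rw [if_neg (fun h => h.2 ⟨l, scl_val l _⟩)]
        rw [hKr, htriv, hKee]
        simp only [Matrix.add_apply, Matrix.smul_apply, hA0, matE_sE_scl, matJ, smul_eq_mul, one]
        ring
      · have hA1 : matA F M sE sW = ((Fintype.card F : ℂ) - 1)⁻¹ := by
          simp only [matA]
          rw [if_pos ⟨polar_sE_sW, not_par_sE_sW⟩]
        simp only [Matrix.add_apply, Matrix.smul_apply, hA1, matE_of_not_par _ not_par_sE_sW, matJ,
          smul_eq_mul, hKdef, hXe, ← hσ]
        ring
      · have hnp : ¬ Par (F := F) (sE (M := M)).1 (scl l sF).1 :=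
          not_par_of_polar (by rw [polar_sE_scl]; exact l.ne_zero)
        have hA2 : matA F M sE (scl l sF) = 0 := by
          simp only [matA]
          rw [if_neg]
          rintro ⟨h, -⟩
          rw [polar_sE_scl] at h
          exact l.ne_zero h
        rw [hKr, htriv]
        simp only [Matrix.add_apply, Matrix.smul_apply, hA2, matE_of_not_par _ hnp, matJ,
          smul_eq_mul, hKdef, hXe, ← hτ₀]
        ring
    have hJl : ∀ (l : Fˣ) a b, matJ F M (scl l a) b = one l * matJ F M a b :=
      fun _ _ _ => (one_mul _).symm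
    have hJr : ∀ (l : Fˣ) a b, matJ F M a (scl l b) = one l * matJ F M a b :=
      fun _ _ _ => (one_mul _).symm
    have hJA : matJ F M * matA F M = (num.k : ℂ) • matJ F M := by
      ext a b
      simp only [Matrix.mul_apply, matJ, ← Finset.mul_sum, Matrix.smul_apply, smul_eq_mul]
      rw [Finset.sum_congr rfl (fun c _ => matA_comm c b), row_sum_A S num, mul_comm]
    have hJJ : matJ F M * matJ F M = (num.N : ℂ) • matJ F M := by
      ext a b
      simp only [Matrix.mul_apply, matJ, Finset.sum_const, Finset.card_univ, Matrix.smul_apply,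
        smul_eq_mul, ← hNeq, nsmul_eq_mul]
      ring
    have hA0 : (matA F M).trace = 0 := by
      rw [Matrix.trace]
      refine Finset.sum_eq_zero fun a _ => ?_
      simp only [Matrix.diag, matA]
      exact if_neg fun h => h.2 ⟨1, (one_smul F _).symm⟩
    have hJt : (matJ F M).trace = num.N := by
      simp [Matrix.trace, matJ, ← hNeq, div_eq_mul_inv]
    have hEt : (matE F M one).trace = num.N := by rw [matE_trace one rfl, hNeq]
    have hdiv : ∀ l : Fˣ, one l * one l = 1 := fun _ => one_mul _
    rcases scheme_bound (r := (num.r : ℂ)) (s := (num.s : ℂ)) (σ := σ) (τ := τ₀) hN0 hEone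
        (by rw [mul_matE one one _ matA_scl_right, sum_units_div (fun _ => one_mul _), one_smul])
        (by rw [mul_matE one one _ hJr, sum_units_div (fun _ => one_mul _), one_smul])
        (by rw [matE_mul one one _ matA_scl_left, sum_units_div (fun _ => one_mul _), one_smul])
        (by rw [matE_mul one one _ hJl, sum_units_div (fun _ => one_mul _), one_smul])
        hJA hJJ (matA_sq S num) hEt hA0 hJt K hK hJK hKJ hrank with h | ⟨m, hm, h⟩
    · have := num.hB; omega
    · have hk' : ((num.k : ℂ) + ((num.N : ℂ) - 1) * num.r) =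
          (((num.k : ℤ) + ((num.N : ℤ) - 1) * num.r : ℤ) : ℂ) := by push_cast; ring
      have hk'' : ((num.k : ℂ) + ((num.N : ℂ) - 1) * num.s) =
          (((num.k : ℤ) + ((num.N : ℤ) - 1) * num.s : ℤ) : ℂ) := by push_cast; ring
      have hpos : (0 : ℤ) < num.r - num.s := by have := num.hlt; omega
      have hBm : (B : ℤ) ≤ m := by
        rcases h with h | h
        · rw [hk'] at h
          have h' : (num.r - num.s) * (m : ℤ) = num.k + ((num.N : ℤ) - 1) * num.r := by
            exact_mod_cast h
          have := num.hBr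
          exact le_of_mul_le_mul_right (by linarith) hpos
        · rw [hk''] at h
          have h' : (num.s - num.r) * (m : ℤ) = num.k + ((num.N : ℤ) - 1) * num.s := by
            exact_mod_cast h
          have := num.hBs
          exact le_of_mul_le_mul_right (by linarith) hpos
      omega
  · -- non-trivial character: orthogonal pairs have product zero
    push Not at htriv
    obtain ⟨l₀, hl₀⟩ := htriv
    have hσ0 : K sE sW = 0 := by
      obtain ⟨r, hr, hre⟩ := S.trans₂ (eVec F (W₁ F U)) ((l₀ : F) • eVec F (W₁ F U)) eVec_ne_zero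
        (smul_ne_zero l₀.ne_zero eVec_ne_zero) (by rw [form_smul, hyp_eVec, mul_zero])
      have hge : act (LL M ⟨r, hr⟩) sE = (sE (M := M)) := Subtype.ext (emb_eVec r)
      have hgw : act (LL M ⟨r, hr⟩) sW = scl l₀ (sW (M := M)) := Subtype.ext (by
        show (emb r).1 (inW (eVec F _)) = (l₀ : F) • inW (eVec F _)
        rw [← map_smul]
        show (_, r.1 (eVec F _)) = _
        rw [hre]
        rfl)
      have h0 := hKinv (LL M ⟨r, hr⟩) sE sW
      rw [hge, hgw, hKr] at h0
      have : (χ l₀ - 1) * K sE sW = 0 := by rw [sub_mul, one_mul, h0, sub_self]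
      exact (mul_eq_zero.1 this).resolve_left (sub_ne_zero.2 hl₀)
    by_cases hτ : K sE sF = 0
    · -- orthogonal orbit
      have hK : K = matE F M χ := by
        refine funext fun a => funext fun b => ext_reps S hKinv (matE_inv χ)
          (fun l => ?_) ?_ (fun l => ?_) a b
        · rw [hKr, hKee, matE_sE_scl, div_eq_mul_inv]
        · rw [hσ0, matE_of_not_par _ not_par_sE_sW]
        · rw [hKr, hτ, mul_zero, matE_of_not_par _ (not_par_of_polar
            (by rw [polar_sE_scl]; exact l.ne_zero))]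
      have hidem : matE F M χ * matE F M χ = matE F M χ := hEE χ (fun l => by
        rw [← hmul0, ← Units.val_mul, mul_inv_cancel, Units.val_one, hχ1]) hmul0
      obtain ⟨m, hm, ht'⟩ := exists_trace_idem hidem
      rw [matE_trace χ hχ1, hNeq, Nat.cast_inj] at ht'
      rw [hK] at hrank
      have := num.hB
      omega
    · -- signed orbit
      obtain ⟨g, hg, hge, hgf⟩ := exists_swap S.trans₃
      have hsE : act ⟨g, hg⟩ sE = (sF (M := M)) := Subtype.ext hge
      have hsF : act ⟨g, hg⟩ sF = (sE (M := M)) := Subtype.ext hgf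
      have hsq : ∀ l : Fˣ, χ l * χ l = 1 := by
        intro l
        obtain ⟨g', hg', hge', hgf'⟩ := exists_scale S.trans₃ l.ne_zero
        have e1 : act ⟨g', hg'⟩ sE = scl l (sE (M := M)) := Subtype.ext hge'
        have e2 : act ⟨g', hg'⟩ (scl l sF) = (sF (M := M)) := Subtype.ext (by
          show g'.1 ((l : F) • fVec F _) = fVec F _
          rw [map_smul, hgf', smul_smul, mul_inv_cancel₀ l.ne_zero, one_smul])
        have h1 := hKinv ⟨g', hg'⟩ sE (scl l sF)
        rw [e1, e2, hKl, hKr] at h1
        have hreal : star (χ l) = χ l := mul_right_cancel₀ hτ h1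
        have h2 := hχu l
        rwa [hreal] at h2
      have hS : IsSgn χ := ⟨by simp [hχdef], hmul0, hχ1, fun a ha => hsq (Units.mk0 a ha),
        ⟨l₀, l₀.ne_zero, hl₀⟩⟩
      have hinv : ∀ l : Fˣ, χ ((l⁻¹ : Fˣ) : F) = χ l := by
        intro l
        have : χ l * χ ((l⁻¹ : Fˣ) : F) = χ l * χ l := by
          rw [hsq, ← hmul0, ← Units.val_mul, mul_inv_cancel, Units.val_one, hχ1]
        exact mul_left_cancel₀ (fun h0 => by simpa [h0] using hsq l) this
      have hK : K = matE F M χ + (K sE sF * ((Fintype.card F : ℂ) - 1)) • matC F M χ := by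
        refine funext fun a => funext fun b => ext_reps S hKinv
          (inv_add (matE_inv χ) (inv_smul (matC_inv χ) _)) (fun l => ?_) ?_ (fun l => ?_) a b
        · have hC0 : matC F M χ sE (scl l sE) = 0 := by
            simp only [matC, scl_val, polar_smul_right, polar_self_eq]
            show χ ((l : F) • (2 * Q₃ M (eVec F _))) / _ = 0
            rw [hyp_eVec, mul_zero, smul_zero, hS.zero, zero_div]
          rw [hKr, hKee]
          simp only [Matrix.add_apply, Matrix.smul_apply, hC0, matE_sE_scl, smul_eq_mul]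
          ring
        · rw [hσ0]
          simp [matC, polar_sE_sW, hS.zero, matE_of_not_par _ not_par_sE_sW]
        · have hnp : ¬ Par (F := F) (sE (M := M)).1 (scl l sF).1 :=
            not_par_of_polar (by rw [polar_sE_scl]; exact l.ne_zero)
          rw [hKr]
          simp only [Matrix.add_apply, Matrix.smul_apply, matC, polar_sE_scl,
            matE_of_not_par _ hnp, smul_eq_mul, zero_add]
          field_simp
      have hsum : (∑ l : Fˣ, χ l * χ l) / ((Fintype.card F : ℂ) - 1) = 1 := sum_units_div hsq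
      rcases signed_bound (d := d) (τ := K sE sF * ((Fintype.card F : ℂ) - 1)) hN0
          (hEE χ (fun l => by rw [hinv, hsq]) hmul0)
          (by rw [mul_matE χ χ _ (matC_scl_right hmul0)]; simp only [hinv, hsum, one_smul])
          (by rw [matE_mul χ χ _ (matC_scl_left hmul0), hsum, one_smul])
          (matC_sq S hS) (by rw [matE_trace χ hχ1, hNeq])
          (by
            rw [Matrix.trace]
            refine Finset.sum_eq_zero fun a _ => ?_
            simp [matC, polar_self_eq, a.2.1, hS.zero])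
          (hK ▸ hrank) with h | ⟨m, hm, hm0, h⟩
      · have := num.hB; omega
      · exact (num.hBQ χ hS m hm0 h).trans hm

end Cfsg.Agent.CrossChar56.OrthDeg
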