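import Cfsg.Agent.Lib.UnitaryOrthogonal.Omega

/-!
Structure of the group of Eichler transformations of a hyperbolic extension: the root groups at
the two standard singular vectors, index and perfectness.
-/

set_option autoImplicit false

namespace Cfsg.Agent.CrossChar56.OrthDeg

open QuadraticMap
open scoped commutatorElement
open Cfsg.Agent.UnitaryOrthogonal

variable {F W : Type*} [Field F] [AddCommGroup W] [Module F W] (P : QuadraticForm F W)

/-- root element at `e` -/
noncomputable def ee (w : W) : orth (hyp P) := eich (hyp P) (eVec F W) (inW w)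

/-- root element at `f` -/
noncomputable def ff (w : W) : orth (hyp P) := eich (hyp P) (fVec F W) (inW w)

variable {P}

theorem ee_mem (w : W) : ee P w ∈ eichGroup (hyp P) := eich_mem_eichGroup _ _

theorem ff_mem (w : W) : ff P w ∈ eichGroup (hyp P) := eich_mem_eichGroup _ _

theorem ee_add (a b : W) : ee P (a + b) = ee P a * ee P b := by
  rw [ee, ee, ee, eich_mul hyp_eVec (polar_eVec_inW a) (polar_eVec_inW b), map_add]

theorem ff_add (a b : W) : ff P (a + b) = ff P a * ff P b := by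
  rw [ff, ff, ff, eich_mul hyp_fVec (polar_fVec_inW a) (polar_fVec_inW b), map_add]

theorem ee_zero : ee P (0 : W) = 1 := by rw [ee, map_zero, eich_zero]

theorem ff_zero : ff P (0 : W) = 1 := by rw [ff, map_zero, eich_zero]

theorem ee_neg (a : W) : ee P (-a) = (ee P a)⁻¹ := by
  rw [eq_inv_iff_mul_eq_one, ← ee_add, neg_add_cancel, ee_zero]

theorem ff_neg (a : W) : ff P (-a) = (ff P a)⁻¹ := by
  rw [eq_inv_iff_mul_eq_one, ← ff_add, neg_add_cancel, ff_zero]

theorem ee_apply (z : W) (v : (F × F) × W) :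
    (ee P z).1 v = ((v.1.1 - polar P z v.2 - P z * v.1.2, v.1.2), v.2 + v.1.2 • z) := by
  rw [ee, eich_apply hyp_eVec (polar_eVec_inW z), polar_eVec]
  obtain ⟨⟨x, y⟩, w⟩ := v
  simp [polar_hyp, eVec, inW_apply, Prod.ext_iff, mul_comm]

theorem ff_apply (z : W) (v : (F × F) × W) :
    (ff P z).1 v = ((v.1.1, v.1.2 - polar P z v.2 - P z * v.1.1), v.2 + v.1.1 • z) := by
  rw [ff, eich_apply hyp_fVec (polar_fVec_inW z), polar_fVec]
  obtain ⟨⟨x, y⟩, w⟩ := v
  simp [polar_hyp, fVec, inW_apply, Prod.ext_iff, mul_comm]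

/-- the action on the complement of an element preserving the two standard lines -/
def gW (g : orth (hyp P)) (w : W) : W := (g.1 (inW w)).2

theorem gW_spec {g : orth (hyp P)} {l m : F} (hl : l ≠ 0) (hm : m ≠ 0)
    (he : g.1 (eVec F W) = l • eVec F W) (hf : g.1 (fVec F W) = m • fVec F W) (w : W) :
    g.1 (inW w) = inW (gW g w) := by
  have h1 := map_polar g (eVec F W) (inW w)
  have h2 := map_polar g (fVec F W) (inW w)
  rw [he, polar_smul_left, polar_eVec, polar_eVec, smul_eq_mul] at h1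
  rw [hf, polar_smul_left, polar_fVec, polar_fVec, smul_eq_mul] at h2
  refine Prod.ext (Prod.ext ?_ ?_) rfl
  · simpa [inW_apply, hm] using h2
  · simpa [inW_apply, hl] using h1

theorem form_gW {g : orth (hyp P)} {l m : F} (hl : l ≠ 0) (hm : m ≠ 0)
    (he : g.1 (eVec F W) = l • eVec F W) (hf : g.1 (fVec F W) = m • fVec F W) (w : W) :
    P (gW g w) = P w := by
  have h := map_form g (inW w)
  rwa [gW_spec hl hm he hf, hyp_inW, hyp_inW] at h

theorem polar_gW {g : orth (hyp P)} {l m : F} (hl : l ≠ 0) (hm : m ≠ 0)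
    (he : g.1 (eVec F W) = l • eVec F W) (hf : g.1 (fVec F W) = m • fVec F W) (a b : W) :
    polar P (gW g a) (gW g b) = polar P a b := by
  have h := map_polar g (inW a) (inW b)
  rwa [gW_spec hl hm he hf, gW_spec hl hm he hf, polar_hyp_inW, polar_hyp_inW] at h

theorem gW_smul (g : orth (hyp P)) (c : F) (w : W) : gW g (c • w) = c • gW g w := by
  simp [gW]

theorem gW_add (g : orth (hyp P)) (a b : W) : gW g (a + b) = gW g a + gW g b := by
  simp [gW]

theorem conj_ee_of_lines {g : orth (hyp P)} {l m : F} (hl : l ≠ 0) (hm : m ≠ 0)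
    (he : g.1 (eVec F W) = l • eVec F W) (hf : g.1 (fVec F W) = m • fVec F W) (w : W) :
    g * ee P w * g⁻¹ = ee P (l • gW g w) := by
  rw [ee, conj_eich, he, gW_spec hl hm he hf, eich_smul_left hyp_eVec (polar_eVec_inW _),
    ← map_smul, ee]

theorem conj_ff_of_lines {g : orth (hyp P)} {l m : F} (hl : l ≠ 0) (hm : m ≠ 0)
    (he : g.1 (eVec F W) = l • eVec F W) (hf : g.1 (fVec F W) = m • fVec F W) (w : W) :
    g * ff P w * g⁻¹ = ff P (m • gW g w) := by
  rw [ff, conj_eich, hf, gW_spec hl hm he hf, eich_smul_left hyp_fVec (polar_fVec_inW _),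
    ← map_smul, ff]

theorem emb_eVec (r : orth P) : (emb r).1 (eVec F W) = eVec F W := by
  simp [emb_apply, eVec]

theorem emb_fVec (r : orth P) : (emb r).1 (fVec F W) = fVec F W := by
  simp [emb_apply, fVec]

theorem gW_emb (r : orth P) (w : W) : gW (emb r) w = r.1 w := rfl

theorem conj_emb_ee (r : orth P) (w : W) : emb r * ee P w * (emb r)⁻¹ = ee P (r.1 w) := by
  rw [ee, conj_eich, emb_eVec, emb_apply, inW_apply]
  rfl

theorem conj_emb_ff (r : orth P) (w : W) : emb r * ff P w * (emb r)⁻¹ = ff P (r.1 w) := by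
  rw [ff, conj_eich, emb_fVec, emb_apply, inW_apply]
  rfl

theorem emb_mem {r : orth P} (hr : r ∈ eichGroup P) : emb r ∈ eichGroup (hyp P) := by
  have : (eichGroup P).map emb ≤ eichGroup (hyp P) := by
    rw [eichGroup, MonoidHom.map_closure, Subgroup.closure_le]
    rintro _ ⟨_, ⟨u, z, hu, hz, rfl⟩, rfl⟩
    rw [emb_eich hu hz]
    exact eich_mem_eichGroup _ _
  exact this ⟨r, hr, rfl⟩

/-- every Eichler transformation is conjugate to a root element at `e` or `f` -/
theorem eich_reduce (hP : PolarND P) {u z : (F × F) × W} (hu : hyp P u = 0)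
    (hz : polar (hyp P) u z = 0) :
    ∃ g ∈ eichGroup (hyp P), ∃ w : W,
      eich (hyp P) u z = g * ee P w * g⁻¹ ∨ eich (hyp P) u z = g * ff P w * g⁻¹ := by
  by_cases hu0 : u = 0
  · refine ⟨1, one_mem _, 0, Or.inl ?_⟩
    rw [ee_zero, one_mul, inv_one, mul_one]
    exact orth_ext fun x => by rw [eich_apply hu hz, hu0]; simp
  -- the cases with a non-zero coordinate
  have key : ∀ u z : (F × F) × W, hyp P u = 0 → polar (hyp P) u z = 0 →
      (u.1.1 ≠ 0 ∨ u.1.2 ≠ 0) → ∃ g ∈ eichGroup (hyp P), ∃ w : W,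
        eich (hyp P) u z = g * ee P w * g⁻¹ ∨ eich (hyp P) u z = g * ff P w * g⁻¹ := by
    intro u z hu hz hne
    have fin : ∀ (g : orth (hyp P)) (x : F), g.1 (x • eVec F W) = u →
        ∀ y : (F × F) × W, g.1 y = z → x ≠ 0 →
          ∃ w : W, eich (hyp P) u z = g * ee P w * g⁻¹ := by
      intro g x hgu y hgy hx
      have hy : polar (hyp P) (eVec F W) y = 0 := by
        rw [← hgu, ← hgy, map_polar, polar_smul_left, smul_eq_mul, mul_eq_zero] at hz
        exact hz.resolve_left hx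
      have hd : x • y = inW (x • y.2) + (x * y.1.1) • eVec F W := by
        rw [polar_eVec] at hy
        simp [inW_apply, eVec, Prod.ext_iff, hy]
      refine ⟨x • y.2, ?_⟩
      rw [← hgu, ← hgy, ← conj_eich, eich_smul_left hyp_eVec hy, hd,
        eich_add_smul hyp_eVec (polar_eVec_inW _), ee]
    have fin' : ∀ (g : orth (hyp P)) (x : F), g.1 (x • fVec F W) = u →
        ∀ y : (F × F) × W, g.1 y = z → x ≠ 0 →
          ∃ w : W, eich (hyp P) u z = g * ff P w * g⁻¹ := by
      intro g x hgu y hgy hx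
      have hy : polar (hyp P) (fVec F W) y = 0 := by
        rw [← hgu, ← hgy, map_polar, polar_smul_left, smul_eq_mul, mul_eq_zero] at hz
        exact hz.resolve_left hx
      have hd : x • y = inW (x • y.2) + (x * y.1.2) • fVec F W := by
        rw [polar_fVec] at hy
        simp [inW_apply, fVec, Prod.ext_iff, hy]
      refine ⟨x • y.2, ?_⟩
      rw [← hgu, ← hgy, ← conj_eich, eich_smul_left hyp_fVec hy, hd,
        eich_add_smul hyp_fVec (polar_fVec_inW _), ff]
    rcases hne with hx | hy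
    · obtain ⟨w, hw⟩ := fin (ff P (u.1.1⁻¹ • u.2)) u.1.1 (by
        obtain ⟨⟨x, y⟩, w⟩ := u
        rw [hyp_apply] at hu
        simp only at hx hu ⊢
        rw [ff_apply]
        simp only [eVec, Prod.smul_mk, smul_zero, smul_eq_mul, mul_one, mul_zero, zero_add,
          polar_zero_right, form_smul, smul_smul, mul_inv_cancel₀ hx, one_smul, Prod.mk.injEq,
          true_and, and_true]
        field_simp
        linear_combination -hu)
        ((ff P (u.1.1⁻¹ • u.2))⁻¹.1 z) (coe_apply_inv_apply _ _) hx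
      exact ⟨_, ff_mem _, w, Or.inl hw⟩
    · obtain ⟨w, hw⟩ := fin' (ee P (u.1.2⁻¹ • u.2)) u.1.2 (by
        obtain ⟨⟨x, y⟩, w⟩ := u
        rw [hyp_apply] at hu
        simp only at hy hu ⊢
        rw [ee_apply]
        simp only [fVec, Prod.smul_mk, smul_zero, smul_eq_mul, mul_one, mul_zero, zero_add,
          polar_zero_right, form_smul, smul_smul, mul_inv_cancel₀ hy, one_smul, Prod.mk.injEq,
          true_and, and_true]
        field_simp
        linear_combination -hu)
        ((ee P (u.1.2⁻¹ • u.2))⁻¹.1 z) (coe_apply_inv_apply _ _) hy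
      exact ⟨_, ee_mem _, w, Or.inr hw⟩
  by_cases hne : u.1.1 ≠ 0 ∨ u.1.2 ≠ 0
  · exact key u z hu hz hne
  push Not at hne
  obtain ⟨a, ha⟩ : ∃ a, polar P a u.2 ≠ 0 := by
    by_contra hc
    push Not at hc
    exact hu0 (Prod.ext (Prod.ext hne.1 hne.2) (hP _ fun x => by rw [polar_comm]; exact hc x))
  obtain ⟨g, hg, w, hw⟩ := key ((ee P a).1 u) ((ee P a).1 z) (by rw [map_form]; exact hu)
    (by rw [map_polar]; exact hz) (Or.inl (by rw [ee_apply]; simp [hne.1, hne.2, ha]))
  refine ⟨(ee P a)⁻¹ * g, mul_mem (inv_mem (ee_mem _)) hg, w, ?_⟩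
  rw [← conj_eich] at hw
  rcases hw with h | h
  · refine Or.inl ?_
    calc eich (hyp P) u z = (ee P a)⁻¹ * (ee P a * eich (hyp P) u z * (ee P a)⁻¹) * ee P a := by group
      _ = _ := by rw [h]; group
  · refine Or.inr ?_
    calc eich (hyp P) u z = (ee P a)⁻¹ * (ee P a * eich (hyp P) u z * (ee P a)⁻¹) * ee P a := by group
      _ = _ := by rw [h]; group

theorem eichGroup_le_of_roots (hP : PolarND P) {H : Subgroup (orth (hyp P))}
    (hconj : ∀ g ∈ eichGroup (hyp P), ∀ x ∈ H, g * x * g⁻¹ ∈ H)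
    (he : ∀ w, ee P w ∈ H) (hf : ∀ w, ff P w ∈ H) : eichGroup (hyp P) ≤ H := by
  conv_lhs => rw [eichGroup]
  rw [Subgroup.closure_le]
  rintro _ ⟨u, z, hu, hz, rfl⟩
  obtain ⟨g, hg, w, h | h⟩ := eich_reduce hP hu hz <;> rw [h]
  · exact hconj g hg _ (he w)
  · exact hconj g hg _ (hf w)

/-! ### The quotient by the Eichler group -/

/-- reflection in `(c, 1)` -/
def sR (P : QuadraticForm F W) (c : F) : orth (hyp P) := rf (hyp P) ((c, 1), 0)

theorem sR_eVec (c : F) (hc : c ≠ 0) :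
    (sR P c).1 (eVec F W) = (-c⁻¹) • fVec F W := by
  rw [sR, rf_apply]
  simp [eVec, fVec, polar_hyp, hc, Prod.ext_iff]

theorem sR_fVec (c : F) (hc : c ≠ 0) :
    (sR P c).1 (fVec F W) = (-c) • eVec F W := by
  rw [sR, rf_apply]
  simp [eVec, fVec, polar_hyp, hc, Prod.ext_iff]

theorem sR_inW (c : F) (w : W) : (sR P c).1 (inW w) = inW w :=
  rf_apply_of_polar (by simp [polar_hyp, inW_apply])

theorem orth_hyp_ext {g h : orth (hyp P)} (he : g.1 (eVec F W) = h.1 (eVec F W))
    (hf : g.1 (fVec F W) = h.1 (fVec F W)) (hw : ∀ w, g.1 (inW w) = h.1 (inW w)) : g = h := by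
  refine orth_ext fun v => ?_
  rw [decomp v]
  simp [map_add, map_smul, he, hf, hw]

theorem sR_mul_sR_mul_sR (a b c : F) (ha : a ≠ 0) (hb : b ≠ 0) (hc : c ≠ 0) :
    sR P a * sR P b * sR P c = sR P (a * c / b) := by
  have h : a * c / b ≠ 0 := div_ne_zero (mul_ne_zero ha hc) hb
  refine orth_hyp_ext ?_ ?_ fun w => ?_
  · simp only [coe_mul_apply, sR_eVec c hc, map_smul, sR_fVec b hb, sR_eVec a ha, sR_eVec _ h,
      smul_smul]
    congr 1
    field_simp
  · simp only [coe_mul_apply, sR_fVec c hc, map_smul, sR_eVec b hb, sR_fVec a ha, sR_fVec _ h,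
      smul_smul]
    congr 1
    field_simp
  · simp only [coe_mul_apply, sR_inW]

theorem rf_inW_equiv {z : W} (hz : P z ≠ 0) :
    sR P (P z) * rf (hyp P) (inW z) ∈ eichGroup (hyp P) := by
  have h1 : rf (hyp P) (inW z + P z • eVec F W) = rf (hyp P) (inW z) * ee P z := by
    rw [ee, eich_eq_rf_mul_rf hyp_eVec (polar_eVec_inW z) (by rwa [hyp_inW]), hyp_inW,
      ← mul_assoc, rf_mul_self, one_mul]
  have h2 : (ff P (-(P z)⁻¹ • z)).1 (inW z + P z • eVec F W) = ((P z, 1), 0) := by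
    rw [ff_apply]
    simp only [inW_apply, eVec, Prod.smul_mk, Prod.mk_add_mk, smul_eq_mul, mul_one, mul_zero,
      smul_zero, add_zero, zero_add, polar_smul_left, polar_self_eq, form_smul, smul_smul]
    refine Prod.ext (Prod.ext rfl ?_) ?_
    · show 0 - -(P z)⁻¹ * (2 * P z) - -(P z)⁻¹ * -(P z)⁻¹ * P z * P z = 1
      field_simp
      ring
    · show z + (P z * -(P z)⁻¹) • z = 0
      rw [mul_neg, mul_inv_cancel₀ hz, neg_one_smul, add_neg_cancel]
  have h3 : sR P (P z) = ff P (-(P z)⁻¹ • z) * (rf (hyp P) (inW z) * ee P z) *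
      (ff P (-(P z)⁻¹ • z))⁻¹ := by
    rw [← h1, conj_rf, h2, sR]
  rw [h3]
  have : ff P (-(P z)⁻¹ • z) * (rf (hyp P) (inW z) * ee P z) * (ff P (-(P z)⁻¹ • z))⁻¹ *
      rf (hyp P) (inW z) = ff P (-(P z)⁻¹ • z) *
        (rf (hyp P) (inW z) * (ee P z * (ff P (-(P z)⁻¹ • z))⁻¹) * (rf (hyp P) (inW z))⁻¹) := by
    rw [rf_inv]; simp only [mul_assoc]
  rw [this]
  exact mul_mem (ff_mem _) (eichGroup_normal.conj_mem _ (mul_mem (ee_mem _) (inv_mem (ff_mem _))) _)

theorem mk_rf_inW {z : W} (hz : P z ≠ 0) :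
    (QuotientGroup.mk (rf (hyp P) (inW z)) : orth (hyp P) ⧸ eichGroup (hyp P)) =
      QuotientGroup.mk (sR P (P z)) := by
  rw [QuotientGroup.eq, rf_inv]
  have := inv_mem (rf_inW_equiv hz)
  rwa [_root_.mul_inv_rev, rf_inv, sR, rf_inv] at this

theorem mk_sR_scale (hex : ∃ z, P z ≠ 0) {a b : F} (ha : a ≠ 0) (hb : b ≠ 0) :
    (QuotientGroup.mk (sR P (a * a * b)) : orth (hyp P) ⧸ eichGroup (hyp P)) =
      QuotientGroup.mk (sR P b) := by
  obtain ⟨z, hz⟩ := hex
  have h1 : (QuotientGroup.mk (sR P (a * a * P z)) : orth (hyp P) ⧸ eichGroup (hyp P)) =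
      QuotientGroup.mk (sR P (P z)) := by
    rw [← form_smul, ← mk_rf_inW (by rw [form_smul]; exact mul_ne_zero (mul_ne_zero ha ha) hz),
      map_smul, rf_smul ha, mk_rf_inW hz]
  have h2 : sR P (a * a * b) = sR P (a * a * P z) * sR P (P z) * sR P b := by
    rw [sR_mul_sR_mul_sR _ _ _ (mul_ne_zero (mul_ne_zero ha ha) hz) hz hb]
    congr 1
    field_simp
  rw [h2, QuotientGroup.mk_mul, QuotientGroup.mk_mul, h1, ← QuotientGroup.mk_mul,
    show sR P (P z) * sR P (P z) = 1 from rf_mul_self _, QuotientGroup.mk_one, one_mul]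

/-- the torus squares lie in the Eichler group -/
theorem torus_sq_mem (hex : ∃ z, P z ≠ 0) {a : F} (ha : a ≠ 0) :
    sR P (a * a) * sR P 1 ∈ eichGroup (hyp P) := by
  have h := mk_sR_scale (P := P) hex ha one_ne_zero
  rw [mul_one, eq_comm, QuotientGroup.eq] at h
  have hi : (sR P 1)⁻¹ = sR P 1 := rf_inv _
  rw [hi] at h
  have h' := eichGroup_normal.conj_mem _ h (sR P 1)
  rw [hi, ← mul_assoc, show sR P 1 * sR P 1 = 1 from rf_mul_self _, one_mul] at h'
  exact h'

theorem exists_torus_sq (hex : ∃ z, P z ≠ 0) {a : F} (ha : a ≠ 0) :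
    ∃ g ∈ eichGroup (hyp P), g.1 (eVec F W) = (a * a) • eVec F W ∧
      g.1 (fVec F W) = (a * a)⁻¹ • fVec F W ∧ ∀ w, g.1 (inW w) = inW w := by
  have ha2 : a * a ≠ 0 := mul_ne_zero ha ha
  refine ⟨_, torus_sq_mem hex ha, ?_, ?_, fun w => ?_⟩
  · rw [coe_mul_apply, sR_eVec 1 one_ne_zero, map_smul, sR_fVec _ ha2, smul_smul]
    simp
  · rw [coe_mul_apply, sR_fVec 1 one_ne_zero, map_smul, sR_eVec _ ha2, smul_smul]
    simp
  · rw [coe_mul_apply, sR_inW, sR_inW]

/-- perfectness, `q > 3` -/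
theorem eichGroup_perfect_of_torus (hP : PolarND P) (hex : ∃ z, P z ≠ 0)
    (hq : ∃ a : F, a ≠ 0 ∧ a * a ≠ 1) :
    ⁅eichGroup (hyp P), eichGroup (hyp P)⁆ = eichGroup (hyp P) := by
  refine le_antisymm (Subgroup.commutator_le_self _) ?_
  obtain ⟨a, ha, ha1⟩ := hq
  obtain ⟨h, hh, he, hf, hw⟩ := exists_torus_sq (P := P) hex ha
  have ha2 : a * a ≠ 0 := mul_ne_zero ha ha
  have hg : ∀ w, gW h w = w := fun w => by rw [gW, hw]; rfl
  refine eichGroup_le_of_roots hP
    (fun g _ x hx => (Subgroup.commutator_normal _ _).conj_mem x hx g) (fun w => ?_) (fun w => ?_)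
  · have : ee P w = ⁅h, ee P ((a * a - 1)⁻¹ • w)⁆ := by
      rw [commutatorElement_def, conj_ee_of_lines ha2 (inv_ne_zero ha2) he hf, hg, ← ee_neg,
        ← ee_add, smul_smul, ← neg_smul, ← add_smul]
      conv_lhs => rw [← one_smul F w]
      congr 2
      have : a * a - 1 ≠ 0 := sub_ne_zero.2 ha1
      rw [← neg_one_mul, ← add_mul, ← sub_eq_add_neg]
      exact (mul_inv_cancel₀ this).symm
    rw [this]
    exact Subgroup.commutator_mem_commutator hh (ee_mem _)
  · have : ff P w = ⁅h, ff P (((a * a)⁻¹ - 1)⁻¹ • w)⁆ := by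
      rw [commutatorElement_def, conj_ff_of_lines ha2 (inv_ne_zero ha2) he hf, hg, ← ff_neg,
        ← ff_add, smul_smul, ← neg_smul, ← add_smul]
      conv_lhs => rw [← one_smul F w]
      congr 2
      have : (a * a)⁻¹ - 1 ≠ 0 := sub_ne_zero.2 (fun e => ha1 (inv_eq_one.1 e))
      rw [← neg_one_mul, ← add_mul, ← sub_eq_add_neg]
      exact (mul_inv_cancel₀ this).symm
    rw [this]
    exact Subgroup.commutator_mem_commutator hh (ff_mem _)

theorem exists_mk_sR (hgen : elemGroup (hyp P) = ⊤) (hP : reflGroup P = ⊤ ∨ elemGroup P = ⊤)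
    (g : orth (hyp P)) :
    g ∈ eichGroup (hyp P) ⊔ Subgroup.closure (sR P '' {c | c ≠ 0}) := by
  set H := eichGroup (hyp P) ⊔ Subgroup.closure (sR P '' {c | c ≠ 0}) with hH
  have hE : eichGroup (hyp P) ≤ H := le_sup_left
  have hS : ∀ c : F, c ≠ 0 → sR P c ∈ H := fun c hc =>
    le_sup_right (a := eichGroup (hyp P)) (Subgroup.subset_closure ⟨c, hc, rfl⟩)
  suffices h : elemGroup (hyp P) ≤ H from h (hgen ▸ Subgroup.mem_top g)
  refine sup_le ?_ hE
  rw [reflGroup, Subgroup.closure_le]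
  rintro _ ⟨a, rfl⟩
  have hW : ∀ z : W, rf (hyp P) (inW z) ∈ H := by
    intro z
    by_cases hz : P z = 0
    · rw [show rf (hyp P) (inW z) = 1 from orth_ext fun x => by simp [rf_apply, hz]]
      exact one_mem H
    · have h := rf_inW_equiv hz
      have e : rf (hyp P) (inW z) =
          (sR P (P z))⁻¹ * (sR P (P z) * rf (hyp P) (inW z)) := by group
      rw [e]
      exact mul_mem (inv_mem (hS _ hz)) (hE h)
  by_cases ha : hyp P a = 0
  · show rf (hyp P) a ∈ H
    rw [show rf (hyp P) a = 1 from orth_ext fun x => by simp [rf_apply, ha]]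
    exact one_mem H
  obtain ⟨g, hg, hga⟩ : ∃ g ∈ eichGroup (hyp P),
      (∃ z, g.1 a = inW z) ∨ (g.1 a).2 = 0 := by
    by_cases hy : a.1.2 = 0
    · by_cases hx : a.1.1 = 0
      · exact ⟨1, one_mem _, Or.inl ⟨a.2, Prod.ext (Prod.ext hx hy) rfl⟩⟩
      · exact ⟨ff P (-(a.1.1)⁻¹ • a.2), ff_mem _, Or.inr (by
          rw [ff_apply]
          show a.2 + a.1.1 • (-(a.1.1)⁻¹ • a.2) = 0
          rw [smul_smul, mul_neg, mul_inv_cancel₀ hx, neg_one_smul, add_neg_cancel])⟩
    · exact ⟨ee P (-(a.1.2)⁻¹ • a.2), ee_mem _, Or.inr (by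
        rw [ee_apply]
        show a.2 + a.1.2 • (-(a.1.2)⁻¹ • a.2) = 0
        rw [smul_smul, mul_neg, mul_inv_cancel₀ hy, neg_one_smul, add_neg_cancel])⟩
  have hconj : rf (hyp P) a = g⁻¹ * rf (hyp P) (g.1 a) * g := by
    rw [← conj_rf]; group
  show rf (hyp P) a ∈ H
  rw [hconj]
  refine mul_mem (mul_mem (inv_mem (hE hg)) ?_) (hE hg)
  rcases hga with ⟨z, hz⟩ | hz
  · rw [hz]; exact hW z
  · have hv : hyp P (g.1 a) ≠ 0 := by rwa [map_form]
    rw [hyp_apply, hz, QuadraticMap.map_zero, add_zero] at hv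
    have hy := right_ne_zero_of_mul hv
    have e : g.1 a = (g.1 a).1.2 • (((g.1 a).1.1 / (g.1 a).1.2, 1), (0 : W)) := by
      simp only [Prod.ext_iff, Prod.smul_mk, smul_eq_mul, mul_one, smul_zero]
      exact ⟨⟨by field_simp, trivial⟩, hz⟩
    rw [e, rf_smul hy]
    exact hS _ (div_ne_zero (left_ne_zero_of_mul hv) hy)

/-- the index is at most `4` -/
theorem index_le_four [Finite F] [Finite W] (hex : ∃ z, P z ≠ 0)
    (hgen : elemGroup (hyp P) = ⊤) (hP : reflGroup P = ⊤ ∨ elemGroup P = ⊤) :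
    (eichGroup (hyp P)).index ≤ 4 ∧ ((2 : F) = 0 → (eichGroup (hyp P)).index ≤ 2) := by
  classical
  cases nonempty_fintype F
  -- a representative non-square, or `1`
  obtain ⟨ν, hν0, hν, hν2⟩ : ∃ ν : F, ν ≠ 0 ∧ (∀ c : F, c ≠ 0 → ∃ a, a ≠ 0 ∧
      (c = a * a * 1 ∨ c = a * a * ν)) ∧ ((2 : F) = 0 → ν = 1) := by
    by_cases h2 : (2 : F) = 0
    · refine ⟨1, one_ne_zero, fun c hc => ?_, fun _ => rfl⟩
      haveI : CharP F 2 := CharTwo.of_one_ne_zero_of_two_eq_zero one_ne_zero h2
      obtain ⟨a, ha⟩ := FiniteField.isSquare_of_char_two (ringChar.eq F 2) c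
      exact ⟨a, fun e => hc (by rw [ha, e, mul_zero]), Or.inl (by rw [ha, mul_one])⟩
    · obtain ⟨ν, hν0, hν, -⟩ := exists_nonsquare_neg (F := F) h2
      refine ⟨ν, hν0, fun c hc => ?_, fun h => absurd h h2⟩
      by_cases hs : IsSquare c
      · obtain ⟨a, ha⟩ := hs
        exact ⟨a, fun e => hc (by rw [ha, e, mul_zero]), Or.inl (by rw [ha, mul_one])⟩
      · have : IsSquare (c / ν) := by
          rw [← quadraticChar_one_iff_isSquare (div_ne_zero hc hν0), div_eq_mul_inv, map_mul,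
            quadraticChar_neg_one_iff_not_isSquare.2 hs,
            quadraticChar_neg_one_iff_not_isSquare.2 (fun h => hν (isSquare_inv.1 h))]
          norm_num
        obtain ⟨a, ha⟩ := this
        refine ⟨a, fun e => ?_, Or.inr (by rw [← ha]; field_simp)⟩
        rw [e, mul_zero, div_eq_zero_iff] at ha
        tauto
  set π := QuotientGroup.mk' (eichGroup (hyp P)) with hπ
  set s := π (sR P 1) with hs
  set t := π (sR P ν) with ht
  have hss : s * s = 1 := by rw [hs, ← map_mul, show sR P 1 * sR P 1 = 1 from rf_mul_self _, map_one]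
  have htt : t * t = 1 := by rw [ht, ← map_mul, show sR P ν * sR P ν = 1 from rf_mul_self _, map_one]
  have hst : s * t = t * s := by
    have h1 : sR P 1 * sR P ν * sR P 1 = sR P (ν⁻¹) := by
      rw [sR_mul_sR_mul_sR _ _ _ one_ne_zero hν0 one_ne_zero]; simp
    have h2 : π (sR P ν⁻¹) = t := by
      have : sR P ν⁻¹ = sR P (ν⁻¹ * ν⁻¹ * ν) := by
        rw [mul_assoc, inv_mul_cancel₀ hν0, mul_one]
      rw [this, ht, hπ, QuotientGroup.mk'_apply, QuotientGroup.mk'_apply,
        mk_sR_scale hex (inv_ne_zero hν0) hν0]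
    have h3 : s * t * s = t := by rw [hs, ht, ← map_mul, ← map_mul, h1, h2]
    calc s * t = s * t * (s * s) := by rw [hss, mul_one]
      _ = s * t * s * s := by rw [mul_assoc (s * t)]
      _ = t * s := by rw [h3]
  let S : Set (orth (hyp P) ⧸ eichGroup (hyp P)) := {1, s, t, s * t}
  let K : Subgroup (orth (hyp P) ⧸ eichGroup (hyp P)) :=
    { carrier := S
      one_mem' := by simp [S]
      mul_mem' := by
        rintro x y (rfl | rfl | rfl | rfl) (rfl | rfl | rfl | rfl)
        all_goals simp only [S, Set.mem_insert_iff, Set.mem_singleton_iff, one_mul, mul_one, hss,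
          htt, true_or, or_true]
        · exact Or.inr (Or.inr (Or.inl (by rw [← mul_assoc, hss, one_mul])))
        · exact Or.inr (Or.inr (Or.inr hst.symm))
        · exact Or.inr (Or.inl (by rw [hst, ← mul_assoc, htt, one_mul]))
        · exact Or.inr (Or.inr (Or.inl (by rw [hst, mul_assoc, hss, mul_one])))
        · exact Or.inr (Or.inl (by rw [mul_assoc, htt, mul_one]))
        · exact Or.inl (by rw [mul_assoc, ← mul_assoc t, ← hst, mul_assoc s, htt, mul_one, hss])
      inv_mem' := by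
        intro x hx
        have hs' : s⁻¹ = s := inv_eq_of_mul_eq_one_right hss
        have ht' : t⁻¹ = t := inv_eq_of_mul_eq_one_right htt
        rcases hx with rfl | rfl | rfl | rfl <;> simp [S, hs', ht', hst] }
  have htop : ∀ g, π g ∈ K := by
    intro g
    have hg := exists_mk_sR hgen hP g
    have hle : eichGroup (hyp P) ⊔ Subgroup.closure (sR P '' {c | c ≠ 0}) ≤ K.comap π := by
      refine sup_le (fun x hx => ?_) ?_
      · rw [Subgroup.mem_comap, show π x = 1 from (QuotientGroup.eq_one_iff x).2 hx]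
        exact one_mem K
      · rw [Subgroup.closure_le]
        rintro _ ⟨c, hc, rfl⟩
        obtain ⟨a, ha, h | h⟩ := hν c hc <;>
          rw [SetLike.mem_coe, Subgroup.mem_comap, hπ, QuotientGroup.mk'_apply, h,
            mk_sR_scale hex ha (by first | exact one_ne_zero | exact hν0)]
        · exact Or.inr (Or.inl rfl)
        · exact Or.inr (Or.inr (Or.inl rfl))
    exact hle hg
  have huniv : ∀ x, x ∈ S := fun x => by
    obtain ⟨g, rfl⟩ := QuotientGroup.mk'_surjective (eichGroup (hyp P)) x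
    exact htop g
  have hidx : (eichGroup (hyp P)).index = S.ncard := by
    rw [Set.eq_univ_of_forall huniv, Set.ncard_univ, Subgroup.index_eq_card]
  constructor
  · rw [hidx]
    refine (Set.ncard_insert_le _ _).trans (Nat.succ_le_succ ?_)
    refine (Set.ncard_insert_le _ _).trans (Nat.succ_le_succ ?_)
    exact (Set.ncard_insert_le _ _).trans (by simp)
  · intro h2
    have : t = s := by rw [ht, hs, hν2 h2]
    rw [hidx]
    refine le_trans (Set.ncard_le_ncard (t := ({1, s} : Set _)) ?_) ?_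
    · intro x hx
      rcases hx with rfl | rfl | rfl | rfl <;> simp [this, hss]
    · exact (Set.ncard_insert_le _ _).trans (by simp)

end Cfsg.Agent.CrossChar56.OrthDeg
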