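import Cfsg.Agent.CrossChar56.OrthDeg.Main
import Cfsg.Agent.CrossChar56.Common
import Cfsg.Agent.Lib.UnitaryOrthogonal.OmegaStandard

/-!
The degree bound for the standard forms.
-/

set_option autoImplicit false

noncomputable section

namespace Cfsg.Agent.CrossChar56.OrthDeg

open QuadraticMap
open Cfsg.Agent.UnitaryOrthogonal

variable {F W : Type*} [Field F] [AddCommGroup W] [Module F W]

/-- `H^(j+3) ⊥ Q ≅ H ⊥ H ⊥ H ⊥ (H^j ⊥ Q)` -/
def hypSumThree (Q : QuadraticForm F W) (j : ℕ) :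
    (hypSum (j + 3) Q).IsometryEquiv (Q₃ (hypSum j Q)) :=
  (hypSumSucc Q (j + 2)).trans (hypCongr (hypSumTwo Q j))

variable [Fintype F] [Finite W] {Q : QuadraticForm F W}

theorem setup_hypSum (hQ : PolarND Q) (hr : reflGroup Q = ⊤) (j : ℕ) (hex : 1 ≤ j ∨ ∃ a, Q a ≠ 0)
    (hbase : (2 : F) ≠ 0 → ∀ c : F, ¬IsSquare c →
      ((mixedCount Q 1 : ℤ) - mixedCount Q c) % 4 = 2) : Setup (hypSum j Q) := by
  have hM : PolarND (hypSum j Q) := hQ.hypSum j
  have hexM := exists_hypSum_ne_zero j hex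
  have hel := elemGroup_hypSum hQ.nonsing (elemGroup_of_refl hr)
  have h1 : elemGroup (hyp (hypSum j Q)) = ⊤ := elemGroup_congr (hypSumSucc Q j) (hel (j + 1))
  have h2 : elemGroup (hyp (hyp (hypSum j Q))) = ⊤ := elemGroup_hypHyp hQ hr j
  have h3 : elemGroup (Q₃ (hypSum j Q)) = ⊤ := elemGroup_congr (hypSumThree Q j) (hel (j + 3))
  have hexW : ∃ z, hyp (hypSum j Q) z ≠ 0 := by
    obtain ⟨a, ha⟩ := hexM
    exact ⟨inW a, by rwa [hyp_inW]⟩
  obtain ⟨i1, i1'⟩ := index_le_four (P := hypSum j Q) hexM h1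
    (Or.inr (elemGroup_hypSum hQ.nonsing (elemGroup_of_refl hr) j))
  refine ⟨hM, hexM, ?_, ?_⟩
  · by_cases h : (2 : F) = 0
    · rw [(eichGroup_eq_ker_of_two hM hexM h2 h).2,
        show (eichGroup (Q₃ (hypSum j Q))).index = 2 from
          (eichGroup_eq_ker_of_two hM.hyp hexW h3 h).2]
    · rw [(eichGroup_eq_ker_of_odd hM hexM h2 h (hsep_of_base h (hbase h) j)).2,
        show (eichGroup (Q₃ (hypSum j Q))).index = 4 from
          (eichGroup_eq_ker_of_odd hM.hyp hexW h3 h (fun c hc => by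
            rw [← mixedCount_congr (hypCongr (hypSumSucc Q j)),
              ← mixedCount_congr (hypCongr (hypSumSucc Q j))]
            exact hsep_of_base h (hbase h) (j + 1) c hc)).2]
  · by_cases h : (2 : F) = 0
    · rw [(eichGroup_eq_ker_of_two hM hexM h2 h).2]
      exact i1' h
    · rw [(eichGroup_eq_ker_of_odd hM hexM h2 h (hsep_of_base h (hbase h) j)).2]
      exact i1

/-- the level bound -/
theorem level_hyp_le (j : ℕ) (hl : ∀ c, Nat.card F * level Q c ≤
      (Nat.card F ^ j + 1) * Nat.card W) (c : F) :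
    level (hyp (hypSum j Q)) c ≤
      (Fintype.card F + 1) * Nat.card (((Fin j → F) × (Fin j → F)) × W) := by
  have hq := Nat.card_pos (α := F)
  have h := level_hypSum (Q := Q) c j
  have h2 : Nat.card F ^ (j + 1) * level Q c ≤
      Nat.card F ^ (2 * j) * Nat.card W + Nat.card F ^ j * Nat.card W := by
    calc _ = Nat.card F ^ j * (Nat.card F * level Q c) := by ring
      _ ≤ Nat.card F ^ j * ((Nat.card F ^ j + 1) * Nat.card W) := Nat.mul_le_mul_left _ (hl c)
      _ = _ := by ring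
  rw [level_hyp, card_hypSum_space, ← Nat.card_eq_fintype_card]
  obtain ⟨k, hk⟩ : ∃ k, Nat.card F = k + 1 := ⟨Nat.card F - 1, by omega⟩
  rw [hk] at h h2 ⊢
  simp only [Nat.add_sub_cancel]
  nlinarith

/-- the bound for a group isomorphic to the orthogonal group -/
theorem degree_bound (hQ : PolarND Q) (hr : reflGroup Q = ⊤) (j : ℕ)
    (hex : 1 ≤ j ∨ ∃ a, Q a ≠ 0)
    (hbase : (2 : F) ≠ 0 → ∀ c : F, ¬IsSquare c →
      ((mixedCount Q 1 : ℤ) - mixedCount Q c) % 4 = 2)
    (hq4 : 4 ≤ Fintype.card F)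
    (hl : ∀ c, Nat.card F * level Q c ≤ (Nat.card F ^ j + 1) * Nat.card W)
    {B : ℕ} (num : SchemeNum (hypSum j Q) B)
    (hA : B ≤ 2 * ((Fintype.card F - 1) * Fintype.card F * (Fintype.card F + 1) *
      Nat.card (((Fin j → F) × (Fin j → F)) × W)))
    (hM2 : B ≤ 2 * (level (P₂ (hypSum j Q)) 0 - 1))
    {G : Type*} [Group G] (φ : G ≃* orth (hypSum (j + 3) Q))
    {k : ℕ} (ρ : Representation ℂ ↥(commutator G) (Fin k → ℂ)) (hρ : ρ.IsIrreducible)
    (hk : 2 ≤ k) : B ≤ k := by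
  classical
  have S := setup_hypSum hQ hr j hex hbase
  let ψ : G ≃* orth (Q₃ (hypSum j Q)) := φ.trans (orthCongr (hypSumThree Q j))
  have hexW : ∃ z, hyp (hypSum j Q) z ≠ 0 := S.exW₁
  have hc : commutator (orth (Q₃ (hypSum j Q))) = eichGroup (Q₃ (hypSum j Q)) :=
    commutator_eq_eichGroup S.polarND.hyp hexW
      (elemGroup_congr (hypSumThree Q j) (elemGroup_hypSum hQ.nonsing (elemGroup_of_refl hr) (j + 3)))
  have hmap : (commutator G).map ψ.toMonoidHom = eichGroup (Q₃ (hypSum j Q)) := by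
    rw [← hc, commutator_def, Subgroup.map_commutator,
      Subgroup.map_top_of_surjective _ ψ.surjective, commutator_def]
  let e : ↥(commutator G) ≃* GG (hypSum j Q) :=
    (ψ.subgroupMap (commutator G)).trans (MulEquiv.subgroupCongr hmap)
  haveI : Fintype (GG (hypSum j Q)) := Fintype.ofFinite _
  haveI : Fintype (W₂ F (((Fin j → F) × (Fin j → F)) × W)) := Fintype.ofFinite _
  refine main_bound S num hq4 (level_hyp_le j hl) hA hM2 ((toGLHom ρ).comp e.symm.toMonoidHom)
    (fun y hy => ?_) (by omega)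
  by_contra hy0
  have hy' : ∀ g, ρ g y = y := by
    intro g
    have h := hy (e g)
    simp [ap, toGLHom] at h
    rwa [show LinearMap.toMatrixAlgEquiv' (ρ g) = LinearMap.toMatrix' (ρ g) from rfl,
      LinearMap.toMatrix'_mulVec] at h
  haveI : IsSimpleOrder (Subrepresentation ρ) := hρ
  let T : Subrepresentation ρ := ⟨ℂ ∙ y, fun g w hw => by
    obtain ⟨c, rfl⟩ := Submodule.mem_span_singleton.mp hw
    rw [map_smul, hy']
    exact Submodule.smul_mem _ _ (Submodule.mem_span_singleton_self y)⟩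
  rcases IsSimpleOrder.eq_bot_or_eq_top T with h | h
  · apply hy0
    have h1 : y ∈ T.toSubmodule := Submodule.mem_span_singleton_self y
    rw [h] at h1
    exact (Submodule.mem_bot ℂ).mp h1
  · have h1 : Module.finrank ℂ T.toSubmodule ≤ 1 := (finrank_span_singleton hy0).le
    rw [h] at h1
    change Module.finrank ℂ (⊤ : Submodule ℂ (Fin k → ℂ)) ≤ 1 at h1
    rw [finrank_top, Module.finrank_fin_fun] at h1
    omega

end Cfsg.Agent.CrossChar56.OrthDeg
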