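import Cfsg.Agent.CrossChar56.OrthDeg.Exist
import Mathlib.NumberTheory.LegendreSymbol.AddCharacter

/-!
The degree bound for the Eichler group of `H ⊥ H ⊥ H ⊥ M`.
-/

set_option autoImplicit false

noncomputable section

namespace Cfsg.Agent.CrossChar56.OrthDeg

open QuadraticMap
open Cfsg.Agent.UnitaryOrthogonal
open scoped Classical Matrix

variable {F U : Type*} [Field F] [Fintype F] [AddCommGroup U] [Module F U] [Finite U]
  {M : QuadraticForm F U} {d : ℕ}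

theorem exists_primitive_char (F : Type*) [Field F] [Fintype F] :
    ∃ ψ : AddChar F ℂ, ψ.IsPrimitive := by
  obtain ⟨ψ, hψ₁⟩ := AddChar.exists_apply_ne_zero.mpr (one_ne_zero (α := F))
  exact ⟨ψ, AddChar.IsPrimitive.of_ne_one (AddChar.ne_one_iff.mpr ⟨1, hψ₁⟩)⟩

theorem exists_sq_ne_one (h : 4 ≤ Fintype.card F) : ∃ a : F, a ≠ 0 ∧ a * a ≠ 1 := by
  by_contra hcon
  push Not at hcon
  have hsub : (Finset.univ : Finset F) ⊆ {0, 1, -1} := fun x _ => by
    by_cases hx : x = 0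
    · simp [hx]
    · rcases mul_self_eq_one_iff.1 (hcon x hx) with h | h <;> simp [h]
  have h1 := (Finset.card_le_card hsub).trans Finset.card_le_three
  rw [Finset.card_univ] at h1
  omega

omit [Fintype F] in
theorem level_P₂_zero [Fintype F] : (level (P₂ M) 0 : ℝ) =
    ((Fintype.card F : ℝ) - 1) * ((Fintype.card F : ℝ) ^ 2 * Nat.card U) +
      (Fintype.card F : ℝ) * level (hyp M) 0 := by
  rw [level_hyp, Nat.card_prod, Nat.card_prod, Nat.card_eq_fintype_card (α := F)]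
  push_cast [Nat.cast_sub (Fintype.card_pos (α := F))]
  ring

/-- the numerical condition for a fixed vector, `q ≥ 3` -/
theorem fixed_num (hq : 3 ≤ Fintype.card F)
    (hlev : ∀ c, level (hyp M) c ≤ (Fintype.card F + 1) * Nat.card U) :
    (Fintype.card F : ℝ) * (((Fintype.card F * ((Fintype.card F + 1) * Nat.card U) : ℕ) : ℝ) - 1) <
      (Fintype.card F : ℝ) * (level (P₂ M) 0 - 1) -
        2 * ((Fintype.card F : ℝ) - 1) * ((Fintype.card F : ℝ) * level (hyp M) 0 - 1) := by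
  have h := (Nat.cast_le (α := ℝ)).2 (hlev 0)
  have hq' : (3 : ℝ) ≤ Fintype.card F := by exact_mod_cast hq
  have hu : (1 : ℝ) ≤ Nat.card U := by exact_mod_cast (Nat.card_pos (α := U))
  rw [level_P₂_zero]
  push_cast at h ⊢
  nlinarith [mul_le_mul_of_nonneg_left h
      (show (0:ℝ) ≤ Fintype.card F * ((Fintype.card F : ℝ) - 2) by nlinarith),
    mul_nonneg (show (0:ℝ) ≤ (Fintype.card F : ℝ) * Nat.card U by positivity)
      (show (0:ℝ) ≤ (Fintype.card F : ℝ) ^ 2 * ((Fintype.card F : ℝ) - 3) by nlinarith)]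

variable [Fintype (GG M)] [Fintype (W₂ F U)] {τ : GG M →* GL (Fin d) ℂ} {ψ : AddChar F ℂ}

omit [Fintype (GG M)] in
theorem finrank_Ev_le {v : W₂ F U} (r : ↥(eichGroup (P₂ M))) :
    Module.finrank ℂ (Ev τ ψ v) ≤ Module.finrank ℂ (Ev τ ψ (r.1.1 v)) := by
  let f : ↥(Ev τ ψ v) →ₗ[ℂ] ↥(Ev τ ψ (r.1.1 v)) :=
    (Matrix.mulVecLin (τ (LL M r)).val).restrict (fun x hx => LL_mem_Ev τ ψ hx r)
  refine LinearMap.finrank_le_finrank_of_injective (f := f) ?_
  intro x y h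
  exact Subtype.ext (ap_injective τ (LL M r) (congrArg Subtype.val h))

omit [Fintype (GG M)] in
theorem finrank_Ev_move (S : Setup M) {v v' : W₂ F U} (hv : v ≠ 0) (hv' : v' ≠ 0)
    (h : P₂ M v = P₂ M v') : Module.finrank ℂ (Ev τ ψ v) ≤ Module.finrank ℂ (Ev τ ψ v') := by
  obtain ⟨r, hr, hrv⟩ := S.trans₂ v v' hv hv' h
  exact hrv ▸ finrank_Ev_le (τ := τ) (ψ := ψ) (v := v) ⟨r, hr⟩

omit [Fintype (GG M)] in
theorem card_mul_le (S : Setup M) (hψ : ψ.IsPrimitive) (p : W₂ F U → Prop) (c : ℕ)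
    (h : ∀ v, p v → c ≤ Module.finrank ℂ (Ev τ ψ v)) : Nat.card {v // p v} * c ≤ d := by
  have h1 := Cx.card_mul_le_dim (RE_add τ) ((Finset.univ.filter p).image (chr M ψ)) c (fun χ hχ => by
    obtain ⟨v, hv, rfl⟩ := Finset.mem_image.1 hχ
    exact h v (Finset.mem_filter.1 hv).2)
  rwa [Finset.card_image_of_injective _ (chr_injective S hψ), ← Fintype.card_subtype,
    ← Nat.card_eq_fintype_card] at h1

set_option maxHeartbeats 400000 in
-- coercions between nested subgroups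
/-- only isotropic vectors occur, once each -/
theorem isotropic_case (τ : GG M →* GL (Fin d) ℂ) (S : Setup M) {B : ℕ} (num : SchemeNum M B)
    (hψ : ψ.IsPrimitive)
    (hperf : ⁅eichGroup (hyp M), eichGroup (hyp M)⁆ = eichGroup (hyp M)) (p₁ : ℕ)
    (hperp : ∀ η : W₂ F U, η ≠ 0 →
      Nat.card {v : W₂ F U // P₂ M v = 0 ∧ polar (P₂ M) v η = 0} ≤ p₁)
    (hnum : (Fintype.card F : ℝ) * ((p₁ : ℝ) - 1) < (Fintype.card F : ℝ) * (level (P₂ M) 0 - 1) -
      2 * ((Fintype.card F : ℝ) - 1) * ((Fintype.card F : ℝ) * level (hyp M) 0 - 1))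
    (hfix : ∀ y, (∀ g, ap τ g y = y) → y = 0)
    (hone : ∀ u, P₂ M u = 0 → u ≠ 0 → Module.finrank ℂ (Ev τ ψ u) = 1)
    (han : ∀ u, P₂ M u ≠ 0 → Module.finrank ℂ (Ev τ ψ u) < 1) : B ≤ d := by
  have hv₀P : P₂ M (v₀ F U) = 0 := hyp_eVec
  have hv₀ : (v₀ F U) ≠ 0 := eVec_ne_zero
  obtain ⟨x₀, hx₀, hx00⟩ := Submodule.exists_mem_ne_zero_of_ne_bot
    (Submodule.one_le_finrank_iff.1 (hone _ hv₀P hv₀).ge)
  have hline : ∀ z ∈ Ev τ ψ (v₀ F U), ∃ c : ℂ, z = c • x₀ := by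
    intro z hz
    obtain ⟨c, hc⟩ := exists_smul_eq_of_finrank_eq_one (hone _ hv₀P hv₀)
      (x := (⟨x₀, hx₀⟩ : Ev τ ψ (v₀ F U))) (fun e => hx00 (congrArg Subtype.val e)) ⟨z, hz⟩
    exact ⟨c, (congrArg Subtype.val hc).symm⟩
  have hmv : ∀ u : {u : W₂ F U // P₂ M u = 0 ∧ u ≠ 0},
      ∃ r : ↥(eichGroup (P₂ M)), r.1.1 (v₀ F U) = u.1 := by
    intro u
    obtain ⟨r, hr, hru⟩ := S.trans₂ (v₀ F U) u.1 hv₀ u.2.2 (hv₀P.trans u.2.1.symm)
    exact ⟨⟨r, hr⟩, hru⟩
  choose mv hmv using hmv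
  obtain ⟨X, hX⟩ : ∃ X : W₂ F U → Fin d → ℂ, ∀ u (h : P₂ M u = 0 ∧ u ≠ 0),
      X u = ap τ (LL M (mv ⟨u, h⟩)) x₀ :=
    ⟨fun u => if h : P₂ M u = 0 ∧ u ≠ 0 then ap τ (LL M (mv ⟨u, h⟩)) x₀ else 0,
      fun u h => dif_pos h⟩
  have hmem : ∀ u, P₂ M u = 0 → u ≠ 0 → X u ∈ Ev τ ψ u := by
    intro u hu hu0
    rw [hX u ⟨hu, hu0⟩]
    have h := LL_mem_Ev τ ψ hx₀ (mv ⟨u, hu, hu0⟩)
    rwa [hmv] at h
  have hXne : ∀ u, P₂ M u = 0 → u ≠ 0 → X u ≠ 0 := by
    intro u hu hu0 h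
    rw [hX u ⟨hu, hu0⟩] at h
    exact hx00 (ap_injective τ _ (h.trans (ap_zero τ _).symm))
  let L : Lines τ ψ :=
    { X := X
      n := herm τ x₀ x₀
      n_ne := fun h => hx00 (eq_zero_of_herm τ h)
      mem := hmem
      norm := fun u hu hu0 => by rw [hX u ⟨hu, hu0⟩, herm_ap]
      equiv := fun r u hu hu0 => by
        have h' : P₂ M (r.1.1 u) = 0 ∧ r.1.1 u ≠ 0 :=
          ⟨by rw [map_form, hu], fun e => hu0 (r.1.1.map_eq_zero_iff.1 e)⟩
        rw [hX u ⟨hu, hu0⟩, hX _ h', ← ap_mul, ← map_mul]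
        have hst : ((mv ⟨_, h'⟩)⁻¹ * (r * mv ⟨u, hu, hu0⟩)).1.1 (v₀ F U) = v₀ F U := by
          show ((mv ⟨_, h'⟩).1⁻¹).1 (r.1.1 ((mv ⟨u, hu, hu0⟩).1.1 (v₀ F U))) = _
          rw [hmv]
          apply (mv ⟨_, h'⟩).1.1.injective
          rw [coe_apply_inv_apply, hmv]
        have := stab_fix τ S
          hperf hx00 hx₀ hline _ hst
        conv_rhs => rw [← this, ← ap_mul, ← map_mul, mul_inv_cancel_left]
      line := fun u hu hu0 z hz => by
        obtain ⟨c, hc⟩ := exists_smul_eq_of_finrank_eq_one (hone u hu hu0)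
          (x := (⟨X u, hmem u hu hu0⟩ : Ev τ ψ u)) (fun e => hXne u hu hu0 (congrArg Subtype.val e))
          ⟨z, hz⟩
        exact ⟨c, (congrArg Subtype.val hc).symm⟩
      only := fun u _ hu z hz => by
        by_contra hz0
        have h := han u hu
        have : 1 ≤ Module.finrank ℂ (Ev τ ψ u) :=
          Submodule.one_le_finrank_iff.2 (fun hb => hz0 (by rw [hb, Submodule.mem_bot] at hz; exact hz))
        omega }
  obtain ⟨x, hx, hxE, hxL⟩ := exists_fixed L S hψ p₁ hperp hnum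
  exact fixed_bound τ S num hfix hx hxE hxL

set_option maxHeartbeats 800000 in
-- the case split
theorem main_bound (S : Setup M) {B : ℕ} (num : SchemeNum M B) (hq4 : 4 ≤ Fintype.card F)
    (hlev : ∀ c, level (hyp M) c ≤ (Fintype.card F + 1) * Nat.card U)
    (hA : B ≤ 2 * ((Fintype.card F - 1) * Fintype.card F * (Fintype.card F + 1) * Nat.card U))
    (hM2 : B ≤ 2 * (level (P₂ M) 0 - 1))
    (τ : GG M →* GL (Fin d) ℂ) (hfix : ∀ y, (∀ g, ap τ g y = y) → y = 0) (hd : 1 ≤ d) :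
    B ≤ d := by
  obtain ⟨a, ha, ha1⟩ := exists_sq_ne_one hq4
  obtain ⟨ψ, hψ⟩ := exists_primitive_char F
  obtain ⟨v, hv0, hv⟩ : ∃ v : W₂ F U, v ≠ 0 ∧ 1 ≤ Module.finrank ℂ (Ev τ ψ v) := by
    obtain ⟨w, hw⟩ := exists_EE_ne_one τ S hfix hd
    obtain ⟨χ, hχ, hχw⟩ := Cx.exists_proj_ne (RE_zero τ) (RE_add τ) hw
    obtain ⟨v, rfl⟩ := chr_surjective S hψ χ
    refine ⟨v, ?_, Submodule.one_le_finrank_iff.2 (Cx.eig_ne_bot hχ)⟩
    rintro rfl
    exact hχw (by rw [chr_apply, polar_zero_left, AddChar.map_zero_eq_one])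
  by_cases han : ∃ v : W₂ F U, P₂ M v ≠ 0 ∧ 1 ≤ Module.finrank ℂ (Ev τ ψ v)
  · -- two levels
    obtain ⟨v, hc, hv⟩ := han
    have hv0 : v ≠ 0 := fun h => hc (by rw [h, QuadraticMap.map_zero])
    obtain ⟨g, hg, hge, hgf⟩ := exists_scale S.trans₃ ha
    obtain ⟨v', hv'⟩ : ∃ v', v' = a⁻¹ • gW g v := ⟨_, rfl⟩
    have hP' : P₂ M v' = a⁻¹ * a⁻¹ * P₂ M v := by
      rw [hv', form_smul, form_gW ha (inv_ne_zero ha) hge hgf]
    have hc' : P₂ M v' ≠ 0 := by
      rw [hP']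
      exact mul_ne_zero (mul_ne_zero (inv_ne_zero ha) (inv_ne_zero ha)) hc
    have hne : P₂ M v' ≠ P₂ M v := by
      rw [hP']
      intro e
      apply ha1
      rw [mul_eq_right₀ hc, ← mul_inv, inv_eq_one] at e
      exact e
    have hv'1 : 1 ≤ Module.finrank ℂ (Ev τ ψ v') := by
      obtain ⟨x, hx, hx0⟩ := Submodule.exists_mem_ne_zero_of_ne_bot (Submodule.one_le_finrank_iff.1 hv)
      refine Submodule.one_le_finrank_iff.2 (fun hb => hx0 (ap_injective τ ⟨g, hg⟩ ?_))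
      have h := mem_Ev_move τ ψ (g := (⟨g, hg⟩ : GG M)) ha hge hgf hx
      rw [← hv', hb, Submodule.mem_bot] at h
      rw [h, ap_zero]
    have h := card_mul_le (τ := τ) S hψ (fun u => P₂ M u = P₂ M v ∨ P₂ M u = P₂ M v') 1 (fun u hu => by
      have hu0 : u ≠ 0 := by
        rintro rfl
        rw [QuadraticMap.map_zero] at hu
        rcases hu with h | h
        · exact hc h.symm
        · exact hc' h.symm
      rcases hu with h | h
      · exact hv.trans (finrank_Ev_move S hv0 hu0 h.symm)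
      · exact hv'1.trans (finrank_Ev_move S (fun e => hc' (by rw [e, QuadraticMap.map_zero])) hu0 h.symm))
    have hcard : Nat.card {u : W₂ F U // P₂ M u = P₂ M v ∨ P₂ M u = P₂ M v'} =
        level (P₂ M) (P₂ M v) + level (P₂ M) (P₂ M v') := by
      rw [level, level, ← Nat.card_sum]
      refine Nat.card_congr (subtypeOrEquiv _ _ ?_)
      rw [disjoint_iff_inf_le]
      rintro u ⟨h1, h2⟩
      exact hne (h2.symm.trans h1)
    rw [hcard, mul_one] at h
    have h1 := level_ge (M := M) _ hc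
    have h2 := level_ge (M := M) _ hc'
    rw [Nat.card_eq_fintype_card (α := F)] at h1 h2
    omega
  · -- only isotropic vectors occur
    push Not at han
    have hP0 : P₂ M v = 0 := by
      by_contra hc
      have := han v hc
      omega
    by_cases h2 : 2 ≤ Module.finrank ℂ (Ev τ ψ v)
    · have h := card_mul_le (τ := τ) S hψ (fun u => P₂ M u = 0 ∧ u ≠ 0) 2
        (fun u hu => h2.trans (finrank_Ev_move S hv0 hu.2 (hP0.trans hu.1.symm)))
      have hk : Nat.card {u : W₂ F U // P₂ M u = 0 ∧ u ≠ 0} + 1 = level (P₂ M) 0 := by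
        have h3 := card_nonzero_singular (P₂ M)
        have := level_pos_zero (P₂ M)
        omega
      omega
    have hone : ∀ u, P₂ M u = 0 → u ≠ 0 → Module.finrank ℂ (Ev τ ψ u) = 1 := by
      intro u hu hu0
      have h3 := finrank_Ev_move (τ := τ) (ψ := ψ) S hv0 hu0 (hP0.trans hu.symm)
      have h4 := finrank_Ev_move (τ := τ) (ψ := ψ) S hu0 hv0 (hu.trans hP0.symm)
      omega
    exact isotropic_case τ S num hψ (eichGroup_perfect_of_torus S.polarND S.exNe ⟨a, ha, ha1⟩)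
      (Fintype.card F * ((Fintype.card F + 1) * Nat.card U))
      (fun η hη => by
        have := card_perp_le S hlev hη
        rwa [Nat.card_eq_fintype_card (α := F)] at this)
      (fixed_num (by omega) hlev) hfix hone han

end Cfsg.Agent.CrossChar56.OrthDeg
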