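import Cfsg.Agent.CrossChar56.OrthDeg.Instances
import Mathlib.Algebra.BigOperators.Finprod

/-!
The numeric data of the standard forms.
-/

set_option autoImplicit false

noncomputable section

namespace Cfsg.Agent.CrossChar56.OrthDeg

open QuadraticMap
open Cfsg.Agent.UnitaryOrthogonal
open scoped Classical

variable {F W : Type*} [Field F] [Fintype F] [AddCommGroup W] [Module F W] [Finite W]
  {Q : QuadraticForm F W}

/-- assembling the numeric data -/
theorem exists_schemeNum {j B : ℕ} {L l V V₁ r s num : ℤ}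
    (hL : (level (P₂ (hypSum j Q)) 0 : ℤ) = L) (hl : (level (hyp (hypSum j Q)) 0 : ℤ) = l)
    (hV : (Nat.card (W₂ F (((Fin j → F) × (Fin j → F)) × W)) : ℤ) = V)
    (hV₁ : (Nat.card (W₁ F (((Fin j → F) × (Fin j → F)) × W)) : ℤ) = V₁)
    (hdvd : ((Fintype.card F : ℤ) - 1) ∣ L - 1)
    (hsum : r + s = (Fintype.card F : ℤ) * l - V₁ - 2) (hprod : r * s = -(L - 1)) (hlt : s < r)
    (hBnum : (B : ℤ) * ((Fintype.card F : ℤ) ^ 2 - 1) ≤ num)
    (hP : num ≤ ((Fintype.card F : ℤ) + 1) *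
      ((Fintype.card F : ℤ) * (L - 1) + ((Fintype.card F : ℤ) - 1) * V))
    (hr : num * (r - s) ≤ ((Fintype.card F : ℤ) + 1) * ((Fintype.card F : ℤ) * (L - 1) +
      ((Fintype.card F : ℤ) * (L - 1) + ((Fintype.card F : ℤ) - 1) * V) * r))
    (hs : num * (r - s) ≤ -(((Fintype.card F : ℤ) + 1) * ((Fintype.card F : ℤ) * (L - 1) +
      ((Fintype.card F : ℤ) * (L - 1) + ((Fintype.card F : ℤ) - 1) * V) * s)))
    (hQ : ∀ (N : ℤ) (χ : F → ℂ), IsSgn χ → ((Fintype.card F : ℤ) - 1) * (N - 1) =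
        (Fintype.card F : ℤ) * (L - 1) + ((Fintype.card F : ℤ) - 1) * V → ∀ m : ℕ, 0 < m →
      (V : ℂ) * ((N : ℂ) - 2 * m) ^ 2 =
        (∑ᶠ w : W₂ F (((Fin j → F) × (Fin j → F)) × W), χ (-(P₂ (hypSum j Q) w))) ^ 2 *
          m * ((N : ℂ) - m) → B ≤ m) :
    Nonempty (SchemeNum (hypSum j Q) B) := by
  obtain ⟨q, hq⟩ : ∃ q : ℕ, q = Fintype.card F := ⟨_, rfl⟩
  have hq1 : 1 < q := hq ▸ Fintype.one_lt_card
  rw [← hq] at hdvd hsum hBnum hP hr hs hQ
  have hL1 : 1 ≤ level (P₂ (hypSum j Q)) 0 := level_pos_zero _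
  obtain ⟨k, hk⟩ : ∃ k : ℕ, (q - 1) * k = q * (level (P₂ (hypSum j Q)) 0 - 1) := by
    refine ⟨q * (level (P₂ (hypSum j Q)) 0 - 1) / (q - 1), Nat.mul_div_cancel' ?_⟩
    refine Dvd.dvd.mul_left ?_ _
    rw [← Int.natCast_dvd_natCast, Nat.cast_sub hq1.le, Nat.cast_sub hL1, hL]
    exact_mod_cast hdvd
  have hkz : ((q : ℤ) - 1) * k = q * (L - 1) := by
    have h : (((q - 1) * k : ℕ) : ℤ) = ((q * (level (P₂ (hypSum j Q)) 0 - 1) : ℕ) : ℤ) := by rw [hk]
    push_cast [Nat.cast_sub hq1.le, Nat.cast_sub hL1] at h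
    rw [hL] at h
    exact h
  obtain ⟨N, hN⟩ : ∃ N, N = 1 + k + Nat.card (W₂ F (((Fin j → F) × (Fin j → F)) × W)) := ⟨_, rfl⟩
  have hNz : ((q : ℤ) - 1) * ((N : ℤ) - 1) = q * (L - 1) + ((q : ℤ) - 1) * V := by
    rw [hN]
    push_cast
    rw [hV]
    linear_combination hkz
  have hq0 : (0 : ℤ) < ((q : ℤ) + 1) * ((q : ℤ) - 1) := by
    have : (1 : ℤ) < q := by exact_mod_cast hq1
    exact mul_pos (by omega) (by omega)
  refine ⟨⟨N, k, r, s, by rw [← hq]; exact hk, hN, by rw [← hq, hl, hV₁]; exact hsum,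
    by rw [hL]; exact hprod, hlt, ?_, ?_, ?_, ?_⟩⟩
  · have : (B : ℤ) * (((q : ℤ) + 1) * ((q : ℤ) - 1)) ≤
        ((N : ℤ) - 1) * (((q : ℤ) + 1) * ((q : ℤ) - 1)) := by
      linear_combination hBnum + hP - ((q : ℤ) + 1) * hNz
    have := le_of_mul_le_mul_right this hq0
    omega
  · refine le_of_mul_le_mul_right ?_ hq0
    have h : (B : ℤ) * ((q : ℤ) ^ 2 - 1) * (r - s) ≤ num * (r - s) :=
      mul_le_mul_of_nonneg_right hBnum (by omega)
    linear_combination h + hr - ((q : ℤ) + 1) * hkz - ((q : ℤ) + 1) * r * hNz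
  · refine le_of_mul_le_mul_right ?_ hq0
    have h : (B : ℤ) * ((q : ℤ) ^ 2 - 1) * (r - s) ≤ num * (r - s) :=
      mul_le_mul_of_nonneg_right hBnum (by omega)
    linear_combination h + hs + ((q : ℤ) + 1) * hkz + ((q : ℤ) + 1) * s * hNz
  · intro χ hχ m hm h
    refine hQ N χ hχ hNz m hm ?_
    rw [← hV, Int.cast_natCast, Int.cast_natCast]
    exact h

theorem sum_fib {X : Type*} [AddCommGroup X] [Module F X] [Fintype X] (P : QuadraticForm F X)
    (χ : F → ℂ) : ∑ w : X, χ (-(P w)) = ∑ c : F, (level P c : ℂ) * χ (-c) := by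
  rw [← Finset.sum_fiberwise_of_maps_to (g := fun w => P w) (t := Finset.univ)
    (fun x _ => Finset.mem_univ _)]
  refine Finset.sum_congr rfl fun c _ => ?_
  rw [Finset.sum_congr rfl (fun x hx => by rw [(Finset.mem_filter.1 hx).2]), Finset.sum_const,
    nsmul_eq_mul, level, Nat.card_eq_fintype_card, Fintype.card_subtype]

/-- the signed sum over the space -/
theorem sgnSum_hypSum (j : ℕ) {χ : F → ℂ} (hχ : IsSgn χ) :
    (∑ᶠ w : W₂ F (((Fin j → F) × (Fin j → F)) × W), χ (-(P₂ (hypSum j Q) w))) =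
      (Fintype.card F : ℂ) ^ (j + 2) * ∑ᶠ w : W, χ (-(Q w)) := by
  haveI : Fintype W := Fintype.ofFinite _
  haveI : Fintype (W₂ F (((Fin j → F) × (Fin j → F)) × W)) := Fintype.ofFinite _
  have hsum : ∑ c : F, χ (-c) = 0 := by
    obtain ⟨a, ha, ha1⟩ := hχ.nontriv
    have h : ∑ c : F, χ (-c) = χ a * ∑ c : F, χ (-c) := by
      rw [Finset.mul_sum]
      exact Fintype.sum_equiv (Equiv.mulLeft₀ a⁻¹ (inv_ne_zero ha)) _ _ fun c => by
        rw [← hχ.mul]; simp [ha]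
    exact (mul_eq_zero.1 (show (χ a - 1) * ∑ c : F, χ (-c) = 0 by
      rw [sub_mul, ← h, one_mul, sub_self])).resolve_left (sub_ne_zero.2 ha1)
  rw [finsum_eq_sum_of_fintype, finsum_eq_sum_of_fintype, sum_fib, sum_fib]
  have hlev : ∀ c, (Fintype.card F : ℂ) * level (P₂ (hypSum j Q)) c +
      (Fintype.card F : ℂ) ^ (j + 2) * Nat.card W =
        (Fintype.card F : ℂ) ^ (2 * (j + 2)) * Nat.card W +
          (Fintype.card F : ℂ) ^ (j + 2 + 1) * level Q c := by
    intro c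
    have h := level_hypSum (Q := Q) c (j + 2)
    rw [level_congr (hypSumTwo Q j), Nat.card_eq_fintype_card (α := F)] at h
    exact_mod_cast h
  apply mul_left_cancel₀ (Nat.cast_ne_zero.2 (Fintype.card_ne_zero (α := F)) :
    (Fintype.card F : ℂ) ≠ 0)
  calc (Fintype.card F : ℂ) * ∑ c : F, (level (P₂ (hypSum j Q)) c : ℂ) * χ (-c)
      = ∑ c : F, (((Fintype.card F : ℂ) ^ (2 * (j + 2)) * Nat.card W -
          (Fintype.card F : ℂ) ^ (j + 2) * Nat.card W) * χ (-c) +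
            (Fintype.card F : ℂ) ^ (j + 2 + 1) * ((level Q c : ℂ) * χ (-c))) := by
        rw [Finset.mul_sum]
        refine Finset.sum_congr rfl fun c _ => ?_
        linear_combination χ (-c) * hlev c
    _ = _ := by
        rw [Finset.sum_add_distrib, ← Finset.mul_sum, ← Finset.mul_sum, hsum]
        ring

theorem half_of_zero {V : ℂ} {N : ℤ} {m B : ℕ} (hV : V ≠ 0) (h : V * ((N : ℂ) - 2 * m) ^ 2 = 0)
    (hB : 2 * (B : ℤ) ≤ N) : B ≤ m := by
  have h1 := (mul_eq_zero.1 h).resolve_left hV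
  rw [sq_eq_zero_iff, sub_eq_zero] at h1
  have h2 : N = 2 * (m : ℤ) := by exact_mod_cast h1
  omega

/-- the three cardinalities -/
theorem card_W₂_hypSum (j : ℕ) : (Nat.card (W₂ F (((Fin j → F) × (Fin j → F)) × W)) : ℤ) =
    (Fintype.card F : ℤ) ^ 4 * ((Fintype.card F : ℤ) ^ j) ^ 2 * Nat.card W := by
  simp only [Nat.card_prod, Nat.card_fun, Nat.card_fin, Nat.card_eq_fintype_card (α := F)]
  push_cast
  ring

theorem card_W₁_hypSum (j : ℕ) : (Nat.card (W₁ F (((Fin j → F) × (Fin j → F)) × W)) : ℤ) =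
    (Fintype.card F : ℤ) ^ 2 * ((Fintype.card F : ℤ) ^ j) ^ 2 * Nat.card W := by
  simp only [Nat.card_prod, Nat.card_fun, Nat.card_fin, Nat.card_eq_fintype_card (α := F)]
  push_cast
  ring

theorem le_num {q num : ℕ} {numz : ℤ} (hq : 2 ≤ q) (h : (num : ℤ) = numz) :
    ((num / (q ^ 2 - 1) : ℕ) : ℤ) * ((q : ℤ) ^ 2 - 1) ≤ numz := by
  have h1 := Nat.div_mul_le_self num (q ^ 2 - 1)
  have h2 : (((num / (q ^ 2 - 1)) * (q ^ 2 - 1) : ℕ) : ℤ) ≤ (num : ℤ) := by exact_mod_cast h1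
  rw [← h]
  rw [Nat.cast_mul, Nat.cast_sub (Nat.one_le_pow _ _ (by omega))] at h2
  simpa using h2

theorem le_of_mul_num {q num : ℕ} {numz X : ℤ} (hq : 2 ≤ q) (h : (num : ℤ) = numz)
    (hX : numz ≤ X * ((q : ℤ) ^ 2 - 1)) : ((num / (q ^ 2 - 1) : ℕ) : ℤ) ≤ X := by
  have hq' : (2 : ℤ) ≤ q := by exact_mod_cast hq
  exact le_of_mul_le_mul_right ((le_num hq h).trans hX) (by nlinarith)

variable {k : ℕ}

/-- odd dimension -/
theorem bound_odd (h2 : (2 : F) ≠ 0) (hq4 : 4 ≤ Fintype.card F) (j : ℕ) {G : Type*} [Group G]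
    (φ : G ≃* orth (hypSum (j + 3) (sqForm F)))
    (ρ : Representation ℂ ↥(commutator G) (Fin k → ℂ)) (hρ : ρ.IsIrreducible) (hk : 2 ≤ k) :
    (Fintype.card F ^ (2 * (j + 3)) - 1) / (Fintype.card F ^ 2 - 1) ≤ k := by
  obtain ⟨q, hq⟩ : ∃ q : ℤ, q = Fintype.card F := ⟨_, rfl⟩
  obtain ⟨y, hy⟩ : ∃ y : ℤ, y = q ^ j := ⟨_, rfl⟩
  have hq' : 4 ≤ q := by rw [hq]; exact_mod_cast hq4
  have hy' : 1 ≤ y := by rw [hy]; exact one_le_pow₀ (by omega)
  have hnum : ((Fintype.card F ^ (2 * (j + 3)) - 1 : ℕ) : ℤ) = q ^ 6 * y ^ 2 - 1 := by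
    rw [Nat.cast_sub (Nat.one_le_pow _ _ Fintype.card_pos), Nat.cast_pow, ← hq, hy]
    push_cast
    ring
  have hL : (level (P₂ (hypSum j (sqForm F))) 0 : ℤ) = q ^ 4 * y ^ 2 := by
    rw [← level_congr (hypSumTwo (sqForm F) j), level_odd, Nat.card_eq_fintype_card, Nat.cast_pow, ← hq, hy]
    ring
  have hl : (level (hyp (hypSum j (sqForm F))) 0 : ℤ) = q ^ 2 * y ^ 2 := by
    rw [← level_congr (hypSumSucc (sqForm F) j), level_odd, Nat.card_eq_fintype_card, Nat.cast_pow, ← hq, hy]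
    ring
  have hW : (Nat.card F : ℤ) = q := by rw [Nat.card_eq_fintype_card, hq]
  have ha : 16 * q ≤ q ^ 3 * y := by
    nlinarith [mul_le_mul_of_nonneg_left hy' (pow_nonneg (show (0:ℤ) ≤ q by omega) 3),
      mul_le_mul_of_nonneg_left (pow_le_pow_left₀ (show (0:ℤ) ≤ 4 by norm_num) hq' 2)
        (show (0:ℤ) ≤ q by omega)]
  obtain ⟨num⟩ := exists_schemeNum (Q := sqForm F)
    (B := (Fintype.card F ^ (2 * (j + 3)) - 1) / (Fintype.card F ^ 2 - 1))
    (r := q ^ 2 * y - 1) (s := -(q ^ 2 * y) - 1) (num := q ^ 6 * y ^ 2 - 1)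
    (V := q ^ 5 * y ^ 2) (V₁ := q ^ 3 * y ^ 2) hL hl
    (by rw [card_W₂_hypSum, hW, ← hq, ← hy]; ring)
    (by rw [card_W₁_hypSum, hW, ← hq, ← hy]; ring)
    (by
      rw [← hq, show q ^ 4 * y ^ 2 = q ^ (4 + 2 * j) by rw [hy]; ring]
      exact sub_one_dvd_pow_sub_one _ _)
    (by rw [← hq]; ring) (by ring) (by nlinarith)
    (by rw [hq]; exact le_num (by omega) (hnum.trans (by rw [hq])))
    (by
      rw [← hq]
      have h6 : 2 * q ≤ q ^ 6 * y ^ 2 := by nlinarith [mul_le_mul ha ha (by omega) (by omega)]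
      nlinarith [mul_le_mul_of_nonneg_left h6 (show (0:ℤ) ≤ q by omega)])
    (by
      rw [← hq]
      have h1 : 0 ≤ q ^ 6 * y ^ 2 - (q + 1) * q ^ 3 * y - (q + 2) := by
        nlinarith [mul_le_mul_of_nonneg_left ha (show (0:ℤ) ≤ q ^ 3 * y by omega)]
      nlinarith [mul_nonneg (mul_nonneg (show (0:ℤ) ≤ q ^ 2 * y by positivity)
        (show (0:ℤ) ≤ q - 1 by omega)) h1])
    (by
      rw [← hq]
      nlinarith [mul_nonneg (mul_nonneg (show (0:ℤ) ≤ q ^ 2 * y by positivity)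
        (show (0:ℤ) ≤ q - 1 by omega)) (show (0:ℤ) ≤ q ^ 6 * y ^ 2 by positivity),
        mul_nonneg (show (0:ℤ) ≤ q ^ 2 * y by positivity) (show (0:ℤ) ≤ (q + 1) * q ^ 4 * y - (q+1) * q ^ 3 * y by
          linear_combination mul_nonneg (show (0:ℤ) ≤ (q + 1) * q ^ 3 * y by positivity) (show (0:ℤ) ≤ q - 1 by omega)),
        show (0:ℤ) ≤ q ^ 2 * y by positivity])
    (by
      intro N χ hχ hN m hm h
      rw [← hq] at hN
      rw [sgnSum_hypSum j hχ] at h
      have hS : (∑ᶠ w : F, χ (-(sqForm F w))) = χ (-1) * ((Fintype.card F : ℂ) - 1) := by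
        rw [finsum_eq_sum_of_fintype, ← Finset.add_sum_erase _ _ (Finset.mem_univ (0 : F)),
          sqForm_apply, mul_zero, neg_zero, hχ.zero, zero_add,
          Finset.sum_congr rfl (fun x hx => by
            rw [sqForm_apply, show -(x * x) = (-1) * (x * x) by ring, hχ.mul, hχ.mul,
              hχ.sq x (Finset.mem_erase.1 hx).1, mul_one]), Finset.sum_const,
          Finset.card_erase_of_mem (Finset.mem_univ _), Finset.card_univ, nsmul_eq_mul,
          Nat.cast_sub Fintype.card_pos]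
        push_cast
        ring
      rw [hS] at h
      have h1 : χ (-1) * χ (-1) = 1 := hχ.sq _ (neg_ne_zero.2 one_ne_zero)
      have hqC : (Fintype.card F : ℂ) = (q : ℂ) := by rw [hq]; simp
      rw [hqC, hy] at h
      have h3 : ((((q + 1) * m - N) * ((q + 1) * m - q * N) : ℤ) : ℂ) = 0 := by
        have hne : (q : ℂ) ^ (2 * j + 4) ≠ 0 :=
          pow_ne_zero _ (Int.cast_ne_zero.2 (by omega))
        apply mul_left_cancel₀ hne
        push_cast at h ⊢
        linear_combination h + (q : ℂ) ^ (2 * j + 4) * ((q : ℂ) - 1) ^ 2 * m * ((N : ℂ) - m) * h1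
      have h4 : (q + 1) * (m : ℤ) = N ∨ (q + 1) * (m : ℤ) = q * N := by
        rcases mul_eq_zero.1 (Int.cast_eq_zero.1 h3) with h | h
        · exact Or.inl (by linarith)
        · exact Or.inr (by linarith)
      have hN2 : (q - 1) * N = q ^ 6 * y ^ 2 - 1 := by linear_combination hN
      have hN0 : 0 ≤ N := by
        have : 0 ≤ (q - 1) * N := by rw [hN2]; nlinarith [pow_pos (show (0:ℤ) < q by omega) 6]
        exact nonneg_of_mul_nonneg_right this (by omega)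
      have hm' : (((Fintype.card F ^ (2 * (j + 3)) - 1) / (Fintype.card F ^ 2 - 1) : ℕ) : ℤ) ≤ m :=
        le_of_mul_num (by omega) hnum (by
          rw [← hq, ← hN2]
          rcases h4 with e | e
          · linear_combination (1 - q) * e
          · have := mul_nonneg (mul_nonneg (show (0:ℤ) ≤ q - 1 by omega) (show (0:ℤ) ≤ q - 1 by omega)) hN0
            linear_combination this + (1 - q) * e)
      exact_mod_cast hm')
  refine degree_bound (polarND_sqForm h2) reflGroup_sqForm j (Or.inr ⟨1, by simp⟩)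
    (fun _ => hbase_sqForm h2) hq4 (fun c => ?_) num ?_ ?_ φ ρ hρ hk
  · have hle : level (sqForm F) c ≤ 2 := by
      rcases isEmpty_or_nonempty {v : F // sqForm F v = c} with h | ⟨⟨v, hv⟩⟩
      · rw [level, Nat.card_of_isEmpty]; omega
      · refine le_trans (Nat.card_le_card_of_injective (fun w => decide (w.1 = v)) ?_)
          (le_of_eq (by simp))
        rintro ⟨a, ha⟩ ⟨b, hb⟩ he
        simp only [sqForm_apply] at ha hb hv
        simp only [decide_eq_decide] at he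
        rcases mul_self_eq_mul_self_iff.1 (ha.trans hv.symm) with e | e <;>
          rcases mul_self_eq_mul_self_iff.1 (hb.trans hv.symm) with e' | e'
        · exact Subtype.ext (e.trans e'.symm)
        · exact Subtype.ext (e.trans (he.1 e).symm)
        · exact Subtype.ext ((he.2 e').trans e'.symm)
        · exact Subtype.ext (e.trans e'.symm)
    have := Nat.one_le_pow j _ (Nat.card_pos (α := F))
    nlinarith
  · rw [card_hypSum_space, Nat.card_eq_fintype_card]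
    zify [show 1 ≤ Fintype.card F by omega]
    rw [← hq]
    refine le_of_mul_num (by omega) hnum ?_
    rw [← hq, show q ^ (2 * j) = y ^ 2 by rw [hy]; ring]
    nlinarith [mul_nonneg (show (0:ℤ) ≤ y ^ 2 * q ^ 2 by positivity)
      (show (0:ℤ) ≤ q ^ 4 - 4 * q ^ 2 + 2 by
        nlinarith [mul_nonneg (sq_nonneg q) (show (0:ℤ) ≤ q ^ 2 - 4 by nlinarith)])]
  · zify [level_pos_zero (P₂ (hypSum j (sqForm F)))]
    rw [hL]
    refine le_of_mul_num (by omega) hnum ?_
    rw [← hq]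
    nlinarith [mul_nonneg (show (0:ℤ) ≤ q ^ 4 * y ^ 2 by positivity) (show (0:ℤ) ≤ q ^ 2 - 4 by nlinarith)]

end Cfsg.Agent.CrossChar56.OrthDeg
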