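import Cfsg.Agent.CrossChar56.OrthDeg.Numerics

/-!
The numeric data in even dimension.
-/

set_option autoImplicit false

noncomputable section

namespace Cfsg.Agent.CrossChar56.OrthDeg

open QuadraticMap
open Cfsg.Agent.UnitaryOrthogonal
open scoped Classical

variable {F : Type*} [Field F] [Fintype F] {k : ℕ}

theorem le_of_num {q X num : ℤ} {B : ℕ} (hq : 2 ≤ q) (h : (B : ℤ) * (q ^ 2 - 1) ≤ num)
    (hX : num ≤ X * (q ^ 2 - 1)) : (B : ℤ) ≤ X :=
  le_of_mul_le_mul_right (h.trans hX) (by nlinarith)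

theorem two_mul_le_of_num {q N X num : ℤ} {B : ℕ} (hq : 2 ≤ q) (h : (B : ℤ) * (q ^ 2 - 1) ≤ num)
    (hN : (q - 1) * (N - 1) = X) (hX : 2 * num ≤ (q + 1) * (X + (q - 1))) : 2 * (B : ℤ) ≤ N :=
  le_of_mul_le_mul_right (show 2 * (B : ℤ) * (q ^ 2 - 1) ≤ N * (q ^ 2 - 1) by
    linear_combination 2 * h + hX - (q + 1) * hN) (by nlinarith)

/-- plus type -/
theorem bound_plus (hq4 : 4 ≤ Fintype.card F) (j : ℕ) (hj : 1 ≤ j) {G : Type*} [Group G]
    (φ : G ≃* orth (hypSum (j + 3) (zeroForm F)))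
    (ρ : Representation ℂ ↥(commutator G) (Fin k → ℂ)) (hρ : ρ.IsIrreducible) (hk : 2 ≤ k) :
    (Fintype.card F ^ (j + 3) - 1) * (Fintype.card F ^ (j + 2) + Fintype.card F) /
      (Fintype.card F ^ 2 - 1) ≤ k := by
  obtain ⟨q, hq⟩ : ∃ q : ℤ, q = Fintype.card F := ⟨_, rfl⟩
  obtain ⟨y, hy⟩ : ∃ y : ℤ, y = q ^ j := ⟨_, rfl⟩
  have hq' : 4 ≤ q := by rw [hq]; exact_mod_cast hq4
  have hq2 : 16 ≤ q ^ 2 := by nlinarith only [hq']
  have hyq : q ≤ y := by rw [hy]; exact le_self_pow₀ (by omega) (by omega)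
  have hq0 : (0:ℤ) ≤ q := by omega
  have hy0 : (0:ℤ) ≤ y := by omega
  have hnum : (((Fintype.card F ^ (j + 3) - 1) * (Fintype.card F ^ (j + 2) + Fintype.card F) : ℕ) : ℤ)
      = (q ^ 3 * y - 1) * (q ^ 2 * y + q) := by
    rw [Nat.cast_mul, Nat.cast_sub (Nat.one_le_pow _ _ Fintype.card_pos), Nat.cast_add,
      Nat.cast_pow, Nat.cast_pow, ← hq, hy]
    push_cast
    ring
  have hlev : ∀ m : ℕ, q * (level (hypSum m (zeroForm F)) 0 : ℤ) + q ^ m =
      q ^ (2 * m) + q ^ (m + 1) := fun m => by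
    have h := level_plus (F := F) m
    rw [Nat.card_eq_fintype_card] at h
    rw [hq]
    exact_mod_cast h
  have hL : (level (P₂ (hypSum j (zeroForm F))) 0 : ℤ) = q ^ 3 * y ^ 2 + q ^ 2 * y - q * y := by
    rw [← level_congr (hypSumTwo (zeroForm F) j)]
    apply mul_left_cancel₀ (show q ≠ 0 by omega)
    rw [hy]
    linear_combination hlev (j + 2)
  have hl : (level (hyp (hypSum j (zeroForm F))) 0 : ℤ) = q * y ^ 2 + q * y - y := by
    rw [← level_congr (hypSumSucc (zeroForm F) j)]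
    apply mul_left_cancel₀ (show q ≠ 0 by omega)
    rw [hy]
    linear_combination hlev (j + 1)
  have hW : (Nat.card (Fin 0 → F) : ℤ) = 1 := by simp
  have hBn : ((((Fintype.card F ^ (j + 3) - 1) * (Fintype.card F ^ (j + 2) + Fintype.card F)) /
      (Fintype.card F ^ 2 - 1) : ℕ) : ℤ) * (q ^ 2 - 1) ≤ (q ^ 3 * y - 1) * (q ^ 2 * y + q) := by
    rw [hq]; exact le_num (by omega) (hnum.trans (by rw [hq]))
  have h16 : 16 * q ≤ q ^ 2 * y := by nlinarith
  obtain ⟨num⟩ := exists_schemeNum (Q := zeroForm F)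
    (B := (Fintype.card F ^ (j + 3) - 1) * (Fintype.card F ^ (j + 2) + Fintype.card F) /
      (Fintype.card F ^ 2 - 1))
    (r := q ^ 2 * y - 1) (s := -(q * y) - 1) (num := (q ^ 3 * y - 1) * (q ^ 2 * y + q))
    (V := q ^ 4 * y ^ 2) (V₁ := q ^ 2 * y ^ 2) hL hl
    (by rw [card_W₂_hypSum, hW, ← hq, ← hy]; ring)
    (by rw [card_W₁_hypSum, hW, ← hq, ← hy]; ring)
    (by
      rw [← hq, show q ^ 3 * y ^ 2 + q ^ 2 * y - q * y - 1 = (q ^ (j + 2) - 1) * (q * y + 1) by
        rw [hy]; ring]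
      exact Dvd.dvd.mul_right (sub_one_dvd_pow_sub_one _ _) _)
    (by rw [← hq]; ring) (by ring) (by nlinarith)
    (by rw [← hq]; exact hBn)
    (by
      rw [← hq]
      nlinarith [mul_le_mul_of_nonneg_left h16 (show (0:ℤ) ≤ q ^ 4 * y by positivity),
        mul_le_mul_of_nonneg_left hq' (show (0:ℤ) ≤ q ^ 3 * y by positivity)])
    (by
      rw [← hq]
      have h1 : 0 ≤ q ^ 6 * y ^ 2 - q ^ 5 * y ^ 2 - q ^ 4 * y + q ^ 2 * y + q - q ^ 2 := by
        nlinarith [mul_le_mul_of_nonneg_left (show (3:ℤ) ≤ q - 1 by omega)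
            (show (0:ℤ) ≤ q ^ 5 * y ^ 2 by positivity),
          mul_le_mul_of_nonneg_left hyq (show (0:ℤ) ≤ q ^ 4 * y by positivity),
          mul_le_mul_of_nonneg_left hq' (show (0:ℤ) ≤ q ^ 4 * y by positivity),
          mul_le_mul_of_nonneg_left hyq (show (0:ℤ) ≤ q by omega)]
      linear_combination mul_nonneg (show (0:ℤ) ≤ q * y * (q + 1) by positivity) h1)
    (by rw [← hq]; exact le_of_eq (by ring))
    (by
      intro N χ hχ hN m hm h
      rw [← hq] at hN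
      rw [sgnSum_hypSum j hχ, finsum_eq_sum_of_fintype] at h
      simp only [zeroForm, zero_apply, neg_zero, hχ.zero, Finset.sum_const_zero, mul_zero,
        zero_pow two_ne_zero, zero_mul] at h
      refine half_of_zero (Int.cast_ne_zero.2 ?_) h
        (two_mul_le_of_num (q := q) (by omega) hBn hN ?_)
      · have : (1:ℤ) ≤ y := by omega
        positivity
      · nlinarith [mul_le_mul_of_nonneg_left h16 (show (0:ℤ) ≤ q ^ 4 * y by positivity),
          mul_le_mul_of_nonneg_left hq' (show (0:ℤ) ≤ q ^ 5 * y ^ 2 by positivity),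
          mul_le_mul_of_nonneg_left hyq (show (0:ℤ) ≤ q ^ 4 * y by positivity)])
  obtain ⟨B, hBdef⟩ : ∃ B, B = (Fintype.card F ^ (j + 3) - 1) * (Fintype.card F ^ (j + 2) + Fintype.card F) /
      (Fintype.card F ^ 2 - 1) := ⟨_, rfl⟩
  rw [← hBdef] at num hBn ⊢
  refine degree_bound (polarND_zeroForm (F := F)) reflGroup_zeroForm j (Or.inl hj)
    (fun h2 => hbase_zeroForm h2) hq4 (fun c => ?_) num ?_ ?_ φ ρ hρ hk
  · have hle : level (zeroForm F) c ≤ 1 :=
      Finite.card_le_one_iff_subsingleton.2 inferInstance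
    have h1 : Nat.card F ^ 1 ≤ Nat.card F ^ j := Nat.pow_le_pow_right Nat.card_pos hj
    rw [pow_one] at h1
    have hw : Nat.card (Fin 0 → F) = 1 := by simp
    rw [hw]
    nlinarith
  · have hw : Nat.card (Fin 0 → F) = 1 := by simp
    rw [card_hypSum_space, Nat.card_eq_fintype_card (α := F), hw]
    zify [show 1 ≤ Fintype.card F by omega]
    rw [← hq]
    refine le_of_num (q := q) (by omega) hBn ?_
    rw [show q ^ (2 * j) = y ^ 2 by rw [hy]; ring]
    have h1 : 0 ≤ 2 * (q ^ 2 - 1) ^ 2 * y - q ^ 4 * y - q ^ 3 := by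
      nlinarith [mul_le_mul_of_nonneg_left hyq (show (0:ℤ) ≤ q ^ 2 by positivity),
        mul_nonneg (show (0:ℤ) ≤ q ^ 2 * y by positivity) (show (0:ℤ) ≤ q ^ 2 - 5 by linarith)]
    have e1 : (0:ℤ) ≤ q * (q * y + 1) := by positivity
    linear_combination mul_nonneg (show (0:ℤ) ≤ q * y by positivity) h1 + e1
  · zify [level_pos_zero (P₂ (hypSum j (zeroForm F)))]
    rw [hL]
    refine le_of_num (q := q) (by omega) hBn ?_
    have h1 : 0 ≤ 2 * (q ^ 2 - 1) * (q ^ 2 * y - 1) - q * (q ^ 3 * y - 1) := by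
      have e0 : (0:ℤ) ≤ q ^ 2 - 4 := by linarith
      have e1 := mul_nonneg (show (0:ℤ) ≤ q ^ 2 * y by positivity) e0
      have e2 := mul_nonneg (show (0:ℤ) ≤ q ^ 2 by positivity) (show (0:ℤ) ≤ y - 1 by omega)
      have e3 : (0:ℤ) ≤ q + 2 := by omega
      linear_combination e1 + 2 * e2 + e3
    linear_combination mul_nonneg (show (0:ℤ) ≤ q * y + 1 by positivity) h1

/-- the numeric data of minus type -/
theorem schemeNum_minus {a b : F} (hab : BinAniso a b) (j : ℕ) :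
    Nonempty (SchemeNum (hypSum j (binForm a b))
      ((Fintype.card F ^ (j + 4) + 1) * (Fintype.card F ^ (j + 3) - Fintype.card F) /
        (Fintype.card F ^ 2 - 1))) := by
  obtain ⟨q, hq⟩ : ∃ q : ℤ, q = Fintype.card F := ⟨_, rfl⟩
  obtain ⟨y, hy⟩ : ∃ y : ℤ, y = q ^ j := ⟨_, rfl⟩
  have hq' : 2 ≤ q := by rw [hq]; exact_mod_cast Fintype.one_lt_card
  have hq2 : 4 ≤ q ^ 2 := by nlinarith only [hq']
  have hy1 : 1 ≤ y := by rw [hy]; exact one_le_pow₀ (by omega)
  have hle : Fintype.card F ≤ Fintype.card F ^ (j + 3) := Nat.le_self_pow (by omega) _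
  have hnum : (((Fintype.card F ^ (j + 4) + 1) * (Fintype.card F ^ (j + 3) - Fintype.card F) : ℕ) : ℤ)
      = (q ^ 4 * y + 1) * (q ^ 3 * y - q) := by
    rw [Nat.cast_mul, Nat.cast_sub hle, Nat.cast_add, Nat.cast_pow, Nat.cast_pow, ← hq, hy]
    push_cast
    ring
  have hlev : ∀ m : ℕ, q * (level (hypSum m (binForm a b)) 0 : ℤ) + q ^ (m + 2) =
      q ^ (2 * m + 2) + q ^ (m + 1) := fun m => by
    have h := level_minus hab m
    rw [Nat.card_eq_fintype_card] at h
    rw [hq]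
    exact_mod_cast h
  have hL : (level (P₂ (hypSum j (binForm a b))) 0 : ℤ) = q ^ 5 * y ^ 2 - q ^ 3 * y + q ^ 2 * y := by
    rw [← level_congr (hypSumTwo (binForm a b) j)]
    apply mul_left_cancel₀ (show q ≠ 0 by omega)
    rw [hy]
    linear_combination hlev (j + 2)
  have hl : (level (hyp (hypSum j (binForm a b))) 0 : ℤ) = q ^ 3 * y ^ 2 - q ^ 2 * y + q * y := by
    rw [← level_congr (hypSumSucc (binForm a b) j)]
    apply mul_left_cancel₀ (show q ≠ 0 by omega)
    rw [hy]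
    linear_combination hlev (j + 1)
  have hW : (Nat.card (F × F) : ℤ) = q * q := by
    rw [Nat.card_prod, Nat.card_eq_fintype_card, hq]; push_cast; rfl
  have hBn : (((Fintype.card F ^ (j + 4) + 1) * (Fintype.card F ^ (j + 3) - Fintype.card F) /
      (Fintype.card F ^ 2 - 1) : ℕ) : ℤ) * (q ^ 2 - 1) ≤ (q ^ 4 * y + 1) * (q ^ 3 * y - q) := by
    rw [hq]; exact le_num (by omega) (hnum.trans (by rw [hq]))
  have h16 : 4 * q ≤ q ^ 3 * y := by
    nlinarith [mul_le_mul_of_nonneg_left hy1 (show (0:ℤ) ≤ q ^ 3 by positivity),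
      mul_le_mul_of_nonneg_left hq2 (show (0:ℤ) ≤ q by omega)]
  exact exists_schemeNum (Q := binForm a b)
    (B := (Fintype.card F ^ (j + 4) + 1) * (Fintype.card F ^ (j + 3) - Fintype.card F) /
      (Fintype.card F ^ 2 - 1))
    (r := q ^ 2 * y - 1) (s := -(q ^ 3 * y) - 1) (num := (q ^ 4 * y + 1) * (q ^ 3 * y - q))
    (V := q ^ 6 * y ^ 2) (V₁ := q ^ 4 * y ^ 2) hL hl
    (by rw [card_W₂_hypSum, hW, ← hq, ← hy]; ring)
    (by rw [card_W₁_hypSum, hW, ← hq, ← hy]; ring)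
    (by
      rw [← hq, show q ^ 5 * y ^ 2 - q ^ 3 * y + q ^ 2 * y - 1 =
        (q ^ (j + 2) - 1) * (q ^ 3 * y + 1) by rw [hy]; ring]
      exact Dvd.dvd.mul_right (sub_one_dvd_pow_sub_one _ _) _)
    (by rw [← hq]; ring) (by ring) (by nlinarith)
    (by rw [← hq]; exact hBn)
    (by
      rw [← hq]
      nlinarith [mul_le_mul_of_nonneg_left h16 (show (0:ℤ) ≤ q ^ 5 * y by positivity),
        mul_le_mul_of_nonneg_left hq' (show (0:ℤ) ≤ q ^ 4 * y by positivity)])
    (by rw [← hq]; exact le_of_eq (by ring))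
    (by
      rw [← hq]
      have h1 : 0 ≤ q ^ 8 * y ^ 2 - q ^ 7 * y ^ 2 + q ^ 5 * y - q ^ 3 * y - q ^ 2 + q := by
        nlinarith [mul_le_mul_of_nonneg_left (show (1:ℤ) ≤ q - 1 by omega)
            (show (0:ℤ) ≤ q ^ 7 * y ^ 2 by positivity),
          mul_le_mul_of_nonneg_left h16 (show (0:ℤ) ≤ q ^ 4 * y by positivity),
          mul_le_mul_of_nonneg_left hq2 (show (0:ℤ) ≤ q ^ 3 * y by positivity)]
      linear_combination mul_nonneg (show (0:ℤ) ≤ q ^ 2 * y * (q + 1) by positivity) h1)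
    (by
      intro N χ hχ hN m hm h
      rw [← hq] at hN
      rw [sgnSum_hypSum j hχ, finsum_eq_sum_of_fintype, sum_fib] at h
      have hS : ∑ c : F, (level (binForm a b) c : ℂ) * χ (-c) = 0 := by
        have h1 : ∑ c : F, χ (-c) = 0 := by
          obtain ⟨e, he, he1⟩ := hχ.nontriv
          have h2 : χ e * ∑ c : F, χ (-c) = ∑ c : F, χ (-c) := by
            rw [Finset.mul_sum]
            exact Fintype.sum_equiv (Equiv.mulLeft₀ e he) _ _ fun c => by
              rw [← hχ.mul]; simp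
          exact (mul_eq_zero.1 (show (χ e - 1) * ∑ c : F, χ (-c) = 0 by
            rw [sub_mul, h2, one_mul, sub_self])).resolve_left (sub_ne_zero.2 he1)
        refine Eq.trans (Finset.sum_congr rfl fun c _ => ?_)
          (by rw [← Finset.mul_sum, h1, mul_zero] :
            ∑ c : F, ((Nat.card F + 1 : ℕ) : ℂ) * χ (-c) = 0)
        by_cases hc : c = 0
        · simp [hc, hχ.zero]
        · rw [hab.level_eq hc]
      rw [hS] at h
      simp only [mul_zero, zero_pow two_ne_zero, zero_mul] at h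
      refine half_of_zero (Int.cast_ne_zero.2 (by positivity)) h
        (two_mul_le_of_num (q := q) (by omega) hBn hN ?_)
      nlinarith [mul_le_mul_of_nonneg_left h16 (show (0:ℤ) ≤ q ^ 5 * y by positivity),
        mul_le_mul_of_nonneg_left hq' (show (0:ℤ) ≤ q ^ 7 * y ^ 2 by positivity),
        mul_le_mul_of_nonneg_left hq' (show (0:ℤ) ≤ q ^ 4 * y by positivity)])

/-- minus type -/
theorem bound_minus {a b : F} (hab : BinAniso a b) (hq4 : 4 ≤ Fintype.card F) (j : ℕ)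
    {G : Type*} [Group G] (φ : G ≃* orth (hypSum (j + 3) (binForm a b)))
    (ρ : Representation ℂ ↥(commutator G) (Fin k → ℂ)) (hρ : ρ.IsIrreducible) (hk : 2 ≤ k) :
    (Fintype.card F ^ (j + 4) + 1) * (Fintype.card F ^ (j + 3) - Fintype.card F) /
      (Fintype.card F ^ 2 - 1) ≤ k := by
  obtain ⟨q, hq⟩ : ∃ q : ℤ, q = Fintype.card F := ⟨_, rfl⟩
  obtain ⟨y, hy⟩ : ∃ y : ℤ, y = q ^ j := ⟨_, rfl⟩
  have hq' : 4 ≤ q := by rw [hq]; exact_mod_cast hq4
  have hq2 : 16 ≤ q ^ 2 := by nlinarith only [hq']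
  have hy1 : 1 ≤ y := by rw [hy]; exact one_le_pow₀ (by omega)
  have hle : Fintype.card F ≤ Fintype.card F ^ (j + 3) := Nat.le_self_pow (by omega) _
  have hnum : (((Fintype.card F ^ (j + 4) + 1) * (Fintype.card F ^ (j + 3) - Fintype.card F) : ℕ) : ℤ)
      = (q ^ 4 * y + 1) * (q ^ 3 * y - q) := by
    rw [Nat.cast_mul, Nat.cast_sub hle, Nat.cast_add, Nat.cast_pow, Nat.cast_pow, ← hq, hy]
    push_cast
    ring
  have hlev : ∀ m : ℕ, q * (level (hypSum m (binForm a b)) 0 : ℤ) + q ^ (m + 2) =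
      q ^ (2 * m + 2) + q ^ (m + 1) := fun m => by
    have h := level_minus hab m
    rw [Nat.card_eq_fintype_card] at h
    rw [hq]
    exact_mod_cast h
  have hL : (level (P₂ (hypSum j (binForm a b))) 0 : ℤ) = q ^ 5 * y ^ 2 - q ^ 3 * y + q ^ 2 * y := by
    rw [← level_congr (hypSumTwo (binForm a b) j)]
    apply mul_left_cancel₀ (show q ≠ 0 by omega)
    rw [hy]
    linear_combination hlev (j + 2)
  have hBn : (((Fintype.card F ^ (j + 4) + 1) * (Fintype.card F ^ (j + 3) - Fintype.card F) /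
      (Fintype.card F ^ 2 - 1) : ℕ) : ℤ) * (q ^ 2 - 1) ≤ (q ^ 4 * y + 1) * (q ^ 3 * y - q) := by
    rw [hq]; exact le_num (by omega) (hnum.trans (by rw [hq]))
  obtain ⟨num⟩ := schemeNum_minus hab j
  obtain ⟨B, hBdef⟩ : ∃ B, B = (Fintype.card F ^ (j + 4) + 1) * (Fintype.card F ^ (j + 3) - Fintype.card F) /
      (Fintype.card F ^ 2 - 1) := ⟨_, rfl⟩
  rw [← hBdef] at num hBn ⊢
  refine degree_bound hab.polarND hab.reflGroup_eq_top j (Or.inr (exists_binForm_ne_zero a b))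
    (fun h2 => hbase_binForm hab h2) hq4 (fun c => ?_) num ?_ ?_ φ ρ hρ hk
  · have hle : level (binForm a b) c ≤ Nat.card F + 1 := by
      by_cases hc : c = 0
      · rw [hc, hab.level_zero]; omega
      · rw [hab.level_eq hc]
    have := Nat.one_le_pow j _ (Nat.card_pos (α := F))
    rw [Nat.card_prod]
    have h2 : 2 ≤ Nat.card F := Finite.one_lt_card
    nlinarith [Nat.mul_le_mul_left (Nat.card F) hle, Nat.mul_le_mul_right (Nat.card F * Nat.card F) this]
  · rw [card_hypSum_space, Nat.card_eq_fintype_card (α := F), Nat.card_prod,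
      Nat.card_eq_fintype_card (α := F)]
    zify [show 1 ≤ Fintype.card F by omega]
    rw [← hq]
    refine le_of_num (q := q) (by omega) hBn ?_
    rw [show q ^ (2 * j) = y ^ 2 by rw [hy]; ring]
    have h1 : 0 ≤ 2 * (q ^ 2 - 1) ^ 2 * y - q ^ 4 * y - 1 := by
      have e0 : (0:ℤ) ≤ 2 * y - 1 := by omega
      linear_combination mul_nonneg (show (0:ℤ) ≤ q ^ 2 * y by positivity)
        (show (0:ℤ) ≤ q ^ 2 - 4 by linarith) + e0
    have e1 : (0:ℤ) ≤ q * (q ^ 4 * y + 1) := by positivity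
    linear_combination mul_nonneg (show (0:ℤ) ≤ q ^ 3 * y by positivity) h1 + e1
  · zify [level_pos_zero (P₂ (hypSum j (binForm a b)))]
    rw [hL]
    refine le_of_num (q := q) (by omega) hBn ?_
    have h0 : 0 ≤ 2 * (q ^ 2 - 1) * (q ^ 3 * y + 1) - q * (q ^ 4 * y + 1) := by
      have e0 : (0:ℤ) ≤ 2 * q ^ 2 - q - 2 := by nlinarith only [hq']
      linear_combination mul_nonneg (show (0:ℤ) ≤ q ^ 3 * y by positivity)
        (show (0:ℤ) ≤ q ^ 2 - 2 by linarith) + e0
    linear_combination mul_nonneg (show (0:ℤ) ≤ q ^ 2 * y - 1 by nlinarith) h0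

end Cfsg.Agent.CrossChar56.OrthDeg
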