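import Cfsg.Agent.CrossChar56.OrthDeg.Setup
import Cfsg.Agent.Lib.UnitaryOrthogonal.HypGenerate

/-!
Perfectness without a torus: the differences `k w - w` fill the kernel space.
-/

set_option autoImplicit false

namespace Cfsg.Agent.CrossChar56.OrthDeg

open QuadraticMap
open Cfsg.Agent.UnitaryOrthogonal
open scoped commutatorElement

variable {F W : Type*} [Field F] [AddCommGroup W] [Module F W]

/-- the differences of the elements of `O(P)` inside `Ω(hyp P)` -/
def DiffTop (P : QuadraticForm F W) : Prop :=
  AddSubgroup.closure {d : W | ∃ k : orth P, emb k ∈ eichGroup (hyp P) ∧ ∃ x, d = k.1 x - x} = ⊤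

variable {P : QuadraticForm F W}

/-- perfectness -/
theorem eichGroup_perfect_of_diff (hP : PolarND P) (hD : DiffTop P) :
    ⁅eichGroup (hyp P), eichGroup (hyp P)⁆ = eichGroup (hyp P) := by
  refine le_antisymm (Subgroup.commutator_le_self _) ?_
  have key : ∀ (root : W → orth (hyp P)), (∀ w, root w ∈ eichGroup (hyp P)) →
      (∀ a b, root (a + b) = root a * root b) → root 0 = 1 →
      (∀ (k : orth P) (w : W), emb k * root w * (emb k)⁻¹ = root (k.1 w)) →
      ∀ w, root w ∈ ⁅eichGroup (hyp P), eichGroup (hyp P)⁆ := by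
    intro root hmem hadd h0 hconj w
    have hneg : ∀ a, root (-a) = (root a)⁻¹ := fun a => by
      rw [eq_inv_iff_mul_eq_one, ← hadd, neg_add_cancel, h0]
    let A : AddSubgroup W :=
      { carrier := {z | root z ∈ ⁅eichGroup (hyp P), eichGroup (hyp P)⁆}
        zero_mem' := by
          show root 0 ∈ ⁅eichGroup (hyp P), eichGroup (hyp P)⁆
          rw [h0]; exact one_mem _
        add_mem' := fun {a b} ha hb => by
          show root (a + b) ∈ ⁅eichGroup (hyp P), eichGroup (hyp P)⁆
          rw [hadd]; exact mul_mem ha hb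
        neg_mem' := fun {a} ha => by
          show root (-a) ∈ ⁅eichGroup (hyp P), eichGroup (hyp P)⁆
          rw [hneg]; exact inv_mem ha }
    have hle : (⊤ : AddSubgroup W) ≤ A := by
      rw [← hD, AddSubgroup.closure_le]
      rintro _ ⟨k, hk, x, rfl⟩
      show root (k.1 x - x) ∈ ⁅eichGroup (hyp P), eichGroup (hyp P)⁆
      rw [sub_eq_add_neg, hadd, hneg, ← hconj, ← commutatorElement_def]
      exact Subgroup.commutator_mem_commutator hk (hmem x)
    exact hle (AddSubgroup.mem_top w)
  exact eichGroup_le_of_roots hP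
    (fun g _ x hx => (Subgroup.commutator_normal _ _).conj_mem x hx g)
    (key (ee P) (fun w => ee_mem w) ee_add ee_zero conj_emb_ee)
    (key (ff P) (fun w => ff_mem w) ff_add ff_zero conj_emb_ff)

/-- the differences of the Eichler group fill a hyperbolic space -/
theorem closure_eich_diff (hP : PolarND P) (hex : ∃ a, P a ≠ 0) :
    AddSubgroup.closure
      {d : (F × F) × W | ∃ g ∈ eichGroup (hyp P), ∃ x, d = g.1 x - x} = ⊤ := by
  refine eq_top_iff.2 fun z _ => ?_
  set A := AddSubgroup.closure
      {d : (F × F) × W | ∃ g ∈ eichGroup (hyp P), ∃ x, d = g.1 x - x}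
  have hd : ∀ g ∈ eichGroup (hyp P), ∀ x, g.1 x - x ∈ A := fun g hg x =>
    AddSubgroup.subset_closure ⟨g, hg, x, rfl⟩
  obtain ⟨a, ha⟩ := hex
  have ha0 : a ≠ 0 := fun e => ha (by rw [e, QuadraticMap.map_zero])
  obtain ⟨b, hb⟩ : ∃ b, polar P a b ≠ 0 := by
    by_contra hc
    push Not at hc
    exact ha0 (hP a hc)
  have h1 : ∀ x : F, ((x, 0), (0 : W)) ∈ A := by
    intro x
    have h := hd _ (ee_mem a) (inW ((-x / polar P a b) • b))
    rw [ee_apply] at h
    simpa [inW_apply, hb] using h
  have h2 : ∀ y : F, ((0, y), (0 : W)) ∈ A := by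
    intro y
    have h := hd _ (ff_mem a) (inW ((-y / polar P a b) • b))
    rw [ff_apply] at h
    simpa [inW_apply, hb] using h
  have h3 := hd _ (ee_mem z.2) (fVec F W)
  rw [ee_apply] at h3
  have : z = (((z.1.1 + P z.2, 0), (0 : W)) + ((0, z.1.2), 0)) + ((-(P z.2), 0), z.2) := by
    simp [Prod.ext_iff]
  rw [this]
  refine add_mem (add_mem (h1 _) (h2 _)) ?_
  simpa [fVec] using h3

/-- transport from a hyperbolic form -/
theorem diffTop_of_iso {W' : Type*} [AddCommGroup W'] [Module F W'] {P' : QuadraticForm F W'}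
    (e : P.IsometryEquiv (hyp P')) (hP : PolarND P') (hex : ∃ a, P' a ≠ 0) : DiffTop P := by
  refine eq_top_iff.2 fun w _ => ?_
  let A := AddSubgroup.closure
    {d : W | ∃ k : orth P, emb k ∈ eichGroup (hyp P) ∧ ∃ x, d = k.1 x - x}
  have hle : (⊤ : AddSubgroup ((F × F) × W')) ≤ A.comap e.toLinearEquiv.symm.toAddMonoidHom := by
    rw [← closure_eich_diff hP hex, AddSubgroup.closure_le]
    rintro _ ⟨g, hg, x, rfl⟩
    refine AddSubgroup.subset_closure
      ⟨orthCongr e.symm g, emb_mem (mem_eichGroup_congr e.symm hg), e.toLinearEquiv.symm x, ?_⟩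
    show e.toLinearEquiv.symm (g.1 x - x) = _
    rw [map_sub]
    congr 1
    simp [orthCongr]
  have h := hle (AddSubgroup.mem_top (e.toLinearEquiv w))
  rw [AddSubgroup.mem_comap] at h
  change e.toLinearEquiv.symm (e.toLinearEquiv w) ∈ A at h
  rw [LinearEquiv.symm_apply_apply] at h
  exact h

variable [Finite F] {a b : F}

/-- the rotations of an anisotropic plane -/
theorem diffTop_binForm (hab : BinAniso a b) : DiffTop (binForm a b) := by
  classical
  cases nonempty_fintype F
  -- two independent vectors of the same value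
  obtain ⟨z, z', hz, hzz, hind⟩ : ∃ z z' : F × F, z ≠ 0 ∧ binForm a b z = binForm a b z' ∧
      ∀ s t : F, s • z + t • z' = 0 → s = 0 ∧ t = 0 := by
    have hcard := hab.level_eq (one_ne_zero (α := F))
    haveI : Nonempty {v : F × F // binForm a b v = 1} :=
      (Nat.card_pos_iff.1 (show 0 < level (binForm a b) 1 by omega)).1
    obtain ⟨z, hz⟩ := Classical.arbitrary {v : F × F // binForm a b v = 1}
    have hz0 : z ≠ 0 := fun e => by simp [e] at hz
    by_contra hcon
    push Not at hcon
    have hline : ∀ v : {v : F × F // binForm a b v = 1}, v.1 = z ∨ v.1 = -z := by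
      intro v
      obtain ⟨s, t, hst, hne⟩ := hcon z v.1 hz0 (hz.trans v.2.symm)
      have ht : t ≠ 0 := by
        intro ht
        rw [ht, zero_smul, add_zero, smul_eq_zero] at hst
        exact hne (hst.resolve_right hz0) ht
      have hv : v.1 = (-(s / t)) • z := by
        apply smul_right_injective (F × F) ht
        show t • v.1 = t • (-(s / t)) • z
        rw [eq_neg_of_add_eq_zero_right hst, smul_smul, mul_neg, mul_div_cancel₀ s ht, neg_smul]
      have h1 := v.2
      rw [hv, form_smul, hz, mul_one] at h1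
      rcases mul_self_eq_one_iff.1 h1 with e | e
      · left; rw [hv, e, one_smul]
      · right; rw [hv, e, neg_one_smul]
    have hsub : (Finset.univ.image (fun v : {v : F × F // binForm a b v = 1} => v.1)) ⊆ {z, -z} := by
      intro v hv
      obtain ⟨w, -, rfl⟩ := Finset.mem_image.1 hv
      rcases hline w with e | e <;> simp [e]
    have h2 := (Finset.card_le_card hsub).trans Finset.card_le_two
    rw [Finset.card_image_of_injective _ Subtype.val_injective, Finset.card_univ,
      ← Nat.card_eq_fintype_card, ← level, hcard] at h2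
    have := Finite.one_lt_card (α := F)
    omega
  have hv : binForm a b z ≠ 0 := hab.form_ne_zero hz
  have hv' : binForm a b z' ≠ 0 := hzz ▸ hv
  obtain ⟨k, hk⟩ : ∃ k, k = rf (binForm a b) z * rf (binForm a b) z' := ⟨_, rfl⟩
  have hmem : emb k ∈ eichGroup (hyp (binForm a b)) := by
    have h1 := mul_mem (inv_mem (rf_inW_equiv hv)) (rf_inW_equiv hv')
    rw [hzz, _root_.mul_inv_rev, rf_inv, mul_assoc, inv_mul_cancel_left] at h1
    rwa [hk, map_mul, emb_rf, emb_rf]
  have hinj : Function.Injective (fun x => k.1 x - x) := by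
    intro x y hxy
    have h0 : k.1 (x - y) = x - y := by
      rw [map_sub]
      exact sub_eq_sub_iff_sub_eq_sub.1 hxy
    rw [hk, coe_mul_apply] at h0
    have h1 : (rf (binForm a b) z').1 (x - y) = (rf (binForm a b) z).1 (x - y) := by
      apply (rf (binForm a b) z).1.injective
      rw [h0, ← coe_mul_apply, rf_mul_self, coe_one_apply]
    rw [rf_apply, rf_apply] at h1
    have h2 : polar (binForm a b) (x - y) z / binForm a b z = 0 ∧
        -(polar (binForm a b) (x - y) z' / binForm a b z') = 0 := by
      refine hind _ _ ?_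
      rw [← sub_eq_zero] at h1
      refine Eq.trans ?_ h1
      rw [polar_comm _ z (x - y), polar_comm _ z' (x - y)]
      module
    rw [neg_eq_zero, div_eq_zero_iff, div_eq_zero_iff, or_iff_left hv, or_iff_left hv'] at h2
    -- `x - y` is orthogonal to a basis
    let f : (F × F) →ₗ[F] F × F :=
      { toFun := fun p => p.1 • z + p.2 • z'
        map_add' := fun p p' => by simp only [Prod.fst_add, Prod.snd_add]; module
        map_smul' := fun c p => by simp only [Prod.smul_fst, Prod.smul_snd, RingHom.id_apply]; module }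
    have hf : Function.Injective f := by
      rw [← LinearMap.ker_eq_bot, LinearMap.ker_eq_bot']
      intro p hp
      exact Prod.ext (hind _ _ hp).1 (hind _ _ hp).2
    rw [← sub_eq_zero]
    refine hab.polarND _ fun u => ?_
    obtain ⟨⟨s, t⟩, rfl⟩ := LinearMap.surjective_of_injective hf u
    show polar (binForm a b) (x - y) (s • z + t • z') = 0
    rw [polar_add_right, polar_smul_right, polar_smul_right, h2.1, h2.2, smul_zero, smul_zero,
      add_zero]
  refine eq_top_iff.2 fun w _ => ?_
  obtain ⟨x, rfl⟩ := Finite.surjective_of_injective hinj w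
  exact AddSubgroup.subset_closure ⟨k, hmem, x, rfl⟩

end Cfsg.Agent.CrossChar56.OrthDeg
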