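import Cfsg.Agent.CrossChar56.OrthDeg.Stab

/-!
Notation for the Eichler group `Ω(H ⊥ H ⊥ H ⊥ M)` and counting in its natural module.
-/

set_option autoImplicit false

namespace Cfsg.Agent.CrossChar56.OrthDeg

open QuadraticMap
open Cfsg.Agent.UnitaryOrthogonal

variable {F U : Type*} [Field F] [AddCommGroup U] [Module F U]

/-- `H ⊥ U` -/
abbrev W₁ (F U : Type*) := (F × F) × U

/-- `H ⊥ H ⊥ U` -/
abbrev W₂ (F U : Type*) := (F × F) × ((F × F) × U)

/-- `H ⊥ H ⊥ H ⊥ U` -/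
abbrev W₃ (F U : Type*) := (F × F) × ((F × F) × ((F × F) × U))

variable (M : QuadraticForm F U)

/-- the form on `W₂` -/
abbrev P₂ : QuadraticForm F (W₂ F U) := hyp (hyp M)

/-- the form on `W₃` -/
abbrev Q₃ : QuadraticForm F (W₃ F U) := hyp (hyp (hyp M))

/-- the group under consideration -/
abbrev GG := ↥(eichGroup (Q₃ M))

/-- the hypotheses on the kernel form -/
structure Setup : Prop where
  polarND : PolarND M
  exNe : ∃ a, M a ≠ 0
  idxV : (eichGroup (P₂ M)).index ≤ (eichGroup (Q₃ M)).index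
  idxW : (eichGroup (hyp M)).index ≤ (eichGroup (P₂ M)).index

variable {M}

theorem Setup.exW₁ (h : Setup M) : ∃ a, hyp M a ≠ 0 := by
  obtain ⟨a, ha⟩ := h.exNe
  exact ⟨inW a, by rwa [hyp_inW]⟩

theorem Setup.exW₂ (h : Setup M) : ∃ a, P₂ M a ≠ 0 := by
  obtain ⟨a, ha⟩ := h.exW₁
  exact ⟨inW a, by rwa [hyp_inW]⟩

theorem Setup.trans₂ (h : Setup M) : Trans (P₂ M) :=
  fun _ _ ha hb hab => exists_eich_map h.polarND ha hb hab

theorem Setup.trans₃ (h : Setup M) : Trans (Q₃ M) :=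
  fun _ _ ha hb hab => exists_eich_map h.polarND.hyp ha hb hab

variable (M)

/-- root elements at `e` -/
noncomputable def EE (w : W₂ F U) : GG M := ⟨ee (P₂ M) w, ee_mem w⟩

/-- root elements at `f` -/
noncomputable def FF (w : W₂ F U) : GG M := ⟨ff (P₂ M) w, ff_mem w⟩

/-- the Levi complement -/
noncomputable def LL : ↥(eichGroup (P₂ M)) →* GG M where
  toFun r := ⟨emb r.1, emb_mem r.2⟩
  map_one' := Subtype.ext (map_one emb)
  map_mul' a b := Subtype.ext (map_mul emb a.1 b.1)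

variable {M}

theorem EE_add (a b : W₂ F U) : EE M (a + b) = EE M a * EE M b := Subtype.ext (ee_add a b)

theorem FF_add (a b : W₂ F U) : FF M (a + b) = FF M a * FF M b := Subtype.ext (ff_add a b)

theorem EE_zero : EE M (0 : W₂ F U) = 1 := Subtype.ext ee_zero

theorem FF_zero : FF M (0 : W₂ F U) = 1 := Subtype.ext ff_zero

theorem LL_conj_EE (r : ↥(eichGroup (P₂ M))) (w : W₂ F U) :
    LL M r * EE M w * (LL M r)⁻¹ = EE M (r.1.1 w) := Subtype.ext (conj_emb_ee r.1 w)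

theorem LL_conj_FF (r : ↥(eichGroup (P₂ M))) (w : W₂ F U) :
    LL M r * FF M w * (LL M r)⁻¹ = FF M (r.1.1 w) := Subtype.ext (conj_emb_ff r.1 w)

variable [Finite F] [Finite U]

theorem Setup.stab₃ (h : Setup M) {g : GG M} (he : g.1.1 (eVec F (W₂ F U)) = eVec F (W₂ F U)) :
    ∃ w r, g = EE M w * LL M r := by
  obtain ⟨w, r, hr, e⟩ := stab_eVec h.trans₃ h.idxV g.2 he
  exact ⟨w, ⟨r, hr⟩, Subtype.ext e⟩

theorem Setup.stab₂ (h : Setup M) {g : ↥(eichGroup (P₂ M))}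
    (he : g.1.1 (eVec F (W₁ F U)) = eVec F (W₁ F U)) :
    ∃ w, ∃ r ∈ eichGroup (hyp M), g.1 = ee (hyp M) w * emb r :=
  stab_eVec h.trans₂ h.idxW g.2 he

theorem Setup.conj_LL (h : Setup M) {g : GG M} {l m : F} (hl : l ≠ 0) (hm : m ≠ 0)
    (he : g.1.1 (eVec F (W₂ F U)) = l • eVec F (W₂ F U))
    (hf : g.1.1 (fVec F (W₂ F U)) = m • fVec F (W₂ F U)) (r : ↥(eichGroup (P₂ M))) :
    ∃ r', g * LL M r * g⁻¹ = LL M r' := by
  obtain ⟨r', hr', e⟩ := conj_emb_of_lines h.trans₃ h.idxV hl hm he hf r.2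
  exact ⟨⟨r', hr'⟩, Subtype.ext e⟩

end Cfsg.Agent.CrossChar56.OrthDeg
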