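import Cfsg.Agent.CrossChar56.OrthDeg.NumericsEven
import Cfsg.Agent.CrossChar56.OrthDeg.Aniso

/-!
Minus type over the fields with two and three elements: induction on the dimension.
-/

set_option autoImplicit false

noncomputable section

namespace Cfsg.Agent.CrossChar56.OrthDeg

open QuadraticMap
open Cfsg.Agent.UnitaryOrthogonal
open scoped Classical Matrix
open scoped commutatorElement

section general

variable {F U : Type*} [Field F] [Fintype F] [AddCommGroup U] [Module F U] [Finite U]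
  {M : QuadraticForm F U} {d : ℕ} [Fintype (GG M)] [Fintype (W₂ F U)]

omit [Fintype (GG M)] in
/-- the representation of the Levi complement on the fixed space of the radical -/
theorem fixed_or_rep (τ : GG M →* GL (Fin d) ℂ) (ψ : AddChar F ℂ) :
    (∃ x, x ≠ 0 ∧ (∀ w, ap τ (EE M w) x = x) ∧ ∀ r, ap τ (LL M r) x = x) ∨
      Module.finrank ℂ (Ev τ ψ (0 : W₂ F U)) = 0 ∨
      ∃ (f : ℕ) (σ : ↥(eichGroup (P₂ M)) →* GL (Fin f) ℂ),
        f = Module.finrank ℂ (Ev τ ψ (0 : W₂ F U)) ∧ 1 ≤ f ∧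
          ∀ y, (∀ r, ap σ r y = y) → y = 0 := by
  by_cases h0 : Module.finrank ℂ (Ev τ ψ (0 : W₂ F U)) = 0
  · exact Or.inr (Or.inl h0)
  by_cases hfx : ∃ x, x ∈ Ev τ ψ (0 : W₂ F U) ∧ x ≠ 0 ∧ ∀ r, ap τ (LL M r) x = x
  · obtain ⟨x, hx, hx0, hL⟩ := hfx
    refine Or.inl ⟨x, hx0, fun w => ?_, hL⟩
    rw [(mem_Ev τ ψ).1 hx, polar_zero_left, AddChar.map_zero_eq_one, one_smul]
  right; right
  push Not at hfx
  have hmaps : ∀ r : ↥(eichGroup (P₂ M)), ∀ x ∈ Ev τ ψ (0 : W₂ F U),
      Matrix.mulVecLin (τ (LL M r)).val x ∈ Ev τ ψ (0 : W₂ F U) := by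
    intro r x hx
    have h := LL_mem_Ev τ ψ hx r
    rwa [map_zero] at h
  let ρ : ↥(eichGroup (P₂ M)) →* Module.End ℂ (Ev τ ψ (0 : W₂ F U)) :=
    { toFun := fun r => (Matrix.mulVecLin (τ (LL M r)).val).restrict (hmaps r)
      map_one' := LinearMap.ext fun x => Subtype.ext (by
        show ap τ (LL M 1) x.1 = x.1
        rw [map_one, ap_one])
      map_mul' := fun r s => LinearMap.ext fun x => Subtype.ext (by
        show ap τ (LL M (r * s)) x.1 = ap τ (LL M r) (ap τ (LL M s) x.1)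
        rw [map_mul, ap_mul]) }
  let bb := Module.finBasis ℂ (Ev τ ψ (0 : W₂ F U))
  refine ⟨_, ((LinearMap.toMatrixAlgEquiv bb).toMulEquiv.toMonoidHom.comp ρ).toHomUnits, rfl,
    Nat.one_le_iff_ne_zero.2 h0, fun y hy => ?_⟩
  by_contra hy0
  obtain ⟨x, rfl⟩ := bb.equivFun.surjective y
  have hx0 : x.1 ≠ 0 := fun h => hy0 (by rw [show x = 0 from Subtype.ext h, map_zero])
  obtain ⟨r, hr⟩ := hfx x.1 x.2 hx0
  apply hr
  have h : (LinearMap.toMatrixAlgEquiv bb) (ρ r) *ᵥ (bb.equivFun x) = bb.equivFun x := hy r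
  change (LinearMap.toMatrix bb bb (ρ r)) *ᵥ ⇑(bb.repr x) = ⇑(bb.repr x) at h
  rw [LinearMap.toMatrix_mulVec_repr] at h
  exact congrArg Subtype.val (bb.repr.injective (DFunLike.coe_injective h))

omit [Fintype (GG M)] [Fintype (W₂ F U)] in
/-- isotropic vectors in a hyperplane -/
theorem card_perp_le' (S : Setup M) {l₁ : ℕ} (h01 : level (hyp M) 0 ≤ l₁)
    (hl : ∀ c : F, c ≠ 0 → level (hyp M) c ≤ l₁) {b : W₂ F U} (hb0 : b ≠ 0) :
    Nat.card {v : W₂ F U // P₂ M v = 0 ∧ polar (P₂ M) v b = 0} ≤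
      level (hyp M) 0 + (Fintype.card F - 1) * l₁ := by
  by_cases hb : P₂ M b = 0
  · rw [card_perp_singular S hb hb0, Nat.card_eq_fintype_card]
    obtain ⟨k, hk⟩ : ∃ k, Fintype.card F = k + 1 :=
      ⟨Fintype.card F - 1, by have := Fintype.card_pos (α := F); omega⟩
    rw [hk, Nat.add_sub_cancel, add_mul, one_mul, Nat.add_comm]
    exact Nat.add_le_add_left (Nat.mul_le_mul_left _ h01) _
  obtain ⟨c, hc⟩ : ∃ c, c = P₂ M b := ⟨_, rfl⟩
  obtain ⟨r, hr, hrb⟩ := S.trans₂ ((1, c), 0) b (by simp) hb0 (by simp [hc])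
  rw [← hrb, card_perp_map ⟨r, hr⟩]
  calc Nat.card {v : W₂ F U // P₂ M v = 0 ∧ polar (P₂ M) v ((1, c), 0) = 0}
      ≤ Nat.card (Σ x : F, {w : W₁ F U // hyp M w = x * (c * x)}) := by
        refine Nat.card_le_card_of_injective (fun v => ⟨v.1.1.1, v.1.2, ?_⟩) ?_
        · have h1 := v.2.1
          have h2 := v.2.2
          rw [hyp_apply] at h1
          rw [polar_hyp, polar_zero_right] at h2
          simp only at h2
          linear_combination h1 - v.1.1.1 * h2
        · rintro ⟨⟨⟨x, y⟩, w⟩, h1, h2⟩ ⟨⟨⟨x', y'⟩, w'⟩, h1', h2'⟩ he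
          simp only [Sigma.mk.injEq] at he
          obtain ⟨rfl, he⟩ := he
          rw [heq_iff_eq, Subtype.mk.injEq] at he
          subst he
          rw [polar_hyp, polar_zero_right] at h2 h2'
          simp only at h2 h2'
          congr
          linear_combination h2 - h2'
    _ = ∑ x : F, level (hyp M) (x * (c * x)) := Nat.card_sigma
    _ ≤ _ := by
      rw [← Finset.add_sum_erase _ _ (Finset.mem_univ (0 : F)), zero_mul]
      refine Nat.add_le_add_left ((Finset.sum_le_card_nsmul _ _ l₁ fun x hx => ?_).trans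
        (le_of_eq ?_)) _
      · have hx0 := (Finset.mem_erase.1 hx).1
        exact hl _ (mul_ne_zero hx0 (mul_ne_zero (hc ▸ hb) hx0))
      · rw [Finset.card_erase_of_mem (Finset.mem_univ _), Finset.card_univ, smul_eq_mul]

end general

section minus

variable {F : Type*} [Field F] [Fintype F] {a b : F}

/-- the bound -/
def minusB (q j : ℕ) : ℕ := (q ^ (j + 4) + 1) * (q ^ (j + 3) - q) / (q ^ 2 - 1)

theorem minusB_cast {q : ℕ} (hq : 2 ≤ q) (j : ℕ) :
    (minusB q j : ℤ) * ((q : ℤ) ^ 2 - 1) ≤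
      ((q : ℤ) ^ 4 * (q : ℤ) ^ j + 1) * ((q : ℤ) ^ 3 * (q : ℤ) ^ j - q) := by
  refine le_num hq ?_
  rw [Nat.cast_mul, Nat.cast_sub (Nat.le_self_pow (by omega) _), Nat.cast_add, Nat.cast_pow,
    Nat.cast_pow]
  push_cast
  ring

theorem minusB_succ {q L : ℕ} (hq : 2 ≤ q) (i : ℕ)
    (hL : (L : ℤ) = (q : ℤ) ^ 5 * ((q : ℤ) ^ (i + 1)) ^ 2 + (q : ℤ) ^ 2 * (q : ℤ) ^ (i + 1)) :
    minusB q (i + 1) ≤ minusB q i + L := by
  have hD : 0 < q ^ 2 - 1 := by
    have : 2 ^ 2 ≤ q ^ 2 := Nat.pow_le_pow_left hq 2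
    omega
  rw [minusB, minusB, ← Nat.add_mul_div_right _ _ hD]
  refine Nat.div_le_div_right ?_
  rw [← Int.ofNat_le]
  push_cast [Nat.cast_sub (Nat.le_self_pow (show i + 3 ≠ 0 by omega) q),
    Nat.cast_sub (Nat.le_self_pow (show i + 1 + 3 ≠ 0 by omega) q),
    Nat.cast_sub (Nat.one_le_pow 2 q (by omega))]
  rw [hL]
  have h : (0:ℤ) ≤ ((q:ℤ) ^ 2 - 1) * ((q:ℤ) ^ 4 * (q:ℤ) ^ i) := by
    have : (1:ℤ) ≤ (q:ℤ) ^ 2 := one_le_pow₀ (by omega)
    exact mul_nonneg (by omega) (by positivity)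
  linear_combination h

theorem level_minus_ne (hab : BinAniso a b) {c : F} (hc : c ≠ 0) (m : ℕ) :
    (level (hypSum m (binForm a b)) c : ℤ) =
      (Fintype.card F : ℤ) * ((Fintype.card F : ℤ) ^ m) ^ 2 + (Fintype.card F : ℤ) ^ m := by
  have h := level_hypSum (Q := binForm a b) c m
  rw [hab.level_eq hc, Nat.card_prod, Nat.card_eq_fintype_card (α := F)] at h
  have h' : (Fintype.card F : ℤ) * level (hypSum m (binForm a b)) c +
      (Fintype.card F : ℤ) ^ m * ((Fintype.card F : ℤ) * Fintype.card F) =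
      (Fintype.card F : ℤ) ^ (2 * m) * ((Fintype.card F : ℤ) * Fintype.card F) +
        (Fintype.card F : ℤ) ^ (m + 1) * ((Fintype.card F : ℤ) + 1) := by exact_mod_cast h
  apply mul_left_cancel₀ (Nat.cast_ne_zero.2 (Fintype.card_ne_zero (α := F)) :
    (Fintype.card F : ℤ) ≠ 0)
  linear_combination h'

theorem level_minus_zero (hab : BinAniso a b) (m : ℕ) :
    (level (hypSum m (binForm a b)) 0 : ℤ) =
      (Fintype.card F : ℤ) * ((Fintype.card F : ℤ) ^ m) ^ 2 -
        (Fintype.card F : ℤ) * (Fintype.card F : ℤ) ^ m + (Fintype.card F : ℤ) ^ m := by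
  have h := level_minus hab m
  rw [Nat.card_eq_fintype_card] at h
  have h' : (Fintype.card F : ℤ) * level (hypSum m (binForm a b)) 0 +
      (Fintype.card F : ℤ) ^ (m + 2) = (Fintype.card F : ℤ) ^ (2 * m + 2) +
        (Fintype.card F : ℤ) ^ (m + 1) := by exact_mod_cast h
  apply mul_left_cancel₀ (Nat.cast_ne_zero.2 (Fintype.card_ne_zero (α := F)) :
    (Fintype.card F : ℤ) ≠ 0)
  linear_combination h'

theorem diffTop_minus (hab : BinAniso a b) : ∀ j : ℕ,
    ⁅eichGroup (hyp (hypSum j (binForm a b))), eichGroup (hyp (hypSum j (binForm a b)))⁆ =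
      eichGroup (hyp (hypSum j (binForm a b)))
  | 0 => by
      rw [← eichGroup_map (hypCongr (hypSumZero (binForm a b)).symm), ← Subgroup.map_commutator,
        eichGroup_perfect_of_diff hab.polarND (diffTop_binForm hab)]
  | i + 1 => eichGroup_perfect_of_diff (hab.polarND.hypSum (i + 1))
      (diffTop_of_iso (hypSumSucc (binForm a b) i) (hab.polarND.hypSum i)
        (exists_hypSum_ne_zero i (Or.inr (exists_binForm_ne_zero a b))))

set_option maxHeartbeats 1600000 in
-- one long case analysis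
/-- the bound for small fields -/
theorem small_minus (hab : BinAniso a b) (hq : Fintype.card F ≤ 3) :
    ∀ (j d : ℕ) [Fintype (GG (hypSum j (binForm a b)))]
      (τ : GG (hypSum j (binForm a b)) →* GL (Fin d) ℂ),
      (∀ y, (∀ g, ap τ g y = y) → y = 0) → 1 ≤ d → minusB (Fintype.card F) j ≤ d := by
  intro j
  induction j using Nat.strong_induction_on with
  | _ j IH =>
  intro d _ τ hfix hd
  have hexQ : ∃ v, binForm a b v ≠ 0 := exists_binForm_ne_zero a b
  have S : Setup (hypSum j (binForm a b)) := setup_hypSum hab.polarND hab.reflGroup_eq_top j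
    (Or.inr hexQ) (fun h2 => hbase_binForm hab h2)
  haveI : Fintype (W₂ F (((Fin j → F) × (Fin j → F)) × (F × F))) := Fintype.ofFinite _
  obtain ⟨num⟩ : Nonempty (SchemeNum (hypSum j (binForm a b)) (minusB (Fintype.card F) j)) :=
    schemeNum_minus hab j
  obtain ⟨ψ, hψ⟩ := exists_primitive_char F
  -- numbers
  have hq2 : 2 ≤ Fintype.card F := Fintype.one_lt_card
  obtain ⟨q, hqd⟩ : ∃ q : ℤ, q = Fintype.card F := ⟨_, rfl⟩
  obtain ⟨y, hy⟩ : ∃ y : ℤ, y = q ^ j := ⟨_, rfl⟩
  have hy1 : 1 ≤ y := by rw [hy]; exact one_le_pow₀ (by omega)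
  have hBn : (minusB (Fintype.card F) j : ℤ) * (q ^ 2 - 1) ≤ (q ^ 4 * y + 1) * (q ^ 3 * y - q) := by
    rw [hy, hqd]; exact minusB_cast hq2 j
  have hL : ∀ c : F, c ≠ 0 → (level (P₂ (hypSum j (binForm a b))) c : ℤ) =
      q ^ 5 * y ^ 2 + q ^ 2 * y := fun c hc => by
    rw [← level_congr (hypSumTwo (binForm a b) j), level_minus_ne hab hc, hy, hqd]; ring
  have hL0 : (level (P₂ (hypSum j (binForm a b))) 0 : ℤ) =
      q ^ 5 * y ^ 2 - q ^ 3 * y + q ^ 2 * y := by
    rw [← level_congr (hypSumTwo (binForm a b) j), level_minus_zero hab, hy, hqd]; ring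
  have hl : ∀ c : F, c ≠ 0 → (level (hyp (hypSum j (binForm a b))) c : ℤ) =
      q ^ 3 * y ^ 2 + q * y := fun c hc => by
    rw [← level_congr (hypSumSucc (binForm a b) j), level_minus_ne hab hc, hy, hqd]; ring
  have hl0 : (level (hyp (hypSum j (binForm a b))) 0 : ℤ) =
      q ^ 3 * y ^ 2 - q ^ 2 * y + q * y := by
    rw [← level_congr (hypSumSucc (binForm a b) j), level_minus_zero hab, hy, hqd]; ring
  have hq23 : q = 2 ∨ q = 3 := by omega
  have hk : ∀ P : QuadraticForm F (W₂ F (((Fin j → F) × (Fin j → F)) × (F × F))),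
      P = P₂ (hypSum j (binForm a b)) →
      Nat.card {u // P u = 0 ∧ u ≠ 0} + 1 = level P 0 := by
    intro P _
    have h3 := card_nonzero_singular P
    have := level_pos_zero P
    omega
  have hk0 : (Nat.card {u // P₂ (hypSum j (binForm a b)) u = 0 ∧ u ≠ 0} : ℤ) =
      q ^ 5 * y ^ 2 - q ^ 3 * y + q ^ 2 * y - 1 := by
    rw [← hL0, ← hk _ rfl]; push_cast; ring
  have hsum : ∀ (p₀ p₁ : W₂ F (((Fin j → F) × (Fin j → F)) × (F × F)) → Prop),
      (∀ u, p₀ u → ¬ p₁ u) → Nat.card {u // p₀ u ∨ p₁ u} =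
        Nat.card {u // p₀ u} + Nat.card {u // p₁ u} := by
    intro p₀ p₁ h
    rw [← Nat.card_sum]
    refine Nat.card_congr (subtypeOrEquiv _ _ ?_)
    rw [disjoint_iff_inf_le]
    rintro u ⟨h1, h2⟩
    exact h u h1 h2
  by_cases han : ∃ v, P₂ (hypSum j (binForm a b)) v ≠ 0 ∧ 1 ≤ Module.finrank ℂ (Ev τ ψ v)
  · obtain ⟨v, hc, hv⟩ := han
    have hv0 : v ≠ 0 := fun h => hc (by rw [h, QuadraticMap.map_zero])
    obtain ⟨c, hcd⟩ : ∃ c, c = P₂ (hypSum j (binForm a b)) v := ⟨_, rfl⟩
    rw [← hcd] at hc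
    have hne : ∀ u, P₂ (hypSum j (binForm a b)) u = c → u ≠ 0 := fun u hu e =>
      hc (by rw [← hu, e, QuadraticMap.map_zero])
    have hC : ∀ u, P₂ (hypSum j (binForm a b)) u = c →
        Module.finrank ℂ (Ev τ ψ v) ≤ Module.finrank ℂ (Ev τ ψ u) := fun u hu =>
      finrank_Ev_move S hv0 (hne u hu) (hcd.symm.trans hu.symm)
    have hLc := hL c hc
    rw [level] at hLc
    by_cases h2 : 2 ≤ Module.finrank ℂ (Ev τ ψ v)
    · have h := card_mul_le (τ := τ) S hψ (fun u => P₂ (hypSum j (binForm a b)) u = c) 2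
        (fun u hu => h2.trans (hC u hu))
      have hB : (minusB (Fintype.card F) j : ℤ) ≤ 2 * (q ^ 5 * y ^ 2 + q ^ 2 * y) :=
        le_of_num (by omega) hBn (by rcases hq23 with e | e <;> rw [e] <;> nlinarith)
      omega
    by_cases hother : ∃ v', v' ≠ 0 ∧ P₂ (hypSum j (binForm a b)) v' ≠ c ∧
        1 ≤ Module.finrank ℂ (Ev τ ψ v')
    · obtain ⟨v', hv'0, hv'c, hv'⟩ := hother
      by_cases h0 : P₂ (hypSum j (binForm a b)) v' = 0
      · have h := card_mul_le (τ := τ) S hψ (fun u => P₂ (hypSum j (binForm a b)) u = c ∨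
          (P₂ (hypSum j (binForm a b)) u = 0 ∧ u ≠ 0)) 1 (fun u hu => by
          rcases hu with hu | hu
          · exact hv.trans (hC u hu)
          · exact hv'.trans (finrank_Ev_move S hv'0 hu.2 (h0.trans hu.1.symm)))
        rw [hsum _ _ (fun u h1 h2 => hc (h1.symm.trans h2.1))] at h
        have hB : (minusB (Fintype.card F) j : ℤ) ≤
            (q ^ 5 * y ^ 2 + q ^ 2 * y) + (q ^ 5 * y ^ 2 - q ^ 3 * y + q ^ 2 * y - 1) :=
          le_of_num (by omega) hBn (by rcases hq23 with e | e <;> rw [e] <;> nlinarith)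
        omega
      · have h := card_mul_le (τ := τ) S hψ (fun u => P₂ (hypSum j (binForm a b)) u = c ∨
          P₂ (hypSum j (binForm a b)) u = P₂ (hypSum j (binForm a b)) v') 1 (fun u hu => by
          rcases hu with hu | hu
          · exact hv.trans (hC u hu)
          · exact hv'.trans (finrank_Ev_move S hv'0
              (fun e => h0 (by rw [← hu, e, QuadraticMap.map_zero])) hu.symm))
        rw [hsum _ _ (fun u h1 h2 => hv'c (h2.symm.trans h1))] at h
        have hL' := hL _ h0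
        rw [level] at hL'
        have hB : (minusB (Fintype.card F) j : ℤ) ≤
            (q ^ 5 * y ^ 2 + q ^ 2 * y) + (q ^ 5 * y ^ 2 + q ^ 2 * y) :=
          le_of_num (by omega) hBn (by rcases hq23 with e | e <;> rw [e] <;> nlinarith)
        omega
    push Not at hother
    have hdeg : Nat.card {u // P₂ (hypSum j (binForm a b)) u = c} +
        Module.finrank ℂ (Ev τ ψ 0) ≤ d := by
      refine le_trans ?_ (sum_finrank_le τ S hψ (insert 0
        (Finset.univ.filter fun u => P₂ (hypSum j (binForm a b)) u = c)))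
      rw [Finset.sum_insert (by simp [Ne.symm hc]), add_comm, add_le_add_iff_left,
        Nat.card_eq_fintype_card, Fintype.card_subtype, Finset.card_eq_sum_ones]
      exact Finset.sum_le_sum fun u hu => hv.trans (hC u (Finset.mem_filter.1 hu).2)
    rcases j with _ | i
    · have hB : (minusB (Fintype.card F) 0 : ℤ) ≤ q ^ 5 * y ^ 2 + q ^ 2 * y :=
        le_of_num (by omega) hBn (by
          rw [hy, pow_zero]; rcases hq23 with e | e <;> rw [e] <;> norm_num)
      omega
    · rcases fixed_or_rep τ ψ with ⟨x, hx, hxE, hxL⟩ | h0 | ⟨f, σ, hf, hf1, hσ⟩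
      · exact fixed_bound τ S num hfix hx hxE hxL
      · exfalso
        refine no_single_aniso (τ := τ) S hψ ?_ ?_ hc (fun u hu => ?_) (fun u hu => ?_)
        · rw [card_hypSum_space, Nat.card_prod, Nat.card_eq_fintype_card (α := F)]
          calc Fintype.card F ^ 2 = 1 * (Fintype.card F * Fintype.card F) := by ring
            _ < _ := Nat.mul_lt_mul_of_pos_right (Nat.one_lt_pow (by omega) hq2) (by positivity)
        · intro l hl
          have hu := FiniteField.pow_card_sub_one_eq_one l hl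
          rcases (show Fintype.card F = 2 ∨ Fintype.card F = 3 by omega) with e | e <;>
            rw [e] at hu
          · simp only [Nat.add_one_sub_one, pow_one] at hu; rw [hu, one_mul]
          · simpa [pow_two] using hu
        · have := hv.trans (hC u hu)
          have := finrank_Ev_move (τ := τ) (ψ := ψ) S (hne u hu) hv0 (hu.trans hcd)
          omega
        · by_cases hu0 : u = 0
          · rw [hu0]; exact h0
          · have := hother u hu0 hu; omega
      · let e : (Q₃ (hypSum i (binForm a b))).IsometryEquiv (P₂ (hypSum (i + 1) (binForm a b))) :=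
          (hypSumThree (binForm a b) i).symm.trans (hypSumTwo (binForm a b) (i + 1))
        let eg : GG (hypSum i (binForm a b)) ≃* ↥(eichGroup (P₂ (hypSum (i + 1) (binForm a b)))) :=
          ((orthCongr e).subgroupMap _).trans (MulEquiv.subgroupCongr (eichGroup_map e))
        haveI : Fintype (GG (hypSum i (binForm a b))) := Fintype.ofFinite _
        have hi := IH i (Nat.lt_succ_self i) f (σ.comp eg.toMonoidHom)
          (fun z hz => hσ z fun r => by
            have h := hz (eg.symm r)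
            simpa [ap] using h) hf1
        rw [← Nat.card_eq_fintype_card] at hqd
        have hB := minusB_succ hq2 i (L := Nat.card {u // P₂ (hypSum (i + 1) (binForm a b)) u = c})
          (by rw [hLc, hy, hqd, Nat.card_eq_fintype_card])
        omega
  · push Not at han
    obtain ⟨v, hv0, hv⟩ : ∃ v : W₂ F (((Fin j → F) × (Fin j → F)) × (F × F)),
        v ≠ 0 ∧ 1 ≤ Module.finrank ℂ (Ev τ ψ v) := by
      obtain ⟨w, hw⟩ := exists_EE_ne_one τ S hfix hd
      obtain ⟨χ, hχ, hχw⟩ := Cx.exists_proj_ne (RE_zero τ) (RE_add τ) hw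
      obtain ⟨v, rfl⟩ := chr_surjective S hψ χ
      refine ⟨v, ?_, Submodule.one_le_finrank_iff.2 (Cx.eig_ne_bot hχ)⟩
      rintro rfl
      exact hχw (by rw [chr_apply, polar_zero_left, AddChar.map_zero_eq_one])
    have hP0 : P₂ (hypSum j (binForm a b)) v = 0 := by
      by_contra hc
      have := han v hc
      omega
    by_cases h2 : 2 ≤ Module.finrank ℂ (Ev τ ψ v)
    · have h := card_mul_le (τ := τ) S hψ
        (fun u => P₂ (hypSum j (binForm a b)) u = 0 ∧ u ≠ 0) 2
        (fun u hu => h2.trans (finrank_Ev_move S hv0 hu.2 (hP0.trans hu.1.symm)))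
      have hB : (minusB (Fintype.card F) j : ℤ) ≤
          2 * (q ^ 5 * y ^ 2 - q ^ 3 * y + q ^ 2 * y - 1) :=
        le_of_num (by omega) hBn (by rcases hq23 with e | e <;> rw [e] <;> nlinarith)
      omega
    have hone : ∀ u, P₂ (hypSum j (binForm a b)) u = 0 → u ≠ 0 →
        Module.finrank ℂ (Ev τ ψ u) = 1 := by
      intro u hu hu0
      have h3 := finrank_Ev_move (τ := τ) (ψ := ψ) S hv0 hu0 (hP0.trans hu.symm)
      have h4 := finrank_Ev_move (τ := τ) (ψ := ψ) S hu0 hv0 (hu.trans hP0.symm)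
      omega
    obtain ⟨p₁, hp₁⟩ : ∃ p₁, p₁ = level (hyp (hypSum j (binForm a b))) 0 +
        (Fintype.card F - 1) * level (hyp (hypSum j (binForm a b))) 1 := ⟨_, rfl⟩
    refine isotropic_case τ S num hψ (diffTop_minus hab j) p₁
      (fun η hη => hp₁ ▸ card_perp_le' S ?_ (fun c hc => ?_) hη) ?_ hfix hone han
    · rw [← Int.ofNat_le, hl0, hl 1 one_ne_zero]
      nlinarith [mul_nonneg (sq_nonneg q) (show (0:ℤ) ≤ y by omega)]
    · rw [← Int.ofNat_le, hl c hc, hl 1 one_ne_zero]
    · have e1 : (p₁ : ℤ) = q ^ 4 * y ^ 2 := by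
        rw [hp₁, Nat.cast_add, Nat.cast_mul, Nat.cast_sub (Fintype.card_pos (α := F)), hl0,
          hl 1 one_ne_zero, hqd]
        push_cast
        ring
      have key : (q : ℤ) * ((p₁ : ℤ) - 1) < q * ((level (P₂ (hypSum j (binForm a b))) 0 : ℤ) - 1) -
          2 * (q - 1) * (q * (level (hyp (hypSum j (binForm a b))) 0 : ℤ) - 1) := by
        rw [e1, hL0, hl0]
        rcases hq23 with e | e <;> rw [e] <;> nlinarith
      rw [hqd] at key
      exact_mod_cast key

/-- an irreducible representation has no fixed vector -/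
theorem eq_zero_of_fixed {G : Type*} [Group G] {k : ℕ} (ρ : Representation ℂ G (Fin k → ℂ))
    (hρ : ρ.IsIrreducible) (hk : 2 ≤ k) {y : Fin k → ℂ} (hy : ∀ g, ρ g y = y) : y = 0 := by
  by_contra hy0
  haveI : IsSimpleOrder (Subrepresentation ρ) := hρ
  let T : Subrepresentation ρ := ⟨ℂ ∙ y, fun g w hw => by
    obtain ⟨c, rfl⟩ := Submodule.mem_span_singleton.mp hw
    rw [map_smul, hy]
    exact Submodule.smul_mem _ _ (Submodule.mem_span_singleton_self y)⟩
  rcases IsSimpleOrder.eq_bot_or_eq_top T with h | h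
  · apply hy0
    have h1 : y ∈ T.toSubmodule := Submodule.mem_span_singleton_self y
    rw [h] at h1
    exact (Submodule.mem_bot ℂ).mp h1
  · have h1 : Module.finrank ℂ T.toSubmodule ≤ 1 := (finrank_span_singleton hy0).le
    rw [h] at h1
    change Module.finrank ℂ (⊤ : Submodule ℂ (Fin k → ℂ)) ≤ 1 at h1
    rw [finrank_top, Module.finrank_fin_fun] at h1
    omega

/-- minus type over the fields with two and three elements -/
theorem bound_minus_small (hab : BinAniso a b) (hq : Fintype.card F ≤ 3) (j : ℕ) {k : ℕ}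
    {G : Type*} [Group G] (φ : G ≃* orth (hypSum (j + 3) (binForm a b)))
    (ρ : Representation ℂ ↥(commutator G) (Fin k → ℂ)) (hρ : ρ.IsIrreducible) (hk : 2 ≤ k) :
    minusB (Fintype.card F) j ≤ k := by
  let ψ : G ≃* orth (Q₃ (hypSum j (binForm a b))) :=
    φ.trans (orthCongr (hypSumThree (binForm a b) j))
  have hexQ : ∃ v, binForm a b v ≠ 0 := exists_binForm_ne_zero a b
  have S : Setup (hypSum j (binForm a b)) := setup_hypSum hab.polarND hab.reflGroup_eq_top j
    (Or.inr hexQ) (fun h2 => hbase_binForm hab h2)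
  have hc : commutator (orth (Q₃ (hypSum j (binForm a b)))) = eichGroup (Q₃ (hypSum j (binForm a b))) :=
    commutator_eq_eichGroup S.polarND.hyp S.exW₁
      (elemGroup_congr (hypSumThree (binForm a b) j) (elemGroup_hypSum hab.polarND.nonsing
        (elemGroup_of_refl hab.reflGroup_eq_top) (j + 3)))
  have hmap : (commutator G).map ψ.toMonoidHom = eichGroup (Q₃ (hypSum j (binForm a b))) := by
    rw [← hc, commutator_def, Subgroup.map_commutator,
      Subgroup.map_top_of_surjective _ ψ.surjective, commutator_def]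
  let e : ↥(commutator G) ≃* GG (hypSum j (binForm a b)) :=
    (ψ.subgroupMap (commutator G)).trans (MulEquiv.subgroupCongr hmap)
  haveI : Fintype (GG (hypSum j (binForm a b))) := Fintype.ofFinite _
  refine small_minus hab hq j k ((toGLHom ρ).comp e.symm.toMonoidHom)
    (fun y hy => eq_zero_of_fixed ρ hρ hk fun g => ?_) (by omega)
  have h := hy (e g)
  simp [ap, toGLHom] at h
  rwa [show LinearMap.toMatrixAlgEquiv' (ρ g) = LinearMap.toMatrix' (ρ g) from rfl,
    LinearMap.toMatrix'_mulVec] at h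

end minus

end Cfsg.Agent.CrossChar56.OrthDeg
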