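import Cfsg.Agent.CrossChar56.OrthDeg.Group

/-!
Stabilisers of singular vectors and hyperbolic pairs in the Eichler group.
-/

set_option autoImplicit false

namespace Cfsg.Agent.CrossChar56.OrthDeg

open QuadraticMap
open Cfsg.Agent.UnitaryOrthogonal

variable {F W : Type*} [Field F] [AddCommGroup W] [Module F W] {P : QuadraticForm F W}

/-- transitivity of the Eichler group on non-zero vectors of given value -/
def Trans {V : Type*} [AddCommGroup V] [Module F V] (Q : QuadraticForm F V) : Prop :=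
  ∀ a b : V, a ≠ 0 → b ≠ 0 → Q a = Q b → ∃ g ∈ eichGroup Q, g.1 a = b

theorem fVec_ne_zero : fVec F W ≠ 0 := by simp [fVec, Prod.ext_iff]

theorem Trans.exists_map_pair {V : Type*} [AddCommGroup V] [Module F V] {Q : QuadraticForm F V}
    (h : Trans Q) {u v u' v' : V} (hu : Q u = 0) (hv : Q v = 0) (huv : polar Q u v = 1)
    (hu' : Q u' = 0) (hv' : Q v' = 0) (huv' : polar Q u' v' = 1) :
    ∃ g ∈ eichGroup Q, g.1 u = u' ∧ g.1 v = v' := by
  have hu0 : u ≠ 0 := by rintro rfl; simp at huv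
  have hu0' : u' ≠ 0 := by rintro rfl; simp at huv'
  obtain ⟨g, hg, hgu⟩ := h u u' hu0 hu0' (hu.trans hu'.symm)
  obtain ⟨e1, e2⟩ := eich_sub_apply (Q := Q) (u := u') (v := g.1 v) (v' := v') hu'
    (by rw [map_form, hv]) hv' (by rw [← hgu, map_polar, huv]) huv'
  exact ⟨eich Q u' (v' - g.1 v) * g, mul_mem (eich_mem_eichGroup _ _) hg,
    by rw [coe_mul_apply, hgu, e1], by rw [coe_mul_apply, e2]⟩

variable (P) in
/-- `O(P) → O(hyp P) / Ω(hyp P)` is surjective with kernel `Ω(P)` when the indices agree -/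
theorem mem_of_emb_mem [Finite F] [Finite W] (hT : Trans (hyp P))
    (hidx : (eichGroup P).index ≤ (eichGroup (hyp P)).index) {r : orth P}
    (hr : emb r ∈ eichGroup (hyp P)) : r ∈ eichGroup P := by
  let φ : orth P →* orth (hyp P) ⧸ eichGroup (hyp P) :=
    (QuotientGroup.mk' (eichGroup (hyp P))).comp emb
  have hsurj : Function.Surjective φ := by
    intro x
    obtain ⟨g, rfl⟩ := QuotientGroup.mk'_surjective (eichGroup (hyp P)) x
    obtain ⟨s, hs, hse, hsf⟩ := hT.exists_map_pair hyp_eVec hyp_fVec polar_eVec_fVec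
      (u' := g.1 (eVec F W)) (v' := g.1 (fVec F W)) (by rw [map_form, hyp_eVec])
      (by rw [map_form, hyp_fVec]) (by rw [map_polar, polar_eVec_fVec])
    obtain ⟨k, hk⟩ := exists_emb_of_fix (g := s⁻¹ * g)
      (by rw [coe_mul_apply, ← hse, coe_inv_apply_apply])
      (by rw [coe_mul_apply, ← hsf, coe_inv_apply_apply])
    refine ⟨k, ?_⟩
    show QuotientGroup.mk (emb k) = QuotientGroup.mk g
    rw [hk, QuotientGroup.eq, _root_.mul_inv_rev, inv_inv, mul_assoc]
    exact eichGroup_normal.conj_mem' s hs g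
  have hle : eichGroup P ≤ φ.ker := fun x hx => (QuotientGroup.eq_one_iff _).2 (emb_mem hx)
  have hk : φ.ker.index = (eichGroup (hyp P)).index := by
    rw [Subgroup.index_ker, MonoidHom.range_eq_top.2 hsurj, Subgroup.card_top, Subgroup.index_eq_card]
  have heq : eichGroup P = φ.ker := by
    refine Subgroup.eq_of_le_of_card_ge hle ?_
    have h1 := Subgroup.index_mul_card (eichGroup P)
    have h2 := Subgroup.index_mul_card φ.ker
    rw [hk] at h2
    have h3 : (eichGroup (hyp P)).index * Nat.card φ.ker ≤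
        (eichGroup (hyp P)).index * Nat.card (eichGroup P) := by
      rw [h2, ← h1]
      exact Nat.mul_le_mul_right _ hidx
    exact Nat.le_of_mul_le_mul_left h3
      (Nat.pos_of_ne_zero (Subgroup.index_ne_zero_of_finite (H := eichGroup (hyp P))))
  rw [heq]
  exact (QuotientGroup.eq_one_iff _).2 hr

variable [Finite F] [Finite W]
variable (hT : Trans (hyp P)) (hidx : (eichGroup P).index ≤ (eichGroup (hyp P)).index)
include hT hidx

omit hT hidx [Finite F] [Finite W] in
theorem exists_ee_of_fix_eVec {g : orth (hyp P)} (he : g.1 (eVec F W) = eVec F W) :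
    ∃ w, ((ee P w)⁻¹ * g).1 (eVec F W) = eVec F W ∧ ((ee P w)⁻¹ * g).1 (fVec F W) = fVec F W := by
  obtain ⟨v, hv⟩ : ∃ v, g.1 (fVec F W) = v := ⟨_, rfl⟩
  have hvy : v.1.2 = 1 := by
    rw [← polar_eVec (Q := P) v, ← hv]
    conv_lhs => arg 2; rw [← he]
    rw [map_polar, polar_eVec_fVec]
  have hvQ : hyp P v = 0 := by rw [← hv, map_form, hyp_fVec]
  refine ⟨v.2, ?_, ?_⟩
  · rw [coe_mul_apply, he, ← ee_neg, ee_apply]
    simp [eVec]
  · rw [coe_mul_apply, hv, ← ee_neg, ee_apply]
    obtain ⟨⟨x, y⟩, w⟩ := v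
    simp only at hvy
    subst hvy
    rw [hyp_apply] at hvQ
    simp [fVec, polar_self_eq] at hvQ ⊢
    linear_combination hvQ

/-- the stabiliser of `e` -/
theorem stab_eVec {g : orth (hyp P)} (hg : g ∈ eichGroup (hyp P))
    (he : g.1 (eVec F W) = eVec F W) :
    ∃ w, ∃ r ∈ eichGroup P, g = ee P w * emb r := by
  obtain ⟨w, h1, h2⟩ := exists_ee_of_fix_eVec he
  obtain ⟨r, hr⟩ := exists_emb_of_fix h1 h2
  exact ⟨w, r, mem_of_emb_mem P hT hidx (by rw [hr]; exact mul_mem (inv_mem (ee_mem _)) hg),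
    by rw [hr, mul_inv_cancel_left]⟩

/-- conjugation by an element preserving the two lines preserves the embedded group -/
theorem conj_emb_of_lines {g : orth (hyp P)} {l m : F} (hl : l ≠ 0) (hm : m ≠ 0)
    (he : g.1 (eVec F W) = l • eVec F W) (hf : g.1 (fVec F W) = m • fVec F W)
    {r : orth P} (hr : r ∈ eichGroup P) :
    ∃ r' ∈ eichGroup P, g * emb r * g⁻¹ = emb r' := by
  have key : ∀ {c : F} {v : (F × F) × W}, c ≠ 0 → g.1 v = c • v → (emb r).1 v = v →
      (g * emb r * g⁻¹).1 v = v := by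
    intro c v hc hv hrv
    have : g⁻¹.1 v = c⁻¹ • v := by
      apply g.1.injective
      rw [coe_apply_inv_apply, map_smul, hv, smul_smul, inv_mul_cancel₀ hc, one_smul]
    rw [coe_mul_apply, coe_mul_apply, this, map_smul, map_smul, hrv, hv, smul_smul,
      inv_mul_cancel₀ hc, one_smul]
  obtain ⟨r', hr'⟩ := exists_emb_of_fix (key hl he (emb_eVec r)) (key hm hf (emb_fVec r))
  refine ⟨r', mem_of_emb_mem P hT hidx ?_, hr'.symm⟩
  rw [hr']
  exact eichGroup_normal.conj_mem _ (emb_mem hr) g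

omit hidx [Finite F] [Finite W] in
/-- torus elements -/
theorem exists_scale {l : F} (hl : l ≠ 0) :
    ∃ g ∈ eichGroup (hyp P), g.1 (eVec F W) = l • eVec F W ∧
      g.1 (fVec F W) = l⁻¹ • fVec F W :=
  hT.exists_map_pair hyp_eVec hyp_fVec polar_eVec_fVec
    (by rw [form_smul, hyp_eVec, mul_zero]) (by rw [form_smul, hyp_fVec, mul_zero])
    (by rw [polar_smul_left, polar_smul_right, polar_eVec_fVec, smul_eq_mul, smul_eq_mul, mul_one,
      mul_inv_cancel₀ hl])

omit hidx [Finite F] [Finite W] in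
/-- the element exchanging `e` and `f` -/
theorem exists_swap :
    ∃ g ∈ eichGroup (hyp P), g.1 (eVec F W) = fVec F W ∧ g.1 (fVec F W) = eVec F W :=
  hT.exists_map_pair hyp_eVec hyp_fVec polar_eVec_fVec hyp_fVec hyp_eVec
    (by rw [polar_comm, polar_eVec_fVec])

end Cfsg.Agent.CrossChar56.OrthDeg
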