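import Cfsg.Agent.CrossChar56.OrthDeg.Eigen
import Cfsg.Agent.CrossChar56.OrthDeg.Perfect

/-!
Spinning a one-dimensional eigenspace of an isotropic character.
-/

set_option autoImplicit false

noncomputable section

namespace Cfsg.Agent.CrossChar56.OrthDeg

open QuadraticMap
open Cfsg.Agent.UnitaryOrthogonal
open scoped Classical Matrix
open scoped commutatorElement

variable {F U : Type*} [Field F] [Fintype F] [AddCommGroup U] [Module F U] [Finite U]
  {M : QuadraticForm F U} {d : ℕ} [Fintype (GG M)] [Fintype (W₂ F U)]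
  (τ : GG M →* GL (Fin d) ℂ) {ψ : AddChar F ℂ}

/-- `e` of the middle form -/
abbrev v₀ (F U : Type*) [Field F] [AddCommGroup U] : W₂ F U := eVec F (W₁ F U)

omit [Fintype F] [Finite U] [Fintype (GG M)] [Fintype (W₂ F U)] in
theorem ee_apply_fVec (P : QuadraticForm F U) (u : U) :
    (ee P u).1 (fVec F U) - fVec F U = ((-(P u), 0), u) := by
  rw [ee_apply]
  simp [fVec]

omit [Fintype F] [Finite U] [Fintype (GG M)] [Fintype (W₂ F U)] in
theorem commutator_fix {G : Type*} [Group G] {d : ℕ} (σ : G →* GL (Fin d) ℂ) {x : Fin d → ℂ}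
    (hx : x ≠ 0) {g h : G} (hg : ∃ c : ℂ, ap σ g x = c • x) (hh : ∃ c : ℂ, ap σ h x = c • x) :
    ap σ ⁅g, h⁆ x = x := by
  obtain ⟨c, hc⟩ := hg
  obtain ⟨e, he⟩ := hh
  have hc0 : c ≠ 0 := fun h => hx (ap_injective σ g (by rw [hc, h, zero_smul, ap_zero]))
  have he0 : e ≠ 0 := fun h' => hx (ap_injective σ h (by rw [he, h', zero_smul, ap_zero]))
  have hci : ap σ g⁻¹ x = c⁻¹ • x := by
    apply ap_injective σ g
    rw [← ap_mul, mul_inv_cancel, ap_one, ap_smul, hc, smul_smul, inv_mul_cancel₀ hc0, one_smul]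
  have hei : ap σ h⁻¹ x = e⁻¹ • x := by
    apply ap_injective σ h
    rw [← ap_mul, mul_inv_cancel, ap_one, ap_smul, he, smul_smul, inv_mul_cancel₀ he0, one_smul]
  rw [commutatorElement_def]
  simp only [ap_mul, hei, ap_smul, hci, he, hc, smul_smul]
  refine Eq.trans ?_ (one_smul ℂ x)
  congr 1
  field_simp

set_option maxHeartbeats 800000 in
-- coercions between nested subgroups
/-- the stabiliser of an isotropic character fixes its eigenvector -/
theorem stab_fix (S : Setup M)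
    (hperf : ⁅eichGroup (hyp M), eichGroup (hyp M)⁆ = eichGroup (hyp M)) {x₀ : Fin d → ℂ} (hx0 : x₀ ≠ 0)
    (hx : x₀ ∈ Ev τ ψ (v₀ F U)) (hline : ∀ z ∈ Ev τ ψ (v₀ F U), ∃ c : ℂ, z = c • x₀)
    (r : ↥(eichGroup (P₂ M))) (hr : r.1.1 (v₀ F U) = v₀ F U) : ap τ (LL M r) x₀ = x₀ := by
  obtain ⟨σ, hσ⟩ : ∃ σ : ↥(eichGroup (P₂ M)) →* GL (Fin d) ℂ, σ = τ.comp (LL M) := ⟨_, rfl⟩
  have hap : ∀ s, ap σ s x₀ = ap τ (LL M s) x₀ := fun s => by rw [hσ]; rfl
  have hscal : ∀ s : ↥(eichGroup (P₂ M)), s.1.1 (v₀ F U) = v₀ F U → ∃ c : ℂ, ap σ s x₀ = c • x₀ := by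
    intro s hs
    rw [hap]
    refine hline _ ?_
    have h := LL_mem_Ev τ ψ hx s
    rwa [hs] at h
  -- the embedded smaller group
  let ι : ↥(eichGroup (hyp M)) →* ↥(eichGroup (P₂ M)) :=
    { toFun := fun s => ⟨emb s.1, emb_mem s.2⟩
      map_one' := Subtype.ext (map_one emb)
      map_mul' := fun a b => Subtype.ext (map_mul emb a.1 b.1) }
  let H : Subgroup ↥(eichGroup (P₂ M)) :=
    { carrier := {s | ap σ s x₀ = x₀}
      one_mem' := ap_one σ x₀
      mul_mem' := fun {a b} ha hb => by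
        show ap σ (a * b) x₀ = x₀
        rw [ap_mul, hb, ha]
      inv_mem' := fun {a} ha => by
        show ap σ a⁻¹ x₀ = x₀
        nth_rewrite 1 [← show ap σ a x₀ = x₀ from ha]
        rw [ap_inv_ap] }
  have hιfix : ∀ s : ↥(eichGroup (hyp M)), (ι s).1.1 (v₀ F U) = v₀ F U := fun s => emb_eVec s.1
  have hι : ∀ s, ι s ∈ H := by
    have hperf : commutator ↥(eichGroup (hyp M)) = ⊤ := by
      apply Subgroup.map_injective (Subgroup.subtype_injective (eichGroup (hyp M)))
      rw [Subgroup.map_subtype_commutator, ← MonoidHom.range_eq_map, Subgroup.range_subtype]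
      exact hperf
    intro s
    have hle : commutator ↥(eichGroup (hyp M)) ≤ H.comap ι := by
      rw [commutator_def, Subgroup.commutator_le]
      intro a _ b _
      rw [Subgroup.mem_comap, map_commutatorElement]
      exact commutator_fix σ hx0 (hscal _ (hιfix a)) (hscal _ (hιfix b))
    exact hle (hperf ▸ Subgroup.mem_top s)
  -- translations
  let E : W₁ F U → ↥(eichGroup (P₂ M)) := fun z => ⟨ee (hyp M) z, ee_mem z⟩
  have hEfix : ∀ z, (E z).1.1 (v₀ F U) = v₀ F U := fun z => by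
    show (ee (hyp M) z).1 (eVec F (W₁ F U)) = _
    rw [ee_apply]
    simp [v₀, eVec]
  let A : AddSubgroup (W₁ F U) :=
    { carrier := {z | E z ∈ H}
      zero_mem' := by
        show E 0 ∈ H
        rw [show E 0 = 1 from Subtype.ext ee_zero]
        exact one_mem H
      add_mem' := fun {a b} ha hb => by
        show E (a + b) ∈ H
        rw [show E (a + b) = E a * E b from Subtype.ext (ee_add a b)]
        exact mul_mem ha hb
      neg_mem' := fun {a} ha => by
        show E (-a) ∈ H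
        rw [show E (-a) = (E a)⁻¹ from Subtype.ext (ee_neg a)]
        exact inv_mem ha }
  have hdiff : ∀ (s : ↥(eichGroup (hyp M))) (z : W₁ F U), s.1.1 z - z ∈ A := by
    intro s z
    show E (s.1.1 z - z) ∈ H
    have e : E (s.1.1 z - z) = ⁅ι s, E z⁆ := by
      apply Subtype.ext
      show ee (hyp M) (s.1.1 z - z) = ⁅emb s.1, ee (hyp M) z⁆
      rw [commutatorElement_def, conj_emb_ee, ← ee_neg, ← ee_add, sub_eq_add_neg]
    rw [e]
    exact commutator_fix σ hx0 (hscal _ (hιfix s)) (hscal _ (hEfix z))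
  have hA : ∀ z, z ∈ A := by
    intro z
    have hle : (⊤ : AddSubgroup (W₁ F U)) ≤ A := by
      rw [← closure_eich_diff S.polarND S.exNe, AddSubgroup.closure_le]
      rintro _ ⟨g, hg, x, rfl⟩
      exact hdiff ⟨g, hg⟩ x
    exact hle (AddSubgroup.mem_top z)
  obtain ⟨z, s, hs, e⟩ := S.stab₂ hr
  have : r = E z * ι ⟨s, hs⟩ := Subtype.ext e
  rw [← hap, this, ap_mul]
  have h1 : ap σ (ι ⟨s, hs⟩) x₀ = x₀ := hι _
  have h2 : ap σ (E z) x₀ = x₀ := hA z
  rw [h1, h2]

end Cfsg.Agent.CrossChar56.OrthDeg
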