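import Cfsg.Agent.CrossChar56.OrthDeg.Stab0

/-!
The vector spun up from an isotropic character, and the group at `f`.
-/

set_option autoImplicit false

noncomputable section

namespace Cfsg.Agent.CrossChar56.OrthDeg

open QuadraticMap
open Cfsg.Agent.UnitaryOrthogonal
open scoped Classical Matrix

theorem eich_swap {F V : Type*} [Field F] [AddCommGroup V] [Module F V] {Q : QuadraticForm F V} {u z : V}
    (hu : Q u = 0) (hz : Q z = 0) (h : polar Q u z = 0) : eich Q u z = eich Q z (-u) := by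
  refine orth_ext fun x => ?_
  rw [eich_apply hu h, eich_apply hz (by rw [polar_neg_right, polar_comm, h, neg_zero])]
  simp only [hz, hu, QuadraticMap.map_neg, polar_neg_left, polar_neg_right, zero_mul, mul_zero, sub_zero,
    zero_smul, smul_neg, neg_smul]
  module


variable {F U : Type*} [Field F] [Fintype F] [AddCommGroup U] [Module F U] [Finite U]
  {M : QuadraticForm F U} {d : ℕ} [Fintype (GG M)] [Fintype (W₂ F U)]
  (τ : GG M →* GL (Fin d) ℂ)

/-- one-dimensional eigenspaces for all isotropic characters, and no others -/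
structure Lines (ψ : AddChar F ℂ) where
  X : W₂ F U → Fin d → ℂ
  n : ℂ
  n_ne : n ≠ 0
  mem : ∀ v, P₂ M v = 0 → v ≠ 0 → X v ∈ Ev τ ψ v
  norm : ∀ v, P₂ M v = 0 → v ≠ 0 → herm τ (X v) (X v) = n
  equiv : ∀ (r : ↥(eichGroup (P₂ M))) v, P₂ M v = 0 → v ≠ 0 →
    ap τ (LL M r) (X v) = X (r.1.1 v)
  line : ∀ v, P₂ M v = 0 → v ≠ 0 → ∀ z ∈ Ev τ ψ v, ∃ c : ℂ, z = c • X v
  only : ∀ v, v ≠ 0 → P₂ M v ≠ 0 → ∀ z ∈ Ev τ ψ v, z = 0

variable {τ} {ψ : AddChar F ℂ} (L : Lines τ ψ)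

/-- the fibre of a linear form on the isotropic vectors -/
def fib (b : W₂ F U) (s : F) : Finset (W₂ F U) :=
  Finset.univ.filter fun v => P₂ M v = 0 ∧ v ≠ 0 ∧ polar (P₂ M) v b = s

/-- sum over a fibre -/
def Ssum (b : W₂ F U) (s : F) : Fin d → ℂ := ∑ v ∈ fib (M := M) b s, L.X v

/-- sum over all isotropic vectors -/
def usum : Fin d → ℂ :=
  ∑ v ∈ Finset.univ.filter (fun v : W₂ F U => P₂ M v = 0 ∧ v ≠ 0), L.X v

theorem r_ne_zero (r : ↥(eichGroup (P₂ M))) {v : W₂ F U} (h : v ≠ 0) : r.1.1 v ≠ 0 :=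
  fun e => h (r.1.1.map_eq_zero_iff.1 e)

theorem sum_X_equiv (r : ↥(eichGroup (P₂ M))) (p q : W₂ F U → Prop)
    (hp : ∀ v, p v → P₂ M v = 0 ∧ v ≠ 0) (hpq : ∀ v, q (r.1.1 v) ↔ p v) :
    ap τ (LL M r) (∑ v ∈ Finset.univ.filter p, L.X v) = ∑ v ∈ Finset.univ.filter q, L.X v := by
  rw [ap_sum, Finset.sum_filter, Finset.sum_filter]
  refine Fintype.sum_equiv r.1.1.toEquiv _ _ fun v => ?_
  show _ = if q (r.1.1 v) then L.X (r.1.1 v) else 0
  by_cases hv : p v
  · rw [if_pos hv, if_pos ((hpq v).2 hv), L.equiv r v (hp v hv).1 (hp v hv).2]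
  · rw [if_neg hv, if_neg (fun e => hv ((hpq v).1 e))]

theorem LL_usum (r : ↥(eichGroup (P₂ M))) : ap τ (LL M r) (usum L) = usum L :=
  by
  unfold usum
  convert sum_X_equiv L r (fun v => P₂ M v = 0 ∧ v ≠ 0) (fun v => P₂ M v = 0 ∧ v ≠ 0) (fun _ h => h)
    fun v => and_congr (by rw [map_form]) (not_congr r.1.1.map_eq_zero_iff) using 3
  all_goals (ext v; simp only [Finset.mem_filter])

theorem LL_Ssum (r : ↥(eichGroup (P₂ M))) {b : W₂ F U} (s : F) (hb : r.1.1 b = b) :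
    ap τ (LL M r) (Ssum L b s) = Ssum L b s := by
  unfold Ssum fib
  convert sum_X_equiv L r (fun v => P₂ M v = 0 ∧ v ≠ 0 ∧ polar (P₂ M) v b = s)
    (fun v => P₂ M v = 0 ∧ v ≠ 0 ∧ polar (P₂ M) v b = s) (fun v h => ⟨h.1, h.2.1⟩)
    (fun v => and_congr (by rw [map_form]) (and_congr (not_congr r.1.1.map_eq_zero_iff) (by
      conv_lhs => arg 1; arg 3; rw [← hb]
      rw [map_polar]))) using 3
  all_goals (ext v; simp only [Finset.mem_filter])

theorem Ssum_eigen {b : W₂ F U} {s : F} (t : F) :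
    ap τ (EE M (t • b)) (Ssum L b s) = ψ (t * s) • Ssum L b s := by
  rw [Ssum, ap_sum, Finset.smul_sum]
  refine Finset.sum_congr rfl fun v hv => ?_
  simp only [fib, Finset.mem_filter, Finset.mem_univ, true_and] at hv
  rw [(mem_Ev τ ψ).1 (L.mem v hv.1 hv.2.1), polar_smul_right, smul_eq_mul, hv.2.2]

variable (S : Setup M) (hψ : ψ.IsPrimitive)
include S hψ

theorem herm_X {v w : W₂ F U} (hv : P₂ M v = 0 ∧ v ≠ 0) (hw : P₂ M w = 0 ∧ w ≠ 0) :
    herm τ (L.X v) (L.X w) = if v = w then L.n else 0 := by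
  split_ifs with h
  · subst h; exact L.norm v hv.1 hv.2
  · exact herm_Ev τ S hψ h (L.mem v hv.1 hv.2) (L.mem w hw.1 hw.2)

theorem herm_sum_X (p q : W₂ F U → Prop) (hp : ∀ v, p v → P₂ M v = 0 ∧ v ≠ 0)
    (hq : ∀ v, q v → P₂ M v = 0 ∧ v ≠ 0) :
    herm τ (∑ v ∈ Finset.univ.filter p, L.X v) (∑ v ∈ Finset.univ.filter q, L.X v) =
      (Nat.card {v // p v ∧ q v} : ℂ) * L.n := by
  rw [herm_sum_left, Nat.card_eq_fintype_card, Fintype.card_subtype]
  have : ∀ v ∈ Finset.univ.filter p,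
      herm τ (L.X v) (∑ w ∈ Finset.univ.filter q, L.X w) = if q v then L.n else 0 := by
    intro v hv
    rw [herm_sum_right]
    refine (Finset.sum_congr rfl fun w (hw : w ∈ Finset.univ.filter q) =>
      herm_X L S hψ (hp v (Finset.mem_filter.1 hv).2) (hq w (Finset.mem_filter.1 hw).2)).trans ?_
    rw [Finset.sum_ite_eq]
    simp
  rw [Finset.sum_congr rfl this, ← Finset.sum_filter, Finset.filter_filter, Finset.sum_const,
    nsmul_eq_mul]

theorem herm_X_Ssum {b : W₂ F U} {s : F} {v : W₂ F U} (hv : v ∈ fib (M := M) b s) :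
    herm τ (L.X v) (Ssum L b s) = L.n := by
  simp only [fib, Finset.mem_filter, Finset.mem_univ, true_and] at hv
  rw [Ssum, herm_sum_right, Finset.sum_eq_single v]
  · exact L.norm v hv.1 hv.2.1
  · intro w hw hne
    simp only [fib, Finset.mem_filter, Finset.mem_univ, true_and] at hw
    rw [herm_X L S hψ ⟨hv.1, hv.2.1⟩ ⟨hw.1, hw.2.1⟩, if_neg hne.symm]
  · intro h
    exact absurd (Finset.mem_filter.2 ⟨Finset.mem_univ v, hv⟩ : v ∈ fib (M := M) b s) h

omit hψ in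
/-- the element exchanging the outer hyperbolic plane with the middle one -/
theorem exists_plane_swap :
    ∃ g : GG M, g.1.1 (eVec F (W₂ F U)) = inW (v₀ F U) ∧
      g.1.1 (fVec F (W₂ F U)) = inW (fVec F (W₁ F U)) ∧
      g.1.1 (inW (v₀ F U)) = eVec F (W₂ F U) ∧
      g.1.1 (inW (fVec F (W₁ F U))) = fVec F (W₂ F U) := by
  obtain ⟨g₀, hg₀, he, hf⟩ := S.trans₃.exists_map_pair (u := eVec F (W₂ F U)) (v := fVec F (W₂ F U))
    hyp_eVec hyp_fVec polar_eVec_fVec (u' := inW (v₀ F U)) (v' := inW (fVec F (W₁ F U)))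
    (by rw [hyp_inW, hyp_eVec]) (by rw [hyp_inW, hyp_fVec])
    (by rw [polar_hyp_inW, polar_eVec_fVec])
  obtain ⟨c, hc⟩ : ∃ c, g₀⁻¹.1 (eVec F (W₂ F U)) = c := ⟨_, rfl⟩
  obtain ⟨c', hc'⟩ : ∃ c', g₀⁻¹.1 (fVec F (W₂ F U)) = c' := ⟨_, rfl⟩
  have hgc : g₀.1 c = eVec F (W₂ F U) := by rw [← hc, coe_apply_inv_apply]
  have hgc' : g₀.1 c' = fVec F (W₂ F U) := by rw [← hc', coe_apply_inv_apply]
  have hin : ∀ x : W₃ F U, polar (Q₃ M) (inW (v₀ F U)) (g₀.1 x) = 0 →
      polar (Q₃ M) (inW (fVec F (W₁ F U))) (g₀.1 x) = 0 → x = inW x.2 := by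
    intro x h1 h2
    rw [← he, map_polar, polar_eVec] at h1
    rw [← hf, map_polar, polar_fVec] at h2
    exact Prod.ext (Prod.ext h2 h1) rfl
  have hce : c = inW c.2 := hin c
    (by rw [hgc, polar_comm, polar_eVec_inW]) (by rw [hgc, polar_comm, polar_eVec_inW])
  have hce' : c' = inW c'.2 := hin c'
    (by rw [hgc', polar_comm, polar_fVec_inW]) (by rw [hgc', polar_comm, polar_fVec_inW])
  obtain ⟨r, hr, hr1, hr2⟩ := S.trans₂.exists_map_pair (u := v₀ F U) (v := fVec F (W₁ F U))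
    hyp_eVec hyp_fVec polar_eVec_fVec (u' := c.2) (v' := c'.2)
    (by rw [← hyp_inW (P := P₂ M) c.2, ← hce, ← hc, map_form, hyp_eVec])
    (by rw [← hyp_inW (P := P₂ M) c'.2, ← hce', ← hc', map_form, hyp_fVec])
    (by rw [← polar_hyp_inW (P := P₂ M), ← hce, ← hce', ← hc, ← hc', map_polar, polar_eVec_fVec])
  refine ⟨⟨g₀, hg₀⟩ * LL M ⟨r, hr⟩, ?_, ?_, ?_, ?_⟩
  · show g₀.1 ((emb r).1 _) = _; rw [emb_eVec, he]
  · show g₀.1 ((emb r).1 _) = _; rw [emb_fVec, hf]
  · show g₀.1 (inW (r.1 (v₀ F U))) = _; rw [hr1, ← hce, hgc]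
  · show g₀.1 (inW (r.1 (fVec F (W₁ F U)))) = _; rw [hr2, ← hce', hgc']

/-- root elements at `f` fix the fibre sums of the standard isotropic vector -/
theorem FF_Ssum_v₀ {s : F} (hs : s ≠ 0) (t : F) :
    ap τ (FF M (t • v₀ F U)) (Ssum L (v₀ F U) s) = Ssum L (v₀ F U) s := by
  obtain ⟨g, hge, hgf, hge1, hgf1⟩ := exists_plane_swap S
  obtain ⟨w, hw⟩ : ∃ w, w = Ssum L (v₀ F U) s := ⟨_, rfl⟩
  obtain ⟨y, hy⟩ : ∃ y, y = ap τ g w := ⟨_, rfl⟩
  have h1 : ∀ a : F, g * EE M (a • v₀ F U) * g⁻¹ = EE M ((-a) • v₀ F U) := by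
    intro a
    apply Subtype.ext
    show g.1 * eich (Q₃ M) (eVec F (W₂ F U)) (inW (a • v₀ F U)) * g.1⁻¹ = eich (Q₃ M) _ _
    rw [conj_eich, hge, map_smul inW, map_smul, hge1, eich_swap (by rw [hyp_inW, hyp_eVec])
      (by rw [form_smul, hyp_eVec, mul_zero])
      (by rw [polar_smul_right, polar_comm, polar_eVec_inW, smul_zero])]
    rw [eich_smul_left hyp_eVec (by rw [polar_neg_right, polar_eVec_inW, neg_zero]), smul_neg,
      ← map_smul, ← map_neg, neg_smul]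
  have h2 : g * FF M (t • v₀ F U) * g⁻¹ = EE M ((-t) • fVec F (W₁ F U)) := by
    apply Subtype.ext
    show g.1 * eich (Q₃ M) (fVec F (W₂ F U)) (inW (t • v₀ F U)) * g.1⁻¹ = eich (Q₃ M) _ _
    rw [conj_eich, hgf, map_smul inW, map_smul, hge1, eich_swap (by rw [hyp_inW, hyp_fVec])
      (by rw [form_smul, hyp_eVec, mul_zero])
      (by rw [polar_smul_right, polar_comm, polar_eVec_inW, smul_zero])]
    rw [eich_smul_left hyp_eVec (by rw [polar_neg_right, polar_eVec_inW, neg_zero]), smul_neg,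
      ← map_smul, ← map_neg, neg_smul]
  have h3 : ∀ z : W₁ F U, ap τ (EE M (inW z)) y = y := by
    intro z
    have hz : g.1⁻¹.1 (inW (inW z)) = inW (inW ((g.1⁻¹.1 (inW (inW z))).2.2)) := by
      obtain ⟨x, hx⟩ : ∃ x, g.1⁻¹.1 (inW (inW z)) = x := ⟨_, rfl⟩
      have hgx : g.1.1 x = inW (inW z) := by rw [← hx, coe_apply_inv_apply]
      have a1 := map_polar g.1 (eVec F (W₂ F U)) x
      have a2 := map_polar g.1 (fVec F (W₂ F U)) x
      have a3 := map_polar g.1 (inW (v₀ F U)) x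
      have a4 := map_polar g.1 (inW (fVec F (W₁ F U))) x
      rw [hge, hgx, polar_hyp_inW, polar_eVec_inW, polar_eVec] at a1
      rw [hgf, hgx, polar_hyp_inW, polar_fVec_inW, polar_fVec] at a2
      rw [hge1, hgx, polar_eVec_inW] at a3
      rw [hgf1, hgx, polar_fVec_inW] at a4
      rw [hx]
      have hx2 : x = inW x.2 := Prod.ext (Prod.ext a2.symm a1.symm) rfl
      rw [hx2, polar_hyp_inW, polar_eVec] at a3
      rw [hx2, polar_hyp_inW, polar_fVec] at a4
      conv_lhs => rw [hx2]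
      congr 1
      exact Prod.ext (Prod.ext a4.symm a3.symm) rfl
    obtain ⟨z', hz'⟩ : ∃ z', z' = (g.1⁻¹.1 (inW (inW z))).2.2 := ⟨_, rfl⟩
    rw [← hz'] at hz
    have e : EE M (inW z) = g * LL M ⟨ee (hyp M) z', ee_mem _⟩ * g⁻¹ := by
      apply Subtype.ext
      show eich (Q₃ M) _ _ = g.1 * emb (eich (P₂ M) (eVec F (W₁ F U)) (inW z')) * g.1⁻¹
      rw [emb_eich hyp_eVec (polar_eVec_inW _)]
      show _ = g.1 * eich (Q₃ M) (inW (v₀ F U)) (inW (inW z')) * g.1⁻¹
      rw [conj_eich, hge1, ← hz, coe_apply_inv_apply]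
    rw [hy, e, ← ap_mul, inv_mul_cancel_right, ap_mul, hw, LL_Ssum]
    show (ee (hyp M) z').1 (eVec F (W₁ F U)) = _
    rw [ee_apply]
    simp [v₀, eVec]
  have h4 : ∀ a : F, ap τ (EE M (a • v₀ F U)) y = ψ ((-a) * s) • y := by
    intro a
    have e : EE M (a • v₀ F U) * g = g * EE M ((-a) • v₀ F U) := by
      have e' := mul_inv_eq_iff_eq_mul.1 (h1 (-a))
      rw [neg_neg] at e'
      exact e'.symm
    rw [hy, ← ap_mul, e, ap_mul, hw, Ssum_eigen, ap_smul]
  have key : ap τ (EE M ((-t) • fVec F (W₁ F U))) y = y := by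
    refine sub_eq_zero.1 (eq_zero_of_herm_Ev τ S hψ fun v p hp => ?_)
    rw [herm_sub_right, sub_eq_zero]
    have hp' := (mem_Ev τ ψ).1 hp
    obtain ⟨a, ha⟩ : ∃ a, a = (-t) • fVec F (W₁ F U) := ⟨_, rfl⟩
    rw [← ha]
    have hback : ap τ (EE M a) (ap τ (EE M (-a)) p) = p := by
      rw [← ap_mul, ← EE_add, add_neg_cancel, EE_zero, ap_one]
    have hmove : herm τ p (ap τ (EE M a) y) =
        star (ψ (polar (P₂ M) v (-a))) * herm τ p y := by
      conv_lhs => rw [← hback]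
      rw [herm_ap, hp', herm_smul_left]
    rw [hmove]
    by_cases hv : polar (P₂ M) v a = 0
    · rw [polar_neg_right, hv, neg_zero, AddChar.map_zero_eq_one, star_one, one_mul]
    suffices h0 : herm τ p y = 0 by rw [h0, mul_zero]
    by_contra h0
    apply hv
    have hs' : polar (P₂ M) v (v₀ F U) = -s := by
      by_contra hne
      obtain ⟨b, hb⟩ : ∃ b, ψ (b * polar (P₂ M) v (v₀ F U)) ≠ ψ ((-b) * s) := by
        by_contra hcon
        push Not at hcon
        exact hne (shift_inj hψ fun b => by rw [mul_comm, hcon]; congr 1; ring)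
      exact h0 (herm_eigen_eq_zero τ S hψ (fun b : F => b • v₀ F U)
        (fun b => ψ (b * polar (P₂ M) v (v₀ F U))) (fun b => ψ ((-b) * s))
        (fun b => by rw [hp', polar_smul_right, smul_eq_mul]) h4 (a := b) (star_mul_ne_one hb))
    have hz0 : v.2 = 0 := by
      refine S.polarND.hyp _ fun z => ?_
      by_contra hne
      obtain ⟨b, hb⟩ : ∃ b, ψ (b * polar (hyp M) v.2 z) ≠ 1 := by
        by_contra hcon
        push Not at hcon
        exact hne (shift_inj hψ (b := 0) fun b => by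
          rw [mul_comm, hcon, zero_mul, AddChar.map_zero_eq_one])
      apply h0
      refine herm_eigen_eq_zero τ S hψ (fun b : F => inW (b • z))
        (fun b => ψ (b * polar (hyp M) v.2 z)) (fun _ => 1)
        (fun b => ?_) (fun b => by rw [h3, one_smul]) (a := b) ?_
      · rw [hp', map_smul, polar_smul_right, smul_eq_mul]
        congr 2
        show b * polar (hyp (hyp M)) v (inW z) = _
        rw [polar_hyp]
        simp [inW_apply]
      · rw [mul_one]
        intro e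
        exact hb (by simpa using congrArg star e)
    have hv0 : v ≠ 0 := fun e => hs (by simpa [e] using hs'.symm)
    have hQ : P₂ M v = 0 := by
      by_contra hne
      exact h0 (by rw [L.only v hv0 hne p hp, herm_zero_left])
    rw [polar_comm, polar_eVec] at hs'
    have hxy : v = ((v.1.1, -s), 0) := Prod.ext (Prod.ext rfl hs') hz0
    rw [hxy, hyp_apply, QuadraticMap.map_zero, add_zero, mul_eq_zero, neg_eq_zero,
      or_iff_left hs] at hQ
    simp only at hQ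
    rw [ha, polar_smul_right, polar_comm, polar_fVec, hQ, smul_zero]
  apply ap_injective τ g
  rw [← hw, ← ap_mul, mul_inv_eq_iff_eq_mul.1 h2, ap_mul, ← hy, key]

/-- root elements at `f` in an isotropic direction fix the fibre sums -/
theorem FF_Ssum {b : W₂ F U} (hb : P₂ M b = 0) (hb0 : b ≠ 0)
    {s : F} (hs : s ≠ 0) (t : F) : ap τ (FF M (t • b)) (Ssum L b s) = Ssum L b s := by
  obtain ⟨r, hr, hrb⟩ := S.trans₂ (v₀ F U) b eVec_ne_zero hb0 (by rw [hyp_eVec, hb])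
  have hS : Ssum L b s = ap τ (LL M ⟨r, hr⟩) (Ssum L (v₀ F U) s) := by
    unfold Ssum fib
    symm
    convert sum_X_equiv L ⟨r, hr⟩ (fun v => P₂ M v = 0 ∧ v ≠ 0 ∧ polar (P₂ M) v (v₀ F U) = s)
      (fun v => P₂ M v = 0 ∧ v ≠ 0 ∧ polar (P₂ M) v b = s) (fun v h => ⟨h.1, h.2.1⟩)
      (fun v => and_congr (by rw [map_form]) (and_congr (not_congr r.1.map_eq_zero_iff) (by
        conv_lhs => arg 1; arg 3; rw [← hrb]
        rw [map_polar]))) using 3
    all_goals (ext v; simp only [Finset.mem_filter])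
  have e : FF M (t • b) * LL M ⟨r, hr⟩ = LL M ⟨r, hr⟩ * FF M (t • v₀ F U) := by
    have h := LL_conj_FF (M := M) ⟨r, hr⟩ (t • v₀ F U)
    rw [map_smul, hrb] at h
    rw [← h, inv_mul_cancel_right]
  rw [hS, ← ap_mul, e, ap_mul, FF_Ssum_v₀ L S hψ hs]

end Cfsg.Agent.CrossChar56.OrthDeg
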