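import Cfsg.Agent.CrossChar56.OrthDeg.Main

/-!
Multiplicities and traces on the eigenspaces of the radical.
-/

set_option autoImplicit false

noncomputable section

namespace Cfsg.Agent.CrossChar56.OrthDeg

open QuadraticMap
open Cfsg.Agent.UnitaryOrthogonal
open scoped Classical Matrix

variable {F U : Type*} [Field F] [Fintype F] [AddCommGroup U] [Module F U] [Finite U]
  {M : QuadraticForm F U} {d : ℕ} [Fintype (GG M)] [Fintype (W₂ F U)]
  (τ : GG M →* GL (Fin d) ℂ) {ψ : AddChar F ℂ}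

omit [Fintype F] [Finite U] [Fintype (GG M)] in
/-- trace of a projection -/
theorem trace_proj (χ : AddChar (W₂ F U) ℂ) : (Cx.proj (RE τ) χ).trace =
    (Fintype.card (W₂ F U) : ℂ) * Module.finrank ℂ (Cx.eig (RE τ) χ) := by
  have hc : (Fintype.card (W₂ F U) : ℂ) ≠ 0 := Nat.cast_ne_zero.2 Fintype.card_ne_zero
  obtain ⟨e, he⟩ : ∃ e, e = (Fintype.card (W₂ F U) : ℂ)⁻¹ • Cx.proj (RE τ) χ := ⟨_, rfl⟩
  have hproj : LinearMap.IsProj (Cx.eig (RE τ) χ) (Matrix.toLin' e) := by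
    refine ⟨fun x => LinearMap.mem_range.2 ⟨(Fintype.card (W₂ F U) : ℂ)⁻¹ • x, ?_⟩, fun x hx => ?_⟩
    · rw [Matrix.toLin'_apply, he, Matrix.mulVecLin_apply, Matrix.mulVec_smul, Matrix.smul_mulVec]
    · rw [Matrix.toLin'_apply, he, Matrix.smul_mulVec, (Cx.proj_mulVec_eig (RE_add τ) (χ := χ) hx).2,
        smul_smul, inv_mul_cancel₀ hc, one_smul]
  have h := hproj.trace
  rw [Matrix.trace_toLin'_eq, he, Matrix.trace_smul, smul_eq_mul] at h
  rw [← h, mul_inv_cancel_left₀ hc]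

variable (S : Setup M) (hψ : ψ.IsPrimitive)
include S hψ

omit [Fintype (GG M)] in
theorem sum_proj_matrix :
    ∑ v, Cx.proj (RE τ) (chr M ψ v) = (Fintype.card (W₂ F U) : ℂ) • (1 : Matrix (Fin d) (Fin d) ℂ) := by
  rw [Fintype.sum_bijective (chr M ψ) ⟨chr_injective S hψ, chr_surjective S hψ⟩ _
    (fun χ => Cx.proj (RE τ) χ) (fun v => rfl), Cx.sum_proj, RE_zero]

omit [Fintype (GG M)] in
/-- the multiplicities add up to the degree -/
theorem sum_finrank_Ev : ∑ v, Module.finrank ℂ (Ev τ ψ v) = d := by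
  have h := congrArg Matrix.trace (sum_proj_matrix τ S hψ)
  rw [Matrix.trace_sum, Matrix.trace_smul, Matrix.trace_one, Fintype.card_fin, smul_eq_mul,
    Finset.sum_congr rfl (fun v _ => trace_proj τ (chr M ψ v)), ← Finset.mul_sum] at h
  exact_mod_cast mul_left_cancel₀ (Nat.cast_ne_zero.2 Fintype.card_ne_zero) h

omit [Fintype (GG M)] in
theorem sum_finrank_le (s : Finset (W₂ F U)) : ∑ v ∈ s, Module.finrank ℂ (Ev τ ψ v) ≤ d :=
  (Finset.sum_le_sum_of_subset (Finset.subset_univ s)).trans (sum_finrank_Ev τ S hψ).le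

omit [Fintype (GG M)] in
/-- the character on the radical -/
theorem trace_EE (w : W₂ F U) : (RE τ w).trace =
    ∑ v, ψ (polar (P₂ M) v w) * (Module.finrank ℂ (Ev τ ψ v) : ℂ) := by
  apply mul_left_cancel₀ (Nat.cast_ne_zero.2 Fintype.card_ne_zero :
    (Fintype.card (W₂ F U) : ℂ) ≠ 0)
  have h := congrArg (fun X => (RE τ w * X).trace) (sum_proj_matrix τ S hψ)
  simp only [Matrix.mul_sum, Matrix.trace_sum, Cx.R_mul_proj (RE_add τ), Matrix.trace_smul,
    trace_proj, smul_eq_mul, Matrix.mul_smul, Matrix.mul_one, chr_apply] at h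
  rw [← h, Finset.mul_sum]
  exact Finset.sum_congr rfl fun v _ => by ring

omit [Fintype (GG M)] hψ S in
theorem LL_mul_proj (r : ↥(eichGroup (P₂ M))) (v : W₂ F U) :
    (τ (LL M r) : Matrix (Fin d) (Fin d) ℂ) * Cx.proj (RE τ) (chr M ψ v) =
      Cx.proj (RE τ) (chr M ψ (r.1.1 v)) * (τ (LL M r) : Matrix (Fin d) (Fin d) ℂ) := by
  simp only [Cx.proj, Finset.mul_sum, Finset.sum_mul, Matrix.mul_smul, Matrix.smul_mul]
  refine Fintype.sum_equiv r.1.1.toEquiv _ _ fun w => ?_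
  show _ = chr M ψ (r.1.1 v) (-(r.1.1 w)) • (RE τ (r.1.1 w) * _)
  rw [← map_neg, chr_apply, chr_apply, map_polar]
  congr 1
  rw [RE, RE, ← Units.val_mul, ← Units.val_mul, ← map_mul, ← map_mul,
    mul_inv_eq_iff_eq_mul.1 (LL_conj_EE r w)]

omit [Fintype (GG M)] in
/-- the character on the Levi complement -/
theorem trace_LL (r : ↥(eichGroup (P₂ M)))
    (hr : ∀ v, r.1.1 v = v → ∀ x ∈ Ev τ ψ v, ap τ (LL M r) x = x) :
    (τ (LL M r) : Matrix (Fin d) (Fin d) ℂ).trace =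
      ∑ v, if r.1.1 v = v then (Module.finrank ℂ (Ev τ ψ v) : ℂ) else 0 := by
  have hc : (Fintype.card (W₂ F U) : ℂ) ≠ 0 := Nat.cast_ne_zero.2 Fintype.card_ne_zero
  apply mul_left_cancel₀ hc
  have h := congrArg (fun X => ((τ (LL M r) : Matrix (Fin d) (Fin d) ℂ) * X).trace)
    (sum_proj_matrix τ S hψ)
  simp only [Matrix.mul_sum, Matrix.trace_sum, Matrix.trace_smul, smul_eq_mul, Matrix.mul_smul,
    Matrix.mul_one] at h
  rw [← h, Finset.mul_sum]
  refine Finset.sum_congr rfl fun v _ => ?_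
  split_ifs with hv
  · have e : (τ (LL M r) : Matrix (Fin d) (Fin d) ℂ) * Cx.proj (RE τ) (chr M ψ v) =
        Cx.proj (RE τ) (chr M ψ v) := by
      refine Matrix.toLin'.injective (LinearMap.ext fun x => ?_)
      rw [Matrix.toLin'_apply, Matrix.toLin'_apply, ← Matrix.mulVec_mulVec]
      exact hr v hv _ (LinearMap.mem_range.2 ⟨x, rfl⟩)
    rw [e, trace_proj]
  · rw [mul_zero]
    apply mul_left_cancel₀ hc
    rw [mul_zero, ← smul_eq_mul, ← Matrix.trace_smul, ← Matrix.mul_smul,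
      ← Cx.proj_sq (RE_add τ), ← Matrix.mul_assoc, LL_mul_proj, Matrix.trace_mul_comm,
      ← Matrix.mul_assoc, Cx.proj_mul_proj_of_ne (RE_add τ)
        (fun e => hv (chr_injective S hψ e).symm), Matrix.zero_mul, Matrix.trace_zero]

end Cfsg.Agent.CrossChar56.OrthDeg
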